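import Groth.Agent.Lib.RankOne21.Crit
import Mathlib.Algebra.MonoidAlgebra.Basic
import Mathlib.RingTheory.FiniteType

/-!
# Finitely many weights govern the centralisers of the kernels
-/

set_option autoImplicit false
set_option linter.style.haveILetI false
set_option linter.unusedSectionVars false
set_option backward.isDefEq.respectTransparency.types false

universe u

open CategoryTheory Limits MonoidalCategory CartesianMonoidalCategory MonObj AlgebraicGeometry

noncomputable section

namespace Groth.Agent.RankOne21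

open DiagGL TorPts21

variable {d : ℕ} {R : Type u} [CommRing R] {G T : Over (Spec (CommRingCat.of R))} [GrpObj G] [GrpObj T]
  [IsAffine G.left]

attribute [local instance] InvRing21.gamAlg

set_option maxHeartbeats 1600000 in
/-- The functions along the conjugates of a point are combinations of characters. -/
theorem exists_expansion (iT : T ⟶ G) (C : Chars (Fin d → ℤ) T) :
    ∃ ρ : Γ(G.left, ⊤) → AddMonoidAlgebra Γ(G.left, ⊤) (Fin d → ℤ), ∀ (P : Over (Spec (CommRingCat.of R)))
      (g : P ⟶ G) (τ : P ⟶ T) (F : Γ(G.left, ⊤)),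
        ((τ ≫ iT) * g * (τ ≫ iT)⁻¹).left.appTop F =
          ∑ e ∈ (ρ F).coeff.support, g.left.appTop ((ρ F).coeff e) * C.ch τ (Multiplicative.ofAdd e) := by
  letI : Algebra R Γ(G.left, ⊤) := (alg G).toAlgebra
  let L : Type u := AddMonoidAlgebra Γ(G.left, ⊤) (Fin d → ℤ)
  let X : Over (Spec (CommRingCat.of R)) := CoactBr.sp R L
  let incl : Γ(G.left, ⊤) →+* L := AddMonoidAlgebra.singleZeroRingHom
  let iS : Spec (CommRingCat.of Γ(G.left, ⊤)) ⟶ G.left := G.left.isoSpec.inv
  let x : X ⟶ G := Over.homMk (Spec.map (CommRingCat.ofHom incl) ≫ iS) (by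
    show (Spec.map (CommRingCat.ofHom incl) ≫ iS) ≫ G.hom =
      Spec.map (CommRingCat.ofHom (algebraMap R L))
    have h : iS ≫ G.hom = Spec.map (CommRingCat.ofHom (alg G)) := by
      show G.left.isoSpec.inv ≫ G.hom = _
      rw [Iso.inv_comp_eq, Scheme.isoSpec_hom, can_aux]
    rw [Category.assoc, h, ← Spec.map_comp, ← CommRingCat.ofHom_comp])
  obtain ⟨xt, hxt⟩ := C.surj (T := X)
    ((Scheme.ΓSpecIso (CommRingCat.of L)).inv.hom.toMonoidHom.comp (AddMonoidAlgebra.of Γ(G.left, ⊤) (Fin d → ℤ)))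
  let h : X ⟶ G := (xt ≫ iT) * x * (xt ≫ iT)⁻¹
  refine ⟨fun F => (Scheme.ΓSpecIso (CommRingCat.of L)).hom (h.left.appTop F), fun P g τ F => ?_⟩
  let ψ : L →+* Γ(P.left, ⊤) := AddMonoidAlgebra.liftNCRingHom g.left.appTop.hom (C.ch τ) fun a b => Commute.all _ _
  have hψa : ∀ r, ψ (algebraMap R L r) = alg P r := fun r => by
    show ψ (incl (alg G r)) = _
    have h1 : ψ (incl (alg G r)) = g.left.appTop (alg G r) := by
      show AddMonoidAlgebra.liftNC _ _ (AddMonoidAlgebra.single 0 (alg G r)) = _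
      rw [AddMonoidAlgebra.liftNC_single, show Multiplicative.ofAdd (0 : Fin d → ℤ) = 1 from rfl, map_one,
        _root_.mul_one]
      rfl
    rw [h1]
    show g.left.appTop (G.hom.appTop _) = P.hom.appTop _
    rw [← Over.w g, Scheme.Hom.comp_appTop]
    rfl
  let θ : P ⟶ X := DiagGL.mk ψ hψa
  have hev : ∀ l : L, θ.left.appTop ((Scheme.ΓSpecIso (CommRingCat.of L)).inv l) = ψ l := fun l =>
    DFunLike.congr_fun (ev_mk ψ hψa) l
  have hθx : θ ≫ x = g := by
    refine Over.OverMorphism.ext (ext_of_isAffine (CommRingCat.hom_ext (RingHom.ext fun a => ?_)))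
    have hx : x.left.appTop a = (Scheme.ΓSpecIso (CommRingCat.of L)).inv (incl a) := by
      show (Spec.map (CommRingCat.ofHom incl) ≫ iS).appTop a = _
      have h2 : iS.appTop = (Scheme.ΓSpecIso (CommRingCat.of Γ(G.left, ⊤))).inv := by
        show G.left.isoSpec.inv.appTop = _
        have h3 := congrArg Scheme.Hom.appTop G.left.isoSpec.inv_hom_id
        rw [Scheme.Hom.comp_appTop, Scheme.isoSpec_hom, Scheme.toSpecΓ_appTop] at h3
        exact (Iso.hom_comp_eq_id _).1 h3
      rw [Scheme.Hom.comp_appTop, h2]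
      exact (ConcreteCategory.congr_hom (Scheme.ΓSpecIso_inv_naturality (CommRingCat.ofHom incl)) a).symm
    show θ.left.appTop (x.left.appTop a) = _
    rw [hx, hev]
    show AddMonoidAlgebra.liftNC _ _ (AddMonoidAlgebra.single 0 a) = _
    rw [AddMonoidAlgebra.liftNC_single, show Multiplicative.ofAdd (0 : Fin d → ℤ) = 1 from rfl, map_one,
      _root_.mul_one]
    rfl
  have hθt : θ ≫ xt = τ := C.inj fun m => by
    rw [C.nat, hxt]
    show θ.left.appTop ((Scheme.ΓSpecIso (CommRingCat.of L)).inv _) = _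
    rw [hev]
    show AddMonoidAlgebra.liftNC _ _ (AddMonoidAlgebra.single m.toAdd 1) = _
    rw [AddMonoidAlgebra.liftNC_single]
    show g.left.appTop.hom 1 * _ = _
    rw [map_one, _root_.one_mul]
    rfl
  have hθh : θ ≫ h = (τ ≫ iT) * g * (τ ≫ iT)⁻¹ := by
    simp only [h, MonObj.comp_mul, GrpObj.comp_inv, ← Category.assoc, hθx, hθt]
  rw [← hθh]
  show θ.left.appTop (h.left.appTop F) = _
  set l : L := (Scheme.ΓSpecIso (CommRingCat.of L)).hom (h.left.appTop F) with hl
  rw [show h.left.appTop F = (Scheme.ΓSpecIso (CommRingCat.of L)).inv l from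
    (ConcreteCategory.congr_hom (Scheme.ΓSpecIso (CommRingCat.of L)).hom_inv_id _).symm, hev]
  conv_lhs => rw [← AddMonoidAlgebra.sum_coeff_single l]
  rw [Finsupp.sum, map_sum]
  refine Finset.sum_congr rfl fun e _ => ?_
  show AddMonoidAlgebra.liftNC _ _ _ = _
  rw [AddMonoidAlgebra.liftNC_single]
  rfl

variable [LocallyOfFinitePresentation G.hom]

set_option maxHeartbeats 1600000 in
/-- **Finitely many weights**: if a kernel sees all of them, its centraliser centralises the torus on every geometric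
fibre. -/
theorem exists_weights_kernel (iT : T ⟶ G) [IsMonHom iT] (C : Chars (Fin d → ℤ) T) :
    ∃ Δ : Finset (Fin d → ℤ), ∀ δ : Fin d → ℤ, (∀ e ∈ Δ, e ≠ 0 → proj δ e ≠ 0) →
      ∀ (k : Type u) [Field k] [IsAlgClosed k] (φ : Spec (CommRingCat.of k) ⟶ Spec (CommRingCat.of R))
        (g : VecGrp.pt k k ⟶ Red.bc φ G),
        (∀ σ : VecGrp.pt k k ⟶ Red.DS (Spec (CommRingCat.of k)) (Fin (rk δ) → ℤ),
          g * (σ ≫ kerInc (C.baseChange φ T) δ ≫ (Over.pullback φ).map iT) =
            (σ ≫ kerInc (C.baseChange φ T) δ ≫ (Over.pullback φ).map iT) * g) →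
        ∀ τ : VecGrp.pt k k ⟶ Red.bc φ T,
          g * (τ ≫ (Over.pullback φ).map iT) = (τ ≫ (Over.pullback φ).map iT) * g := by
  classical
  obtain ⟨ρ, hρ⟩ := exists_expansion iT C
  letI : Algebra R Γ(G.left, ⊤) := (alg G).toAlgebra
  haveI : Algebra.FiniteType R Γ(G.left, ⊤) := by
    haveI : LocallyOfFiniteType (Spec.map (CommRingCat.ofHom (alg G))) := by
      have h : G.left.isoSpec.inv ≫ G.hom = Spec.map (CommRingCat.ofHom (alg G)) := by
        rw [Iso.inv_comp_eq, Scheme.isoSpec_hom, can_aux]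
      rw [← h]
      infer_instance
    have h2 := (HasRingHomProperty.Spec_iff (P := @LocallyOfFiniteType)).1 ‹_›
    exact RingHom.finiteType_algebraMap.1 h2
  obtain ⟨gens, hgens⟩ := (inferInstance : Algebra.FiniteType R Γ(G.left, ⊤)).out
  let D₀ : Finset (Fin d → ℤ) := insert 0 (gens.biUnion fun F => (ρ F).coeff.support)
  refine ⟨(D₀ ×ˢ D₀).image fun p => p.1 - p.2, fun δ hδ k _ _ φ g hg τ => ?_⟩
  have hinj : ∀ e ∈ D₀, ∀ e' ∈ D₀, proj δ e = proj δ e' → e = e' := fun e he e' he' hee => by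
    by_contra hne
    exact hδ (e - e') (Finset.mem_image.2 ⟨(e, e'), Finset.mem_product.2 ⟨he, he'⟩, rfl⟩) (sub_ne_zero.2 hne)
      (by rw [map_sub, hee, sub_self])
  let P := (Over.map φ).obj (VecGrp.pt k k)
  let g' : P ⟶ G := fl φ G g
  let ψ : Γ(P.left, ⊤) →+* k := (InvRing21.ptHom (k := k) k).toRingHom
  have hψ : Function.Injective ψ := InvRing21.ptHom_injective k
  -- conjugates of `g` by points of the torus
  have hconj : ∀ t : VecGrp.pt k k ⟶ Red.bc φ T,
      fl φ G ((t ≫ (Over.pullback φ).map iT) * g * (t ≫ (Over.pullback φ).map iT)⁻¹) =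
        (fl φ T t ≫ iT) * g' * (fl φ T t ≫ iT)⁻¹ := fun t => by
    rw [fl_mul, fl_mul, ← DiagGL.fl_comp_map]
    congr 1
    exact eq_inv_of_mul_eq_one_left (by
      rw [← fl_mul, inv_mul_cancel]
      exact mul_left_cancel (a := fl φ G (1 : VecGrp.pt k k ⟶ Red.bc φ G))
        (by rw [← fl_mul, _root_.mul_one, _root_.mul_one]))
  have hone : ∀ F, g'.left.appTop F = ∑ e ∈ (ρ F).coeff.support, g'.left.appTop ((ρ F).coeff e) := fun F => by
    have := hρ P g' 1 F
    rw [MonObj.one_comp, inv_one, _root_.mul_one, _root_.one_mul] at this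
    rw [this]
    exact Finset.sum_congr rfl fun e _ => by rw [C.one, _root_.mul_one]
  -- the coefficients of nonzero weight vanish
  have hvan : ∀ F ∈ gens, ∀ e ∈ (ρ F).coeff.support, e ≠ 0 → g'.left.appTop ((ρ F).coeff e) = 0 := fun F hF e he he0 => by
    apply hψ
    rw [map_zero]
    let DS := Red.DS (Spec (CommRingCat.of k)) (Fin (rk δ) → ℤ)
    let χ : (Fin (rk δ) → ℤ) → ((VecGrp.pt k k ⟶ DS) →* k) := fun c =>
      { toFun := fun σ => ptChr (charsDS _ _) σ (Multiplicative.ofAdd c)
        map_one' := by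
          show InvRing21.ptHom k _ = 1
          rw [(charsDS (Spec (CommRingCat.of k)) (Fin (rk δ) → ℤ)).one, map_one]
        map_mul' := fun σ σ' => by
          show InvRing21.ptHom k _ = InvRing21.ptHom k _ * InvRing21.ptHom k _
          rw [(charsDS (Spec (CommRingCat.of k)) (Fin (rk δ) → ℤ)).mul, map_mul] }
    have hχ : Function.Injective χ := fun c c' h => eq_of_forall_ptChr (charsDS _ _) fun σ => DFunLike.congr_fun h σ
    have hli := (linearIndependent_monoidHom (VecGrp.pt k k ⟶ DS) k).comp χ hχ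
    let a : (Fin d → ℤ) → k := fun e => ψ (g'.left.appTop ((ρ F).coeff e))
    let S := (ρ F).coeff.support
    let a' : (Fin (rk δ) → ℤ) → k := fun c =>
      (∑ e ∈ S.filter (fun e => proj δ e = c), a e) - if c = 0 then ψ (g'.left.appTop F) else 0
    let J := insert (0 : Fin (rk δ) → ℤ) (S.image (proj δ))
    have hsum : ∑ c ∈ J, a' c • ((fun f : (VecGrp.pt k k ⟶ DS) →* k => (f : (VecGrp.pt k k ⟶ DS) → k)) ∘ χ) c = 0 := by
      funext σ
      rw [Finset.sum_apply]
      simp only [Pi.smul_apply, smul_eq_mul, Function.comp_apply, a', sub_mul, Finset.sum_sub_distrib, Pi.zero_apply]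
      rw [sub_eq_zero]
      have h1 : ∑ c ∈ J, (∑ e ∈ S.filter (fun e => proj δ e = c), a e) * χ c σ =
          ∑ e ∈ S, a e * χ (proj δ e) σ := by
        rw [← Finset.sum_fiberwise_of_maps_to (t := J) (g := proj δ)
          (fun e he => Finset.mem_insert_of_mem (Finset.mem_image_of_mem _ he))]
        refine Finset.sum_congr rfl fun c _ => ?_
        rw [Finset.sum_mul]
        exact Finset.sum_congr rfl fun e he => by rw [(Finset.mem_filter.1 he).2]
      rw [h1, Finset.sum_eq_single_of_mem (0 : Fin (rk δ) → ℤ) (Finset.mem_insert_self _ _)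
        (fun c _ hc => by rw [if_neg hc, MulZeroClass.zero_mul]), if_pos rfl,
        show χ 0 σ = 1 from map_one (ptChr (charsDS _ _) σ), _root_.mul_one]
      have h2 := hρ P g' (fl φ T (σ ≫ kerInc (C.baseChange φ T) δ)) F
      rw [← hconj, Category.assoc, ← hg σ, mul_inv_cancel_right] at h2
      rw [show g'.left.appTop F = (fl φ G g).left.appTop F from rfl, h2, map_sum]
      refine Finset.sum_congr rfl fun e' _ => ?_
      rw [map_mul]
      congr 1
      exact (ptChr_kerInc (C.baseChange φ T) δ σ e').symm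
    have hz := linearIndependent_iff'.1 hli J a' hsum (proj δ e)
      (Finset.mem_insert_of_mem (Finset.mem_image_of_mem _ he))
    have hD : ∀ e' ∈ S, e' ∈ D₀ := fun e' he' => Finset.mem_insert_of_mem (Finset.mem_biUnion.2 ⟨F, hF, he'⟩)
    have hne : proj δ e ≠ 0 := fun h => he0 (hinj e (hD e he) 0 (Finset.mem_insert_self _ _) (by rw [h, map_zero]))
    simp only [a', if_neg hne, sub_zero] at hz
    rwa [Finset.sum_eq_single_of_mem (s := S.filter fun e' => proj δ e' = proj δ e) e (Finset.mem_filter.2 ⟨he, rfl⟩) (fun e' he' hne' =>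
      absurd (hinj e' (hD e' (Finset.mem_filter.1 he').1) e (hD e he) (Finset.mem_filter.1 he').2) hne')] at hz
  -- hence every torus point fixes `g`
  suffices h : (fl φ T τ ≫ iT) * g' * (fl φ T τ ≫ iT)⁻¹ = g' by
    refine fl_injective φ G ?_
    rw [fl_mul, fl_mul, DiagGL.fl_comp_map]
    exact (mul_inv_eq_iff_eq_mul.1 h).symm
  letI : Algebra R Γ(P.left, ⊤) := (alg P).toAlgebra
  let app : (P ⟶ G) → (Γ(G.left, ⊤) →ₐ[R] Γ(P.left, ⊤)) := fun y =>
    { y.left.appTop.hom with
      commutes' := fun r => by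
        show y.left.appTop (G.hom.appTop _) = P.hom.appTop _
        rw [← Over.w y, Scheme.Hom.comp_appTop]
        rfl }
  refine Over.OverMorphism.ext (ext_of_isAffine (CommRingCat.hom_ext ?_))
  have happ : app ((fl φ T τ ≫ iT) * g' * (fl φ T τ ≫ iT)⁻¹) = app g' := by
    refine AlgHom.ext_of_adjoin_eq_top hgens fun F hF => ?_
    show ((fl φ T τ ≫ iT) * g' * (fl φ T τ ≫ iT)⁻¹).left.appTop F = g'.left.appTop F
    rw [hρ P g' (fl φ T τ) F, hone F]
    refine Finset.sum_congr rfl fun e he => ?_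
    by_cases he0 : e = 0
    · subst he0
      rw [show Multiplicative.ofAdd (0 : Fin d → ℤ) = 1 from rfl, map_one, _root_.mul_one]
    · rw [hvan F hF e he he0, MulZeroClass.zero_mul]
  exact RingHom.ext fun F => DFunLike.congr_fun happ F

end Groth.Agent.RankOne21
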