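import Groth.Agent.Lib.RankOne21.BorelRel
import Groth.Agent.Lib.RankOne21.Grade
import Groth.Agent.Lib.AttrBorel21.GalPts
import Groth.Agent.Lib.AttrBorel21.BorelGen

/-!
# The geometric fibres of the contracted subgroup are Borel subgroups
-/

set_option autoImplicit false
set_option linter.style.haveILetI false
set_option linter.unusedSectionVars false
set_option backward.isDefEq.respectTransparency.types false

universe u

open CategoryTheory Limits MonoidalCategory CartesianMonoidalCategory MonObj AlgebraicGeometry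
open scoped LaurentPolynomial Polynomial

noncomputable section

namespace Groth.Agent.RankOne21

open DiagGL TorPts21 MatGrp21 InvRing21 BigCell21 BorelLam21

attribute [local instance] InvRing21.gamAlg BorelFix21.ptsTop

section Poly

variable {A B : Type u} [CommRing A] [CommRing B]

/-- Laurent polynomials without negative terms are polynomials, compatibly with the operations. -/
theorem exists_poly_of_neg (Ψ : A →+* B[T;T⁻¹]) (h : ∀ F (n : ℤ), n < 0 → (Ψ F).coeff n = 0) :
    ∃ Ψ' : A →+* B[X], ∀ F, Polynomial.toLaurent (Ψ' F) = Ψ F := by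
  let jr : B[X] →+* B[T;T⁻¹] := Polynomial.toLaurent
  have hrange : ∀ F, Ψ F ∈ jr.range := fun F => by
    rw [← AddMonoidAlgebra.sum_coeff_single (Ψ F), Finsupp.sum]
    refine Subring.sum_mem _ fun m hm => ?_
    have h0 : 0 ≤ m := le_of_not_gt fun hn => Finsupp.mem_support_iff.1 hm (h F m hn)
    refine ⟨Polynomial.monomial m.toNat ((Ψ F).coeff m), ?_⟩
    show Polynomial.toLaurent _ = _
    rw [Polynomial.toLaurent_C_mul_T, ← LaurentPolynomial.single_eq_C_mul_T, Int.toNat_of_nonneg h0]
  have hj : Function.Injective jr := Polynomial.toLaurent_injective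
  let er : B[X] ≃+* jr.range := RingEquiv.ofBijective jr.rangeRestrict
    ⟨fun p q h => hj (congrArg Subtype.val h), jr.rangeRestrict_surjective⟩
  exact ⟨er.symm.toRingHom.comp (Ψ.codRestrict _ hrange), fun F =>
    congrArg Subtype.val (er.apply_symm_apply ⟨Ψ F, hrange F⟩)⟩

variable {k : Type u} [Field k]

theorem evh_mapRingHom (f : A →+* k) (s : kˣ) (l : A[T;T⁻¹]) :
    evh (RingHom.id k) s (AddMonoidAlgebra.mapRingHom ℤ f l) = evh f s l := by
  induction l using AddMonoidAlgebra.induction_linear with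
  | zero => simp
  | add p q hp hq => rw [map_add, map_add, map_add, hp, hq]
  | single m a =>
    rw [AddMonoidAlgebra.mapRingHom_single, evh_single, evh_single]
    rfl

theorem evh_toLaurent (s : kˣ) (p : k[X]) : evh (RingHom.id k) s (Polynomial.toLaurent p) = p.eval (s : k) := by
  induction p using Polynomial.induction_on' with
  | add p q hp hq => rw [map_add, map_add, hp, hq, Polynomial.eval_add]
  | monomial m a =>
    rw [Polynomial.toLaurent_C_mul_T, ← LaurentPolynomial.single_eq_C_mul_T, evh_single, Polynomial.eval_monomial,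
      zpow_natCast, Units.val_pow_eq_pow_val]
    rfl

/-- A Laurent polynomial vanishing at all units of an infinite field is zero. -/
theorem eq_zero_of_evh [IsAlgClosed k] {l : k[T;T⁻¹]} (h : ∀ s : kˣ, evh (RingHom.id k) s l = 0) : l = 0 := by
  let χ : ℤ → (kˣ →* k) := fun m => (Units.coeHom k).comp (zpowGroupHom m)
  have hχ : Function.Injective χ := fun m m' h => BorelLam21.zpow_inj fun s => Units.ext (DFunLike.congr_fun h s)
  have hli := (linearIndependent_monoidHom kˣ k).comp χ hχ
  refine AddMonoidAlgebra.coeff_injective (Finsupp.ext fun m => ?_)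
  by_contra hm
  refine hm (linearIndependent_iff'.1 hli l.coeff.support l.coeff ?_ m (Finsupp.mem_support_iff.2 hm))
  funext s
  rw [Finset.sum_apply]
  refine Eq.trans ?_ (h s)
  rw [evh_eq_sum]
  rfl

end Poly

/-- Closed immersions are stable under pullback. -/
theorem isClosedImmersion_bcMap {S S' : Scheme.{u}} (φ : S' ⟶ S) {X Y : Over S} (f : X ⟶ Y)
    [IsClosedImmersion f.left] : IsClosedImmersion ((Over.pullback φ).map f).left := by
  refine MorphismProperty.of_isPullback (P := @IsClosedImmersion) (?_ : IsPullback (Limits.pullback.fst X.hom φ)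
    ((Over.pullback φ).map f).left f.left (Limits.pullback.fst Y.hom φ)) ‹_›
  refine IsPullback.of_bot (v₂₁ := ((Over.pullback φ).obj Y).hom) (v₂₂ := Y.hom) (h₃₁ := φ) ?_ ?_
    (IsPullback.of_hasPullback Y.hom φ)
  · rw [Over.w f, Over.w ((Over.pullback φ).map f)]
    exact IsPullback.of_hasPullback X.hom φ
  · exact (Limits.pullback.lift_fst _ _ _).symm

variable {R : Type u} [CommRing R] {d : ℕ} {G T : Over (Spec (CommRingCat.of R))} [GrpObj G] [GrpObj T]
  [IsAffine G.left] {k : Type u} [Field k] [IsAlgClosed k]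

set_option maxHeartbeats 6400000 in
/-- **The fibre of the contracted subgroup of a cocharacter separating the weights is a Borel subgroup.** -/
theorem isBorelOver_attr (C : Chars (Fin d → ℤ) T) (iT : T ⟶ G) [IsMonHom iT] (b : Fin d → ℤ)
    {ρ : Γ(G.left, ⊤) → AddMonoidAlgebra Γ(G.left, ⊤) (Fin d → ℤ)}
    (hρ : ∀ (P : Over (Spec (CommRingCat.of R))) (g : P ⟶ G) (τ : P ⟶ T) (F : Γ(G.left, ⊤)),
      ((τ ≫ iT) * g * (τ ≫ iT)⁻¹).left.appTop F =
        ∑ e ∈ (ρ F).coeff.support, g.left.appTop ((ρ F).coeff e) * C.ch τ (Multiplicative.ofAdd e))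
    {gens : Finset Γ(G.left, ⊤)}
    (hgens : letI := (alg G).toAlgebra; Algebra.adjoin R (gens : Set Γ(G.left, ⊤)) = ⊤)
    (hb : ∀ F ∈ gens, ∀ F' ∈ gens, ∀ e ∈ insert 0 (ρ F).coeff.support, ∀ e' ∈ insert 0 (ρ F').coeff.support,
      pairing e b = pairing e' b → e = e')
    {Φ : Γ(G.left, ⊤) →+* Γ(G.left, ⊤)[T;T⁻¹]}
    (hΦ0 : ∀ r, Φ (alg G r) = AddMonoidAlgebra.single 0 (alg G r))
    (hΦ : ∀ (P : Over (Spec (CommRingCat.of R))) (u : Γ(P.left, ⊤)ˣ) (g : P ⟶ G) (F : Γ(G.left, ⊤)),
      (conjU C b iT u g).left.appTop F = evh g.left.appTop.hom u (Φ F))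
    {B : Over (Spec (CommRingCat.of R))} [GrpObj B] (iB : B ⟶ G) [IsMonHom iB] [IsClosedImmersion iB.left]
    [Smooth B.hom]
    (hB : ∀ (X : Over (Spec (CommRingCat.of R))) (x : X ⟶ G), (∃ y, y ≫ iB = x) ↔ LimU Φ x)
    (φ : Spec (CommRingCat.of k) ⟶ Spec (CommRingCat.of R))
    (hGk : Red.IsReductiveOver k (Red.bc φ G)) (hTk : AGF.IsMaxTorus ((Over.pullback φ).map iT)) :
    Red.IsBorelOver k ((Over.pullback φ).map iB) := by
  classical
  let Gk := Red.bc φ G
  let iTk : Red.bc φ T ⟶ Gk := (Over.pullback φ).map iT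
  let iBk : Red.bc φ B ⟶ Gk := (Over.pullback φ).map iB
  let Ck := C.baseChange φ T
  haveI : IsAffine Gk.left := hGk.1
  haveI : Smooth Gk.hom := hGk.2.1
  haveI : ConnectedSpace Gk.left := hGk.2.2.1
  obtain ⟨n, r, hr, hrc, a, hdiagX⟩ := AttrBorel21.exists_diagRep Ck iTk
  haveI := hr
  haveI := hrc
  have hdiag : ∀ τ : VecGrp.pt k k ⟶ Red.bc φ T, (mtxFn r (τ ≫ iTk) : Matrix (Fin n) (Fin n) k) =
      Matrix.diagonal fun j => ptChr Ck τ (Multiplicative.ofAdd (a j)) := fun τ => by
    rw [coe_mtxFn, mtxMat, hdiagX, Matrix.diagonal_map (map_zero _)]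
    rfl
  let P := (Over.map φ).obj (VecGrp.pt k k)
  let ψ : Γ(P.left, ⊤) →+* k := (InvRing21.ptHom (k := k) k).toRingHom
  have hψ : Function.Injective ψ := InvRing21.ptHom_injective k
  let uS : kˣ → Γ(P.left, ⊤)ˣ := Units.map (Scheme.ΓSpecIso (CommRingCat.of k)).inv.hom.toMonoidHom
  have huS : ∀ s, Units.map ψ.toMonoidHom (uS s) = s := fun s =>
    Units.ext (ConcreteCategory.congr_hom (Scheme.ΓSpecIso (CommRingCat.of k)).inv_hom_id _)
  choose lamK hlamK using fun s => fl_surjective φ T (lamPt C b (uS s))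
  have hchr : ∀ (s : kˣ) (e : Fin d → ℤ), ptChr Ck (lamK s) (Multiplicative.ofAdd e) = ((s ^ pairing e b : kˣ) : k) :=
    fun s e => by
      show ψ (C.ch (fl φ T (lamK s)) (Multiplicative.ofAdd e)) = _
      rw [hlamK, ch_lamPt]
      conv_rhs => rw [← huS s, ← map_zpow]
      rfl
  have hlam : IsLam r (wt a b) fun s => lamK s ≫ iTk := fun s => by
    rw [hdiag]
    simp only [hchr]
    rfl
  have hconjT : ∀ (t : VecGrp.pt k k ⟶ Red.bc φ T) (g : VecGrp.pt k k ⟶ Gk),
      fl φ G ((t ≫ iTk) * g * (t ≫ iTk)⁻¹) = (fl φ T t ≫ iT) * fl φ G g * (fl φ T t ≫ iT)⁻¹ := fun t g => by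
    rw [fl_mul, fl_mul, ← DiagGL.fl_comp_map]
    congr 1
    exact eq_inv_of_mul_eq_one_left (by
      rw [← fl_mul, inv_mul_cancel]
      exact mul_left_cancel (a := fl φ G (1 : VecGrp.pt k k ⟶ Red.bc φ G))
        (by rw [← fl_mul, _root_.mul_one, _root_.mul_one]))
  have hcurve : ∀ (g : VecGrp.pt k k ⟶ Gk) (s : kˣ) F,
      ψ ((fl φ G ((lamK s ≫ iTk) * g * (lamK s ≫ iTk)⁻¹)).left.appTop F) =
        evh (ψ.comp (fl φ G g).left.appTop.hom) s (Φ F) := fun g s F => by
    rw [hconjT, hlamK]
    have h := congrArg ψ (hΦ P (uS s) (fl φ G g) F)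
    rw [map_evh, huS] at h
    exact h
  -- a point commuting with the one parameter subgroup commutes with the torus
  have hcent : ∀ g : VecGrp.pt k k ⟶ Gk, (∀ s, (lamK s ≫ iTk) * g = g * (lamK s ≫ iTk)) →
      ∀ τ : VecGrp.pt k k ⟶ Red.bc φ T, (τ ≫ iTk) * g = g * (τ ≫ iTk) := by
    intro g hg τ
    let g' := fl φ G g
    have hone : ∀ F, g'.left.appTop F = ∑ e ∈ (ρ F).coeff.support, g'.left.appTop ((ρ F).coeff e) := fun F => by
      have := hρ P g' 1 F
      rw [MonObj.one_comp, inv_one, _root_.mul_one, _root_.one_mul] at this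
      rw [this]
      exact Finset.sum_congr rfl fun e _ => by rw [C.one, _root_.mul_one]
    have hvan : ∀ F ∈ gens, ∀ e ∈ (ρ F).coeff.support, e ≠ 0 → g'.left.appTop ((ρ F).coeff e) = 0 :=
      fun F hF e he he0 => by
        apply hψ
        rw [map_zero]
        let l : k[T;T⁻¹] := (∑ e' ∈ (ρ F).coeff.support,
          AddMonoidAlgebra.single (pairing e' b) (ψ (g'.left.appTop ((ρ F).coeff e')))) -
          AddMonoidAlgebra.single 0 (ψ (g'.left.appTop F))
        have hl : l = 0 := eq_zero_of_evh fun s => by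
          rw [map_sub, map_sum, sub_eq_zero, evh_single, zpow_zero, Units.val_one, _root_.mul_one]
          have h2 := congrArg ψ (hρ P g' (fl φ T (lamK s)) F)
          rw [← hconjT, hg, mul_inv_cancel_right, map_sum] at h2
          refine Eq.trans ?_ h2.symm
          refine Finset.sum_congr rfl fun e' _ => ?_
          rw [evh_single, map_mul, ← hchr s e']
          rfl
        have hpne : pairing e b ≠ 0 := fun h => he0 (hb F hF F hF e (Finset.mem_insert_of_mem he) 0
          (Finset.mem_insert_self _ _) (by rw [h]; simp [pairing]))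
        have h3 := congrArg (fun z : k[T;T⁻¹] => z.coeff (pairing e b)) hl
        simp only [l, AddMonoidAlgebra.coeff_sub, AddMonoidAlgebra.coeff_sum, Finsupp.sub_apply,
          Finsupp.finset_sum_apply, AddMonoidAlgebra.coeff_single, AddMonoidAlgebra.coeff_zero,
          Finsupp.zero_apply, Finsupp.single_eq_of_ne hpne, sub_zero] at h3
        rw [Finset.sum_eq_single_of_mem e he fun e' he' hne => Finsupp.single_eq_of_ne fun h => hne
          (hb F hF F hF e' (Finset.mem_insert_of_mem he') e (Finset.mem_insert_of_mem he) h.symm),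
          Finsupp.single_eq_same] at h3
        exact h3
    refine mul_inv_eq_iff_eq_mul.1 (fl_injective φ G ?_)
    rw [hconjT]
    letI : Algebra R Γ(P.left, ⊤) := (alg P).toAlgebra
    letI : Algebra R Γ(G.left, ⊤) := (alg G).toAlgebra
    let app : (P ⟶ G) → (Γ(G.left, ⊤) →ₐ[R] Γ(P.left, ⊤)) := fun y =>
      { y.left.appTop.hom with commutes' := appTop_alg y }
    refine point_ext fun F => ?_
    have happ : app ((fl φ T τ ≫ iT) * g' * (fl φ T τ ≫ iT)⁻¹) = app g' := by
      refine AlgHom.ext_of_adjoin_eq_top hgens fun F hF => ?_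
      show ((fl φ T τ ≫ iT) * g' * (fl φ T τ ≫ iT)⁻¹).left.appTop F = g'.left.appTop F
      rw [hρ P g' (fl φ T τ) F, hone F]
      refine Finset.sum_congr rfl fun e he => ?_
      by_cases he0 : e = 0
      · subst he0
        rw [show Multiplicative.ofAdd (0 : Fin d → ℤ) = 1 from rfl, map_one, _root_.mul_one]
      · rw [hvan F hF e he he0, MulZeroClass.zero_mul]
    exact DFunLike.congr_fun happ F
  -- the points of the contracted subgroup
  have hpts : ∀ g : VecGrp.pt k k ⟶ Gk, (∃ y, y ≫ iBk = g) ↔ g ∈ upPts r (wt a b) := by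
    intro g
    have hstep : (∃ y, y ≫ iBk = g) ↔ LimU Φ (fl φ G g) := by
      rw [← hB]
      constructor
      · rintro ⟨y, rfl⟩
        exact ⟨fl φ B y, (DiagGL.fl_comp_map φ y iB).symm⟩
      · rintro ⟨y', hy'⟩
        obtain ⟨y, rfl⟩ := fl_surjective φ B y'
        exact ⟨y, fl_injective φ G ((DiagGL.fl_comp_map φ y iB).trans hy')⟩
    rw [hstep]
    constructor
    · intro hL
      let Ψ : Γ(G.left, ⊤) →+* k[T;T⁻¹] :=
        (AddMonoidAlgebra.mapRingHom ℤ (ψ.comp (fl φ G g).left.appTop.hom)).comp Φ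
      obtain ⟨Ψ', hΨ'⟩ := exists_poly_of_neg Ψ fun F m hm => by
        show (AddMonoidAlgebra.mapRingHom ℤ _ (Φ F)).coeff m = 0
        rw [AddMonoidAlgebra.coeff_mapRingHom]
        show ψ ((fl φ G g).left.appTop _) = 0
        rw [hL F m hm, map_zero]
      let PX := (Over.map φ).obj (VecGrp.pt k k[X])
      let ιC : PX ⟶ P := (Over.map φ).map (VecGrp.ptMap (Algebra.ofId k k[X]))
      let eX := Scheme.ΓSpecIso (CommRingCat.of k[X])
      obtain ⟨q', hq'⟩ := exists_point (G := G) (P := PX) (eX.inv.hom.comp Ψ') fun c => by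
        refine InvRing21.ptHom_injective (k := k) k[X] ?_
        refine (ConcreteCategory.congr_hom eX.inv_hom_id (Ψ' (alg G c))).trans ?_
        have h1 : alg PX c = ιC.left.appTop (alg P c) := (appTop_alg ιC c).symm
        rw [h1]
        refine Eq.trans ?_ (AttrBorel21.ptHom_ptMap (Algebra.ofId k k[X]) (alg P c)).symm
        show Ψ' (alg G c) = Polynomial.C (ψ (alg P c))
        refine Polynomial.toLaurent_injective ?_
        rw [hΨ', Polynomial.toLaurent_C]
        show AddMonoidAlgebra.mapRingHom ℤ _ (Φ (alg G c)) = _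
        have h0 : Φ (alg G c) = AddMonoidAlgebra.single 0 (alg G c) := hΦ0 c
        rw [h0, AddMonoidAlgebra.mapRingHom_single]
        show AddMonoidAlgebra.single (0 : ℤ) (ψ ((fl φ G g).left.appTop (alg G c))) = _
        rw [appTop_alg]
        rfl
      obtain ⟨q, rfl⟩ := fl_surjective φ G q'
      refine isUp_of_poly (AttrBorel21.pmat r q) fun s D hD => ?_
      have hev : VecGrp.ptMap (R := k) (Polynomial.aeval (s : k)) ≫ q = (lamK s ≫ iTk) * g * (lamK s ≫ iTk)⁻¹ := by
        refine fl_injective φ G (point_ext fun F => hψ ?_)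
        rw [hcurve, DiagGL.fl_comp]
        show InvRing21.ptHom k ((VecGrp.ptMap (Polynomial.aeval (s : k))).left.appTop ((fl φ G q).left.appTop F)) = _
        rw [hq', AttrBorel21.ptHom_ptMap, ← evh_mapRingHom, show AddMonoidAlgebra.mapRingHom ℤ
          (ψ.comp (fl φ G g).left.appTop.hom) (Φ F) = Ψ F from rfl, ← hΨ', evh_toLaurent]
        exact congrArg (Polynomial.aeval (s : k)) (ConcreteCategory.congr_hom eX.inv_hom_id (Ψ' F))
      have hD' : D = mtxFn r (lamK s ≫ iTk) := Units.ext (hD.trans (hlam s).symm)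
      have h2 : D * mtxFn r g * D⁻¹ = mtxFn r (VecGrp.ptMap (R := k) (Polynomial.aeval (s : k)) ≫ q) := by
        rw [hev, hD', ← mtx_apply, ← mtx_apply, ← mtx_apply, map_mul, map_mul, map_inv]
      rw [mtx_apply, h2]
      show AttrBorel21.pmat r (VecGrp.ptMap (R := k) (Polynomial.aeval (s : k)) ≫ q) = _
      rw [AttrBorel21.pmat_comp_ptMap]
      ext i j
      simp [Polynomial.coe_aeval_eq_eval]
    · intro hg F m hm
      -- functions restricted to the curve are polynomials
      let S : Subalgebra k Γ(Gk.left, ⊤) :=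
        { carrier := {H | ∃ p : k[X], ∀ s : kˣ, val ((lamK s ≫ iTk) * g * (lamK s ≫ iTk)⁻¹) H = p.eval (s : k)}
          mul_mem' := fun {H H'} ⟨p, hp⟩ ⟨p', hp'⟩ => ⟨p * p', fun s => by
            rw [map_mul, hp, hp', Polynomial.eval_mul]⟩
          add_mem' := fun {H H'} ⟨p, hp⟩ ⟨p', hp'⟩ => ⟨p + p', fun s => by
            rw [map_add, hp, hp', Polynomial.eval_add]⟩
          algebraMap_mem' := fun c => ⟨Polynomial.C c, fun s => by
            rw [AlgHom.commutes, Polynomial.eval_C]; rfl⟩ }
      have hS : S = ⊤ := by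
        rw [← top_le_iff, ← AttrBorel21.adjoin_gen r]
        refine Algebra.adjoin_le ?_
        have hent : ∀ (z : VecGrp.pt k k ⟶ Gk) i j, val z (DiagGL.mat r i j) = (mtxFn r z : Matrix (Fin n) (Fin n) k) i j :=
          fun z i j => by rw [coe_mtxFn, mtxMat, DiagGL.mat_comp]; rfl
        rintro _ ⟨o, rfl⟩
        rcases o with _ | ⟨i, j⟩
        · refine ⟨Polynomial.C (Matrix.det (mtxFn r g : Matrix (Fin n) (Fin n) k))⁻¹, fun s => ?_⟩
          rw [Polynomial.eval_C]
          have hdet : ∀ z : VecGrp.pt k k ⟶ Gk, val z (AttrBorel21.gen r none) =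
              (Matrix.det (mtxFn r z : Matrix (Fin n) (Fin n) k))⁻¹ := fun z => by
            refine eq_inv_of_mul_eq_one_left ?_
            have h := congrArg (val z) (congrArg (AttrBorel21.coordHom r) (CoordGrp.GLn.Dinv_mul_det (k := k) (n := n)))
            rw [map_mul, map_mul, map_one, map_one, CoordGrp.GLn.det_eq, AlgHom.map_det, AlgHom.map_det] at h
            refine Eq.trans ?_ h
            refine congrArg₂ (· * ·) rfl (congrArg Matrix.det ?_)
            ext i j
            exact (hent z i j).symm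
          rw [hdet, show mtxFn r ((lamK s ≫ iTk) * g * (lamK s ≫ iTk)⁻¹) =
            mtxFn r (lamK s ≫ iTk) * mtxFn r g * (mtxFn r (lamK s ≫ iTk))⁻¹ by
              rw [← mtx_apply, ← mtx_apply, ← mtx_apply, map_mul, map_mul, map_inv],
            Matrix.GeneralLinearGroup.coe_mul, Matrix.GeneralLinearGroup.coe_mul, Matrix.det_mul, Matrix.det_mul,
            mul_comm (Matrix.det _) (Matrix.det (mtxFn r g : Matrix (Fin n) (Fin n) k)), _root_.mul_assoc,
            ← Matrix.det_mul, Units.mul_inv, Matrix.det_one, _root_.mul_one]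
        · refine ⟨curve (wt a b) (mtxFn r g : Matrix (Fin n) (Fin n) k) i j, fun s => ?_⟩
          show val _ (DiagGL.mat r i j) = _
          rw [hent, conj_lam hlam hg]
          rfl
      let H : Γ(Gk.left, ⊤) := (pullback.fst G.hom φ).appTop F
      obtain ⟨p, hp⟩ : H ∈ S := hS.symm ▸ Algebra.mem_top
      have hl : AddMonoidAlgebra.mapRingHom ℤ (ψ.comp (fl φ G g).left.appTop.hom) (Φ F) - Polynomial.toLaurent p = 0 :=
        eq_zero_of_evh fun s => by
          rw [map_sub, evh_mapRingHom, evh_toLaurent, ← hcurve, ← hp s, sub_eq_zero]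
          rfl
      have h1 := congrArg (fun z : k[T;T⁻¹] => z.coeff m) hl
      simp only [AddMonoidAlgebra.coeff_sub, Finsupp.sub_apply, AddMonoidAlgebra.coeff_mapRingHom,
        AttrBorel21.toLaurent_coeff_of_neg p hm, sub_zero, AddMonoidAlgebra.coeff_zero, Finsupp.zero_apply] at h1
      exact hψ (h1.trans (map_zero ψ).symm)
  -- a regular perturbation with the same contracted points
  let Sd : Finset (Fin d → ℤ) :=
    ((Finset.univ : Finset (Fin n × Fin n)).image fun p => a p.1 - a p.2).filter fun e => e ≠ 0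
  obtain ⟨c, hc⟩ := exists_pairing_ne_zero Sd fun e he => (Finset.mem_filter.1 he).2
  let N : ℤ := 1 + ∑ p : Fin n × Fin n, |pairing (a p.1 - a p.2) c|
  have hN : ∀ i j, |pairing (a i - a j) c| < N := fun i j => by
    have := Finset.single_le_sum (f := fun p : Fin n × Fin n => |pairing (a p.1 - a p.2) c|)
      (fun _ _ => abs_nonneg _) (Finset.mem_univ (i, j))
    show _ < 1 + _
    linarith
  let b' : Fin d → ℤ := N • b + c
  have hwt : ∀ i j, wt a b' i - wt a b' j = N * (wt a b i - wt a b j) + pairing (a i - a j) c := fun i j => by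
    rw [wt_sub, wt_sub]
    simp only [b', pairing, Pi.add_apply, Pi.smul_apply, smul_eq_mul, mul_add, Finset.sum_add_distrib,
      Finset.mul_sum]
    congr 1
    exact Finset.sum_congr rfl fun l _ => by ring
  have hlt : ∀ i j, wt a b i < wt a b j → wt a b' i < wt a b' j := fun i j h => by
    have h1 := hwt i j
    have h2 := hN i j
    have h4 := le_abs_self (pairing (a i - a j) c)
    have h0 : 0 ≤ N := le_of_lt (lt_of_le_of_lt (abs_nonneg _) h2)
    have h3 : N * (wt a b i - wt a b j) ≤ N * (-1) := mul_le_mul_of_nonneg_left (by omega) h0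
    linarith
  have hsep : ∀ i j, wt a b' i = wt a b' j → a i = a j := fun i j h => by
    by_contra hne
    have hcij : pairing (a i - a j) c ≠ 0 := hc _ (Finset.mem_filter.2
      ⟨Finset.mem_image.2 ⟨(i, j), Finset.mem_univ _, rfl⟩, sub_ne_zero.2 hne⟩)
    rcases lt_trichotomy (wt a b i) (wt a b j) with h' | h' | h'
    · exact (hlt i j h').ne h
    · have h1 := hwt i j
      rw [h, h', sub_self, sub_self, mul_zero, zero_add] at h1
      exact hcij h1.symm
    · exact (hlt j i h').ne h.symm
  have hup : ∀ g : VecGrp.pt k k ⟶ Gk, g ∈ upPts r (wt a b') ↔ g ∈ upPts r (wt a b) := by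
    refine fun g => ⟨fun hg i j hij => hg i j (hlt i j hij), fun hg i j hij => ?_⟩
    have hgU : IsUp (wt a b) (mtxFn r g : Matrix (Fin n) (Fin n) k) := (mem_upPts r).1 hg
    show (mtxFn r g : Matrix (Fin n) (Fin n) k) i j = 0
    rcases lt_trichotomy (wt a b i) (wt a b j) with h' | h' | h'
    · exact hg i j h'
    · obtain ⟨z, -, -, hz⟩ := exists_curve_pt hlam hg (isClosed_univ) (fun s => Set.mem_univ _) 0
      have hzc : ∀ s, (lamK s ≫ iTk) * z = z * (lamK s ≫ iTk) := fun s => mtxFn_injective r (Units.ext (by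
        rw [← mtx_apply, ← mtx_apply, map_mul, map_mul, Units.val_mul, Units.val_mul, mtx_apply, mtx_apply, hz,
          hlam s, dg]
        ext p q
        rw [Matrix.diagonal_mul, Matrix.mul_diagonal, curveAt_zero_apply hgU]
        split_ifs with h
        · rw [h, mul_comm]
        · rw [MulZeroClass.mul_zero, MulZeroClass.zero_mul]))
      by_contra hne
      refine hij.ne (congrArg (fun e => pairing e b') (eq_of_forall_ptChr Ck fun τ => ?_))
      have h1 := congrArg (fun x => ((mtx r x : GL (Fin n) k) : Matrix (Fin n) (Fin n) k) i j) (hcent z hzc τ)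
      simp only [map_mul, Units.val_mul, mtx_apply, hdiag, Matrix.diagonal_mul, Matrix.mul_diagonal, hz,
        curveAt_zero_apply hgU, if_pos h'] at h1
      rw [mul_comm] at h1
      exact mul_left_cancel₀ hne h1
    · exact absurd (hlt j i h') (not_lt.2 hij.le)
  obtain ⟨B', _, iB', hB', hB'pts⟩ := exists_upBorel (b := b') Ck hGk hTk hdiag hsep
  haveI := hB'.1
  haveI := hB'.2.1
  haveI := hB'.2.2.1
  haveI : IsClosedImmersion iBk.left := isClosedImmersion_bcMap φ iB
  haveI : IsAffine (Red.bc φ B).left := isAffine_of_isAffineHom iBk.left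
  haveI : IsAffine B'.left := isAffine_of_isAffineHom iB'.left
  haveI : Smooth (Red.bc φ B).hom := inferInstanceAs (Smooth (pullback.snd B.hom φ))
  obtain ⟨f, hf⟩ := exists_lift_of_pts iB' iBk fun y => (hB'pts _).2 ((hup _).2 ((hpts _).1 ⟨y, rfl⟩))
  obtain ⟨g, hg⟩ := exists_lift_of_pts iBk iB' fun y => (hpts _).2 ((hup _).1 ((hB'pts _).1 ⟨y, rfl⟩))
  haveI : Mono iB' := Over.mono_of_mono_left iB'
  haveI : Mono iBk := Over.mono_of_mono_left _
  let e : Red.bc φ B ≅ B' := ⟨f, g, (cancel_mono iBk).1 (by rw [Category.assoc, hg, hf, Category.id_comp]),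
    (cancel_mono iB').1 (by rw [Category.assoc, hf, hg, Category.id_comp])⟩
  haveI : IsMonHom e.hom := BorelFix21.isMonHom_of_comp iB' f (hf.symm ▸ inferInstanceAs (IsMonHom iBk))
  show Red.IsBorelOver k iBk
  rw [← hf]
  exact FinBorel21.isBorelOver_iso hB' e

end Groth.Agent.RankOne21
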