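import Groth.Agent.Lib.AttrBorel21.Main

/-!
# The contracted subgroup of a one parameter subgroup over a ring
-/

set_option autoImplicit false
set_option linter.style.haveILetI false
set_option linter.unusedSectionVars false
set_option backward.isDefEq.respectTransparency.types false

universe u

open CategoryTheory Limits MonoidalCategory CartesianMonoidalCategory MonObj AlgebraicGeometry
open scoped LaurentPolynomial Polynomial

noncomputable section

namespace Groth.Agent.RankOne21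

open DiagGL TorPts21

section Evaluation

variable {A B B' : Type u} [CommRing A] [CommRing B] [CommRing B']

/-- Evaluation of a Laurent polynomial at a unit. -/
def evh (f : A →+* B) (u : Bˣ) : A[T;T⁻¹] →+* B :=
  AddMonoidAlgebra.liftNCRingHom f ((Units.coeHom B).comp (zpowersHom Bˣ u)) fun _ _ => Commute.all _ _

theorem evh_single (f : A →+* B) (u : Bˣ) (n : ℤ) (a : A) :
    evh f u (AddMonoidAlgebra.single n a) = f a * ↑(u ^ n) := by
  show AddMonoidAlgebra.liftNC _ _ (AddMonoidAlgebra.single n a) = _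
  rw [AddMonoidAlgebra.liftNC_single]
  rfl

theorem evh_eq_sum (f : A →+* B) (u : Bˣ) (l : A[T;T⁻¹]) :
    evh f u l = ∑ n ∈ l.coeff.support, f (l.coeff n) * ↑(u ^ n) := by
  conv_lhs => rw [← AddMonoidAlgebra.sum_coeff_single l]
  rw [Finsupp.sum, map_sum]
  exact Finset.sum_congr rfl fun n _ => evh_single f u n _

theorem map_evh (h : B →+* B') (f : A →+* B) (u : Bˣ) (l : A[T;T⁻¹]) :
    h (evh f u l) = evh (h.comp f) (Units.map h.toMonoidHom u) l := by
  rw [evh_eq_sum, evh_eq_sum, map_sum]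
  refine Finset.sum_congr rfl fun n _ => ?_
  rw [map_mul, ← map_zpow]
  rfl

theorem unitT_zpow (m : ℤ) :
    (((LaurentPolynomial.isUnit_T (R := A) 1).unit ^ m : A[T;T⁻¹]ˣ) : A[T;T⁻¹]) = AddMonoidAlgebra.single m 1 := by
  have h : (LaurentPolynomial.isUnit_T (R := A) 1).unit =
      ⟨LaurentPolynomial.T 1, LaurentPolynomial.T (-1), by
          rw [← LaurentPolynomial.T_add, show (1 : ℤ) + -1 = 0 from rfl, LaurentPolynomial.T_zero],
        by rw [← LaurentPolynomial.T_add, show (-1 : ℤ) + 1 = 0 from rfl, LaurentPolynomial.T_zero]⟩ := Units.ext rfl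
  induction m using Int.induction_on with
  | zero => rw [zpow_zero, Units.val_one, AddMonoidAlgebra.one_def]
  | succ k hk =>
    rw [zpow_add_one, Units.val_mul, hk, h]
    show _ * AddMonoidAlgebra.single (1 : ℤ) (1 : A) = _
    rw [AddMonoidAlgebra.single_mul_single, _root_.one_mul]
  | pred k hk =>
    rw [zpow_sub_one, Units.val_mul, hk, h]
    show _ * AddMonoidAlgebra.single (-1 : ℤ) (1 : A) = _
    rw [AddMonoidAlgebra.single_mul_single, _root_.one_mul]
    rfl

end Evaluation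

variable {R : Type u} [CommRing R] {d : ℕ} {G T : Over (Spec (CommRingCat.of R))} [GrpObj G] [GrpObj T]
  (C : Chars (Fin d → ℤ) T) (b : Fin d → ℤ)

theorem exists_lamPt (P : Over (Spec (CommRingCat.of R))) (u : Γ(P.left, ⊤)ˣ) :
    ∃ τ : P ⟶ T, ∀ m, C.ch τ (Multiplicative.ofAdd m) = ↑(u ^ pairing m b) := by
  obtain ⟨τ, hτ⟩ := C.surj (T := P)
    { toFun := fun m => (↑(u ^ pairing m.toAdd b) : Γ(P.left, ⊤))
      map_one' := by simp [pairing]
      map_mul' := fun m m' => by
        rw [← Units.val_mul, ← zpow_add]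
        congr 2
        simp [pairing, add_mul, Finset.sum_add_distrib] }
  exact ⟨τ, fun m => by rw [hτ]; rfl⟩

/-- The point of the one parameter subgroup at a unit. -/
def lamPt {P : Over (Spec (CommRingCat.of R))} (u : Γ(P.left, ⊤)ˣ) : P ⟶ T := (exists_lamPt C b P u).choose

theorem ch_lamPt {P : Over (Spec (CommRingCat.of R))} (u : Γ(P.left, ⊤)ˣ) (m : Fin d → ℤ) :
    C.ch (lamPt C b u) (Multiplicative.ofAdd m) = ↑(u ^ pairing m b) :=
  (exists_lamPt C b P u).choose_spec m

theorem lamPt_nat {P P' : Over (Spec (CommRingCat.of R))} (t : P' ⟶ P) (u : Γ(P.left, ⊤)ˣ) :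
    t ≫ lamPt C b u = lamPt C b (Units.map t.left.appTop.hom.toMonoidHom u) := C.inj fun m => by
  obtain ⟨m, rfl⟩ := Multiplicative.ofAdd.surjective m
  rw [C.nat, ch_lamPt, ch_lamPt, ← map_zpow]
  rfl

theorem lamPt_mul {P : Over (Spec (CommRingCat.of R))} (u v : Γ(P.left, ⊤)ˣ) :
    lamPt C b (u * v) = lamPt C b u * lamPt C b v := C.inj fun m => by
  obtain ⟨m, rfl⟩ := Multiplicative.ofAdd.surjective m
  rw [C.mul, ch_lamPt, ch_lamPt, ch_lamPt, mul_zpow, Units.val_mul]

theorem lamPt_one (P : Over (Spec (CommRingCat.of R))) : lamPt C b (1 : Γ(P.left, ⊤)ˣ) = 1 := C.inj fun m => by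
  obtain ⟨m, rfl⟩ := Multiplicative.ofAdd.surjective m
  rw [ch_lamPt, C.one, one_zpow, Units.val_one]

variable (iT : T ⟶ G) [IsMonHom iT]

/-- Conjugation by the one parameter subgroup. -/
def conjU {P : Over (Spec (CommRingCat.of R))} (u : Γ(P.left, ⊤)ˣ) : (P ⟶ G) ≃* (P ⟶ G) :=
  MulAut.conj (lamPt C b u ≫ iT)

theorem comp_conjU {P P' : Over (Spec (CommRingCat.of R))} (t : P' ⟶ P) (u : Γ(P.left, ⊤)ˣ) (g : P ⟶ G) :
    t ≫ conjU C b iT u g = conjU C b iT (Units.map t.left.appTop.hom.toMonoidHom u) (t ≫ g) := by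
  simp only [conjU, MulAut.conj_apply, MonObj.comp_mul, GrpObj.comp_inv, ← Category.assoc, lamPt_nat]

theorem conjU_conjU {P : Over (Spec (CommRingCat.of R))} (u v : Γ(P.left, ⊤)ˣ) (g : P ⟶ G) :
    conjU C b iT u (conjU C b iT v g) = conjU C b iT (u * v) g := by
  simp only [conjU, MulAut.conj_apply, lamPt_mul, MonObj.mul_comp]
  group

theorem conjU_one {P : Over (Spec (CommRingCat.of R))} (g : P ⟶ G) : conjU C b iT 1 g = g := by
  simp [conjU, lamPt_one, MonObj.one_comp]

omit [GrpObj G] in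
theorem appTop_alg {P : Over (Spec (CommRingCat.of R))} (g : P ⟶ G) (r : R) :
    g.left.appTop (alg G r) = alg P r := by
  show g.left.appTop (G.hom.appTop _) = P.hom.appTop _
  rw [← Over.w g, Scheme.Hom.comp_appTop]
  rfl

variable [IsAffine G.left]

omit [GrpObj G] in
/-- Points of an affine scheme from maps of functions. -/
theorem exists_point {P : Over (Spec (CommRingCat.of R))} (φ : Γ(G.left, ⊤) →+* Γ(P.left, ⊤))
    (hφ : ∀ r, φ (alg G r) = alg P r) : ∃ p : P ⟶ G, ∀ F, p.left.appTop F = φ F := by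
  letI : Algebra R Γ(G.left, ⊤) := (alg G).toAlgebra
  let iS : CoactBr.sp R Γ(G.left, ⊤) ⟶ G := Over.homMk G.left.isoSpec.inv (by
    show G.left.isoSpec.inv ≫ G.hom = Spec.map (CommRingCat.ofHom (alg G))
    rw [Iso.inv_comp_eq, Scheme.isoSpec_hom, can_aux])
  refine ⟨DiagGL.mk φ hφ ≫ iS, fun F => ?_⟩
  have h2 : iS.left.appTop = (Scheme.ΓSpecIso (CommRingCat.of Γ(G.left, ⊤))).inv := by
    show G.left.isoSpec.inv.appTop = _
    have h3 := congrArg Scheme.Hom.appTop G.left.isoSpec.inv_hom_id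
    rw [Scheme.Hom.comp_appTop, Scheme.isoSpec_hom, Scheme.toSpecΓ_appTop] at h3
    exact (Iso.hom_comp_eq_id _).1 h3
  show (DiagGL.mk φ hφ).left.appTop (iS.left.appTop F) = _
  rw [h2]
  exact DFunLike.congr_fun (ev_mk φ hφ) F

omit [GrpObj G] in
theorem point_ext {P : Over (Spec (CommRingCat.of R))} {p q : P ⟶ G}
    (h : ∀ F, p.left.appTop F = q.left.appTop F) : p = q :=
  Over.OverMorphism.ext (ext_of_isAffine (CommRingCat.hom_ext (RingHom.ext h)))

theorem exists_grade_aux : ∃ Φ : Γ(G.left, ⊤) →+* Γ(G.left, ⊤)[T;T⁻¹],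
    (∀ r, Φ (alg G r) = AddMonoidAlgebra.single 0 (alg G r)) ∧
    ∀ (P : Over (Spec (CommRingCat.of R))) (u : Γ(P.left, ⊤)ˣ) (g : P ⟶ G) (F : Γ(G.left, ⊤)),
      (conjU C b iT u g).left.appTop F = evh g.left.appTop.hom u (Φ F) := by
  letI : Algebra R Γ(G.left, ⊤) := (alg G).toAlgebra
  let L : Type u := Γ(G.left, ⊤)[T;T⁻¹]
  let X : Over (Spec (CommRingCat.of R)) := CoactBr.sp R L
  let e := Scheme.ΓSpecIso (CommRingCat.of L)
  let uT : Γ(X.left, ⊤)ˣ := Units.map e.inv.hom.toMonoidHom (LaurentPolynomial.isUnit_T 1).unit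
  have halg : ∀ r, alg X r = e.inv (algebraMap R L r) := fun r =>
    (ConcreteCategory.congr_hom (Scheme.ΓSpecIso_inv_naturality (CommRingCat.ofHom (algebraMap R L))) r).symm
  obtain ⟨x, hx⟩ := exists_point (G := G) (P := X) (e.inv.hom.comp AddMonoidAlgebra.singleZeroRingHom) fun r =>
    (halg r).symm
  refine ⟨e.hom.hom.comp (conjU C b iT uT x).left.appTop.hom, fun r => ?_, fun P u g F => ?_⟩
  · show e.hom ((conjU C b iT uT x).left.appTop (alg G r)) = _
    rw [appTop_alg, halg]
    exact ConcreteCategory.congr_hom e.inv_hom_id _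
  · let ψ : L →+* Γ(P.left, ⊤) := evh g.left.appTop.hom u
    have hψa : ∀ r, ψ (algebraMap R L r) = alg P r := fun r => by
      show evh _ _ (AddMonoidAlgebra.single 0 (alg G r)) = _
      rw [evh_single, zpow_zero, Units.val_one, _root_.mul_one]
      exact appTop_alg g r
    let θ : P ⟶ X := DiagGL.mk ψ hψa
    have hev : ∀ l : L, θ.left.appTop (e.inv l) = ψ l := fun l => DFunLike.congr_fun (ev_mk ψ hψa) l
    have hθx : θ ≫ x = g := point_ext fun a => by
      show θ.left.appTop (x.left.appTop a) = _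
      rw [hx]
      refine (hev _).trans ?_
      show evh _ _ (AddMonoidAlgebra.single 0 a) = _
      rw [evh_single, zpow_zero, Units.val_one, _root_.mul_one]
    have hθu : Units.map θ.left.appTop.hom.toMonoidHom uT = u := Units.ext (by
      show θ.left.appTop (e.inv (LaurentPolynomial.isUnit_T 1).unit.1) = _
      rw [hev]
      show evh _ _ (AddMonoidAlgebra.single 1 1) = _
      rw [evh_single, map_one, _root_.one_mul, zpow_one])
    have hθ : θ ≫ conjU C b iT uT x = conjU C b iT u g := by rw [comp_conjU, hθx, hθu]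
    rw [← hθ]
    show θ.left.appTop ((conjU C b iT uT x).left.appTop F) = ψ (e.hom _)
    rw [← hev]
    congr 1
    exact (ConcreteCategory.congr_hom e.hom_inv_id _).symm

variable {C b iT} {Φ : Γ(G.left, ⊤) →+* Γ(G.left, ⊤)[T;T⁻¹]}
  (hΦ0 : ∀ r, Φ (alg G r) = AddMonoidAlgebra.single 0 (alg G r))
  (hΦ : ∀ (P : Over (Spec (CommRingCat.of R))) (u : Γ(P.left, ⊤)ˣ) (g : P ⟶ G) (F : Γ(G.left, ⊤)),
    (conjU C b iT u g).left.appTop F = evh g.left.appTop.hom u (Φ F))

include hΦ in
/-- A function is the sum of its components. -/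
theorem sum_comp (F : Γ(G.left, ⊤)) : ∑ n ∈ (Φ F).coeff.support, (Φ F).coeff n = F := by
  have h := hΦ G 1 (𝟙 G) F
  rw [conjU_one, evh_eq_sum] at h
  simpa using h.symm

set_option maxHeartbeats 1600000 in
include hΦ hΦ0 in
/-- The components are homogeneous. -/
theorem comp_hom (F : Γ(G.left, ⊤)) (n : ℤ) : Φ ((Φ F).coeff n) = AddMonoidAlgebra.single n ((Φ F).coeff n) := by
  letI : Algebra R Γ(G.left, ⊤) := (alg G).toAlgebra
  let A : Type u := Γ(G.left, ⊤)
  let L : Type u := A[T;T⁻¹]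
  let L2 : Type u := L[T;T⁻¹]
  let X : Over (Spec (CommRingCat.of R)) := CoactBr.sp R L2
  let e := Scheme.ΓSpecIso (CommRingCat.of L2)
  let i2 : L2 →+* Γ(X.left, ⊤) := e.inv.hom
  let f2 : A →+* L2 := (LaurentPolynomial.C (R := L)).comp AddMonoidAlgebra.singleZeroRingHom
  let v2 : L2ˣ := Units.map (LaurentPolynomial.C (R := L)).toMonoidHom (LaurentPolynomial.isUnit_T 1).unit
  let u2 : L2ˣ := (LaurentPolynomial.isUnit_T 1).unit
  have halg : ∀ r, alg X r = i2 (algebraMap R L2 r) := fun r =>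
    (ConcreteCategory.congr_hom (Scheme.ΓSpecIso_inv_naturality (CommRingCat.ofHom (algebraMap R L2))) r).symm
  obtain ⟨g, hg⟩ := exists_point (G := G) (P := X) (i2.comp f2) fun r => (halg r).symm
  have hgf : g.left.appTop.hom = i2.comp f2 := RingHom.ext hg
  have hC : evh f2 v2 = LaurentPolynomial.C := by
    refine AddMonoidAlgebra.ringHom_ext (fun a => ?_) (fun m => ?_)
    · rw [evh_single, zpow_zero, Units.val_one, _root_.mul_one]
      rfl
    · rw [evh_single, map_one, _root_.one_mul]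
      show ((v2 ^ m : L2ˣ) : L2) = _
      rw [← map_zpow]
      show LaurentPolynomial.C (((LaurentPolynomial.isUnit_T (R := A) 1).unit ^ m : Lˣ) : L) = _
      rw [unitT_zpow]
  have hv : ∀ F', (conjU C b iT (Units.map i2.toMonoidHom v2) g).left.appTop F' = i2 (LaurentPolynomial.C (Φ F')) :=
    fun F' => by rw [hΦ, hgf, ← map_evh, hC]
  have key : evh ((LaurentPolynomial.C (R := L)).comp Φ) u2 (Φ F) = evh f2 (u2 * v2) (Φ F) := by
    have h := congrArg (fun p : X ⟶ G => p.left.appTop F)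
      (conjU_conjU C b iT (Units.map i2.toMonoidHom u2) (Units.map i2.toMonoidHom v2) g)
    simp only at h
    rw [hΦ, hΦ, show (conjU C b iT (Units.map i2.toMonoidHom v2) g).left.appTop.hom =
      i2.comp ((LaurentPolynomial.C (R := L)).comp Φ) from RingHom.ext hv, hgf, ← map_mul, ← map_evh,
      ← map_evh] at h
    exact (e.symm.commRingCatIsoToRingEquiv.injective h :)
  have hpow : ∀ m : ℤ, ((u2 ^ m : L2ˣ) : L2) = AddMonoidAlgebra.single m 1 := unitT_zpow
  have hl : ∀ l : L, (evh ((LaurentPolynomial.C (R := L)).comp Φ) u2 l).coeff n = Φ (l.coeff n) ∧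
      (evh f2 (u2 * v2) l).coeff n = AddMonoidAlgebra.single n (l.coeff n) := by
    intro l
    induction l using AddMonoidAlgebra.induction_linear with
    | zero => simp
    | add p q hp hq =>
      constructor
      · rw [map_add, AddMonoidAlgebra.coeff_add, AddMonoidAlgebra.coeff_add, Finsupp.add_apply, Finsupp.add_apply,
          hp.1, hq.1, map_add]
      · rw [map_add, AddMonoidAlgebra.coeff_add, AddMonoidAlgebra.coeff_add, Finsupp.add_apply, Finsupp.add_apply,
          hp.2, hq.2, AddMonoidAlgebra.single_add]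
    | single m a =>
      have h2 : evh f2 (u2 * v2) (AddMonoidAlgebra.single m a) =
          LaurentPolynomial.C (AddMonoidAlgebra.single m a : L) * ↑(u2 ^ m) := by
        rw [evh_single, (mul_zpow u2 v2 m : (u2 * v2) ^ m = u2 ^ m * v2 ^ m), Units.val_mul,
          mul_comm (↑(u2 ^ m) : L2), ← _root_.mul_assoc, ← evh_single, hC]
      rw [evh_single, h2, hpow]
      show ((AddMonoidAlgebra.single (0 : ℤ) (Φ a) * AddMonoidAlgebra.single m 1 : L2)).coeff n = _ ∧
        ((AddMonoidAlgebra.single (0 : ℤ) (AddMonoidAlgebra.single m a : L) * AddMonoidAlgebra.single m 1 : L2)).coeff n = _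
      rw [AddMonoidAlgebra.single_mul_single, AddMonoidAlgebra.single_mul_single, zero_add, _root_.mul_one,
        _root_.mul_one, AddMonoidAlgebra.coeff_single, AddMonoidAlgebra.coeff_single, AddMonoidAlgebra.coeff_single]
      by_cases hm : m = n
      · subst hm
        simp
      · simp [Finsupp.single_eq_of_ne (Ne.symm hm)]
  have := congrArg (fun z : L2 => z.coeff n) key
  simp only [(hl _).1, (hl _).2] at this
  exact this

variable (Φ) in
/-- The condition that the limit exists. -/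
def LimU {P : Over (Spec (CommRingCat.of R))} (g : P ⟶ G) : Prop :=
  ∀ (F : Γ(G.left, ⊤)) (n : ℤ), n < 0 → g.left.appTop ((Φ F).coeff n) = 0

omit [GrpObj G] in
theorem limU_comp {P P' : Over (Spec (CommRingCat.of R))} (t : P' ⟶ P) {g : P ⟶ G} (h : LimU Φ g) :
    LimU Φ (t ≫ g) := fun F n hn => by
  show t.left.appTop (g.left.appTop _) = 0
  rw [h F n hn, map_zero]

set_option maxHeartbeats 1600000 in
include hΦ hΦ0 in
/-- The points with a limit form subgroups. -/
theorem exists_limSub (X : Over (Spec (CommRingCat.of R))) :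
    ∃ H : Subgroup (X ⟶ G), ∀ x, x ∈ H ↔ LimU Φ x := by
  letI : Algebra R Γ(G.left, ⊤) := (alg G).toAlgebra
  let B : Type u := Γ(X.left, ⊤)
  letI : Algebra R B := (alg X).toAlgebra
  let P0 : Over (Spec (CommRingCat.of R)) := CoactBr.sp R B
  let PL : Over (Spec (CommRingCat.of R)) := CoactBr.sp R B[T;T⁻¹]
  let PX : Over (Spec (CommRingCat.of R)) := CoactBr.sp R B[X]
  let e0 := Scheme.ΓSpecIso (CommRingCat.of B)
  let eL := Scheme.ΓSpecIso (CommRingCat.of B[T;T⁻¹])
  let eX := Scheme.ΓSpecIso (CommRingCat.of B[X])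
  let cL : PL ⟶ P0 := CoactBr.pt (IsScalarTower.toAlgHom R B B[T;T⁻¹])
  let j : PL ⟶ PX := CoactBr.pt ((Polynomial.toLaurentAlg (R := B)).restrictScalars R)
  let can : X ⟶ P0 := DiagGL.mk (RingHom.id B) fun _ => rfl
  have hcan : ∀ y : B, can.left.appTop (e0.inv y) = y := fun y =>
    DFunLike.congr_fun (ev_mk (T := X) (RingHom.id B) fun _ => rfl) y
  have hcanI : Function.Injective (fun p : P0 ⟶ G => can ≫ p) := fun p q h => point_ext fun F => by
    have h1 : can.left.appTop (p.left.appTop F) = can.left.appTop (q.left.appTop F) :=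
      congrArg (fun z : X ⟶ G => z.left.appTop F) h
    obtain ⟨y, hy⟩ : ∃ y, e0.inv y = p.left.appTop F := ⟨e0.hom _, ConcreteCategory.congr_hom e0.hom_inv_id _⟩
    obtain ⟨y', hy'⟩ : ∃ y', e0.inv y' = q.left.appTop F := ⟨e0.hom _, ConcreteCategory.congr_hom e0.hom_inv_id _⟩
    rw [← hy, ← hy'] at h1 ⊢
    erw [hcan, hcan] at h1
    rw [h1]
  have halg0 : ∀ r, alg P0 r = e0.inv (algebraMap R B r) := fun r =>
    (ConcreteCategory.congr_hom (Scheme.ΓSpecIso_inv_naturality (CommRingCat.ofHom (algebraMap R B))) r).symm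
  have halgX : ∀ r, alg PX r = eX.inv (algebraMap R B[X] r) := fun r =>
    (ConcreteCategory.congr_hom (Scheme.ΓSpecIso_inv_naturality (CommRingCat.ofHom (algebraMap R B[X]))) r).symm
  let pre : ∀ {P Q : Over (Spec (CommRingCat.of R))}, (P ⟶ Q) → ((Q ⟶ G) →* (P ⟶ G)) := fun t =>
    MonoidHom.mk' (fun p => t ≫ p) fun p q => MonObj.comp_mul t p q
  let uT : Γ(PL.left, ⊤)ˣ := Units.map eL.inv.hom.toMonoidHom (LaurentPolynomial.isUnit_T 1).unit
  let θ : (P0 ⟶ G) →* (PL ⟶ G) := (conjU C b iT uT).toMonoidHom.comp (pre cL)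
  refine ⟨((pre j).range.comap θ).map (pre can), fun x => ?_⟩
  obtain ⟨x₀, hx₀⟩ := exists_point (G := G) (P := P0) (e0.inv.hom.comp x.left.appTop.hom) fun r => by
    show e0.inv (x.left.appTop (alg G r)) = _
    rw [appTop_alg, halg0]
    rfl
  have hxx : can ≫ x₀ = x := point_ext fun F => by
    show can.left.appTop (x₀.left.appTop F) = _
    rw [hx₀]
    exact hcan _
  -- the conjugated curve
  have hcurve : ∀ F, (θ x₀).left.appTop F =
      eL.inv (AddMonoidAlgebra.mapRingHom ℤ x.left.appTop.hom (Φ F)) := fun F => by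
    show (conjU C b iT uT (cL ≫ x₀)).left.appTop F = _
    rw [hΦ]
    have h1 : (cL ≫ x₀).left.appTop.hom =
        (eL.inv.hom.comp (LaurentPolynomial.C (R := B))).comp x.left.appTop.hom := RingHom.ext fun a => by
      show cL.left.appTop (x₀.left.appTop a) = _
      rw [hx₀]
      exact ev_pt (IsScalarTower.toAlgHom R B B[T;T⁻¹]) (x.left.appTop a)
    rw [h1]
    refine (map_evh eL.inv.hom ((LaurentPolynomial.C (R := B)).comp x.left.appTop.hom)
      (LaurentPolynomial.isUnit_T 1).unit (Φ F)).symm.trans (congrArg eL.inv ?_)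
    induction Φ F using AddMonoidAlgebra.induction_linear with
    | zero => simp
    | add p q hp hq => rw [map_add, map_add, hp, hq]
    | single m a =>
      rw [evh_single, AddMonoidAlgebra.mapRingHom_single, unitT_zpow]
      show AddMonoidAlgebra.single (0 : ℤ) _ * AddMonoidAlgebra.single m 1 = _
      rw [AddMonoidAlgebra.single_mul_single, zero_add, _root_.mul_one]
  constructor
  · rintro ⟨x₁, ⟨q, hq⟩, hx₁⟩
    obtain rfl : x₁ = x₀ := hcanI (hx₁.trans hxx.symm)
    intro F n hn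
    have h1 : j.left.appTop (q.left.appTop F) = eL.inv (AddMonoidAlgebra.mapRingHom ℤ x.left.appTop.hom (Φ F)) :=
      (congrArg (fun z : PL ⟶ G => z.left.appTop F) hq).trans (hcurve F)
    obtain ⟨p, hp⟩ : ∃ p, eX.inv p = q.left.appTop F := ⟨eX.hom _, ConcreteCategory.congr_hom eX.hom_inv_id _⟩
    rw [← hp] at h1
    have h2 : Polynomial.toLaurent p = AddMonoidAlgebra.mapRingHom ℤ x.left.appTop.hom (Φ F) :=
      eL.symm.commRingCatIsoToRingEquiv.injective
        ((ev_pt ((Polynomial.toLaurentAlg (R := B)).restrictScalars R) p).symm.trans h1)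
    have h3 := congrArg (fun z : B[T;T⁻¹] => z.coeff n) h2
    simp only [AttrBorel21.toLaurent_coeff_of_neg p hn, AddMonoidAlgebra.coeff_mapRingHom] at h3
    exact h3.symm
  · intro hx
    let Ψ : Γ(G.left, ⊤) →+* B[T;T⁻¹] := (AddMonoidAlgebra.mapRingHom ℤ x.left.appTop.hom).comp Φ
    let jr : B[X] →+* B[T;T⁻¹] := Polynomial.toLaurent
    have hrange : ∀ F, Ψ F ∈ jr.range := fun F => by
      show AddMonoidAlgebra.mapRingHom ℤ x.left.appTop.hom (Φ F) ∈ _
      rw [← AddMonoidAlgebra.sum_coeff_single (Φ F), Finsupp.sum, map_sum]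
      refine Subring.sum_mem _ fun m _ => ?_
      rw [AddMonoidAlgebra.mapRingHom_single]
      rcases lt_or_ge m 0 with hm | hm
      · show AddMonoidAlgebra.single m (x.left.appTop _) ∈ _
        rw [hx F m hm, AddMonoidAlgebra.single_zero]
        exact Subring.zero_mem _
      · refine ⟨Polynomial.monomial m.toNat (x.left.appTop ((Φ F).coeff m)), ?_⟩
        show Polynomial.toLaurent _ = _
        rw [Polynomial.toLaurent_C_mul_T, ← LaurentPolynomial.single_eq_C_mul_T, Int.toNat_of_nonneg hm]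
    have hj : Function.Injective jr := Polynomial.toLaurent_injective
    let er : B[X] ≃+* jr.range := RingEquiv.ofBijective jr.rangeRestrict
      ⟨fun p q h => hj (congrArg Subtype.val h), jr.rangeRestrict_surjective⟩
    let Ψ' : Γ(G.left, ⊤) →+* B[X] := er.symm.toRingHom.comp (Ψ.codRestrict _ hrange)
    have hΨ' : ∀ F, Polynomial.toLaurent (Ψ' F) = Ψ F := fun F =>
      congrArg Subtype.val (er.apply_symm_apply ⟨Ψ F, hrange F⟩)
    obtain ⟨q, hq⟩ := exists_point (G := G) (P := PX) (eX.inv.hom.comp Ψ') fun r => by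
      rw [halgX]
      refine congrArg eX.inv (hj ?_)
      show Polynomial.toLaurent (Ψ' (alg G r)) = Polynomial.toLaurent (algebraMap R B[X] r)
      rw [hΨ', show algebraMap R B[X] r = Polynomial.C (alg X r) from rfl, Polynomial.toLaurent_C]
      show AddMonoidAlgebra.mapRingHom ℤ _ (Φ (alg G r)) = _
      rw [hΦ0, AddMonoidAlgebra.mapRingHom_single]
      show AddMonoidAlgebra.single (0 : ℤ) (x.left.appTop (alg G r)) = _
      rw [appTop_alg]
      rfl
    refine ⟨x₀, ⟨q, point_ext fun F => ?_⟩, hxx⟩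
    show j.left.appTop (q.left.appTop F) = _
    rw [hq, hcurve]
    exact (ev_pt ((Polynomial.toLaurentAlg (R := B)).restrictScalars R) (Ψ' F)).trans (congrArg eL.inv (hΨ' F))

set_option maxHeartbeats 1600000 in
include hΦ hΦ0 in
/-- **The contracted subgroup of a smooth affine group over a ring is smooth and closed.** -/
theorem exists_attrRel [Smooth G.hom] :
    ∃ (B : Over (Spec (CommRingCat.of R))) (_ : GrpObj B) (iB : B ⟶ G),
      IsMonHom iB ∧ IsClosedImmersion iB.left ∧ Smooth B.hom ∧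
        ∀ (X : Over (Spec (CommRingCat.of R))) (x : X ⟶ G), (∃ y, y ≫ iB = x) ↔ LimU Φ x := by
  classical
  letI : Algebra R Γ(G.left, ⊤) := (alg G).toAlgebra
  let A : Type u := Γ(G.left, ⊤)
  have hsm : Algebra.Smooth R A := by
    have h : Smooth (Spec.map (CommRingCat.ofHom (algebraMap R A))) := by
      have h1 : G.left.isoSpec.inv ≫ G.hom = Spec.map (CommRingCat.ofHom (alg G)) := by
        rw [Iso.inv_comp_eq, Scheme.isoSpec_hom, can_aux]
      show Smooth (Spec.map (CommRingCat.ofHom (alg G)))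
      rw [← h1]
      infer_instance
    rw [HasRingHomProperty.Spec_iff (P := @Smooth)] at h
    exact RingHom.smooth_algebraMap.1 h
  haveI : Algebra.FormallySmooth R A := hsm.formallySmooth
  haveI : Algebra.FinitePresentation R A := hsm.finitePresentation
  let Φa : A →ₐ[R] A[T;T⁻¹] := { Φ with commutes' := hΦ0 }
  obtain ⟨gens, hgens⟩ := (inferInstance : Algebra.FiniteType R A).out
  let J : Type u := Σ F : {F // F ∈ gens}, {n : ℤ // n ∈ (Φ F.1).coeff.support}
  let xg : J → A := fun p => (Φ p.1.1).coeff p.2.1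
  let dg : J → ℤ := fun p => p.2.1
  have hxg : ∀ p, AttrBorel21.IsHom Φa (dg p) (xg p) := fun p => comp_hom hΦ0 hΦ p.1.1 p.2.1
  have hgen : Algebra.adjoin R (Set.range xg) = ⊤ := by
    rw [← top_le_iff, ← hgens]
    refine Algebra.adjoin_le fun F hF => ?_
    rw [← sum_comp hΦ F]
    exact Subalgebra.sum_mem _ fun n hn => Algebra.subset_adjoin ⟨⟨⟨F, hF⟩, n, hn⟩, rfl⟩
  let I : Ideal A := AttrBorel21.negIdeal xg dg
  haveI hfs : Algebra.FormallySmooth R (A ⧸ I) := AttrBorel21.formallySmooth_quotient Φa xg dg hxg hgen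
  haveI hfp : Algebra.FinitePresentation R (A ⧸ I) :=
    Algebra.FinitePresentation.quotient (Submodule.fg_span (Set.finite_range _))
  haveI : Algebra.Smooth R (A ⧸ I) := ⟨hfs, hfp⟩
  let B : Over (Spec (CommRingCat.of R)) := CoactBr.sp R (A ⧸ I)
  haveI : Smooth B.hom := (HasRingHomProperty.Spec_iff (P := @Smooth)).2 (RingHom.smooth_algebraMap.2 inferInstance)
  let iS : CoactBr.sp R A ⟶ G := Over.homMk G.left.isoSpec.inv (by
    show G.left.isoSpec.inv ≫ G.hom = Spec.map (CommRingCat.ofHom (alg G))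
    rw [Iso.inv_comp_eq, Scheme.isoSpec_hom, can_aux])
  let iB : B ⟶ G := CoactBr.pt (Ideal.Quotient.mkₐ R I) ≫ iS
  haveI hcl : IsClosedImmersion iB.left := by
    haveI : IsIso iS.left := inferInstanceAs (IsIso G.left.isoSpec.inv)
    haveI : IsClosedImmersion (CoactBr.pt (Ideal.Quotient.mkₐ R I)).left :=
      IsClosedImmersion.spec_of_surjective _ Ideal.Quotient.mk_surjective
    rw [Over.comp_left]
    infer_instance
  have hval : ∀ F : A, iB.left.appTop F =
      (Scheme.ΓSpecIso (CommRingCat.of (A ⧸ I))).inv (Ideal.Quotient.mk I F) := fun F => by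
    show (CoactBr.pt (Ideal.Quotient.mkₐ R I)).left.appTop (iS.left.appTop F) = _
    have h2 : iS.left.appTop = (Scheme.ΓSpecIso (CommRingCat.of A)).inv := by
      show G.left.isoSpec.inv.appTop = _
      have h3 := congrArg Scheme.Hom.appTop G.left.isoSpec.inv_hom_id
      rw [Scheme.Hom.comp_appTop, Scheme.isoSpec_hom, Scheme.toSpecΓ_appTop] at h3
      exact (Iso.hom_comp_eq_id _).1 h3
    rw [h2]
    exact ev_pt (Ideal.Quotient.mkₐ R I) F
  have hIG : ∀ F (n : ℤ), n < 0 → (Φ F).coeff n ∈ I := by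
    intro F
    let Q : A[T;T⁻¹] →ₐ[R] (A ⧸ I)[T;T⁻¹] := AddMonoidAlgebra.mapAlgHom ℤ (Ideal.Quotient.mkₐ R I)
    let jP : (A ⧸ I)[X] →ₐ[R] (A ⧸ I)[T;T⁻¹] := Polynomial.toLaurentAlg.restrictScalars R
    have : (⊤ : Subalgebra R A) ≤ jP.range.comap (Q.comp Φa) := by
      rw [← hgen]
      refine Algebra.adjoin_le ?_
      rintro _ ⟨p, rfl⟩
      show Q (Φa (xg p)) ∈ jP.range
      rw [show Φa (xg p) = _ from hxg p, AddMonoidAlgebra.mapAlgHom_single]
      rcases lt_or_ge (dg p) 0 with hp | hp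
      · rw [show (Ideal.Quotient.mkₐ R I) (xg p) = 0 from
          Ideal.Quotient.eq_zero_iff_mem.2 (Ideal.subset_span ⟨⟨p, hp⟩, rfl⟩), AddMonoidAlgebra.single_zero]
        exact Subalgebra.zero_mem _
      · refine ⟨Polynomial.monomial (dg p).toNat (Ideal.Quotient.mkₐ R I (xg p)), ?_⟩
        show Polynomial.toLaurent _ = _
        rw [Polynomial.toLaurent_C_mul_T, ← LaurentPolynomial.single_eq_C_mul_T, Int.toNat_of_nonneg hp]
    obtain ⟨P, hP⟩ := this (show F ∈ ⊤ from trivial)
    intro n hn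
    have h := congrArg (fun z : (A ⧸ I)[T;T⁻¹] => z.coeff n) hP
    simp only [AlgHom.coe_toRingHom] at h
    rw [← Ideal.Quotient.eq_zero_iff_mem]
    refine Eq.trans ?_ (AttrBorel21.toLaurent_coeff_of_neg P hn)
    refine Eq.trans ?_ h.symm
    exact (AddMonoidAlgebra.coeff_mapRingHom _ _ _).symm
  have hfac : ∀ (X : Over (Spec (CommRingCat.of R))) (x : X ⟶ G), (∃ y, y ≫ iB = x) ↔ LimU Φ x := fun X x => by
    constructor
    · rintro ⟨y, rfl⟩ F n hn
      show y.left.appTop (iB.left.appTop _) = 0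
      rw [hval, Ideal.Quotient.eq_zero_iff_mem.2 (hIG F n hn)]
      exact (congrArg y.left.appTop.hom (map_zero _)).trans (map_zero _)
    · intro hx
      have hker : ∀ a ∈ I, x.left.appTop.hom a = 0 := fun a ha => by
        refine (Ideal.span_le (I := RingHom.ker x.left.appTop.hom)).2 ?_ ha
        rintro _ ⟨⟨p, hp⟩, rfl⟩
        exact hx _ _ hp
      refine ⟨DiagGL.mk (Ideal.Quotient.lift I x.left.appTop.hom hker) fun r => appTop_alg x r, point_ext fun F => ?_⟩
      show (DiagGL.mk (A := A ⧸ I) (Ideal.Quotient.lift I x.left.appTop.hom hker) fun r =>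
        appTop_alg x r).left.appTop (iB.left.appTop F) = _
      rw [hval]
      exact DFunLike.congr_fun (ev_mk (A := A ⧸ I) (Ideal.Quotient.lift I x.left.appTop.hom hker) fun r => appTop_alg x r)
        (Ideal.Quotient.mk I F)
  haveI : Mono iB := Over.mono_of_mono_left iB
  have hsub : ∀ (X : Over (Spec (CommRingCat.of R))), ∃ H : Subgroup (X ⟶ G), ∀ x, x ∈ H ↔ ∃ y, y ≫ iB = x :=
    fun X => by
      obtain ⟨H, hH⟩ := exists_limSub hΦ0 hΦ X
      exact ⟨H, fun x => (hH x).trans (hfac X x).symm⟩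
  obtain ⟨_, hm⟩ := MTRigid29.exists_grpObj_of_subgroup iB
    (fun X a c => by
      obtain ⟨H, hH⟩ := hsub X
      exact (hH _).1 (mul_mem ((hH _).2 ⟨a, rfl⟩) ((hH _).2 ⟨c, rfl⟩)))
    (by obtain ⟨H, hH⟩ := hsub (𝟙_ _); exact (hH _).1 (one_mem H))
    (fun X a => by
      obtain ⟨H, hH⟩ := hsub X
      exact (hH _).1 (inv_mem ((hH _).2 ⟨a, rfl⟩)))
  exact ⟨B, ‹_›, iB, hm, hcl, ‹_›, hfac⟩

end Groth.Agent.RankOne21
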