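import Groth.Agent.Lib.RankOne21.TwoBorels
import Groth.Agent.Lib.RankOne21.Crit
import Groth.Agent.Lib.UInvFG21.Torus
import Groth.Agent.Lib.AttrBorel21.Main
import Groth.Agent.Lib.AttrBorel21.BorelGen
import Groth.Agent.Lib.BorelLam21.Ray
import Groth.Agent.Lib.BorelLam21.Groups
import Groth.Agent.Lib.TorPts21.CentralizerRadical
import Groth.Agent.Lib.MTRigid29.MapChS
import Mathlib.LinearAlgebra.FreeModule.PID

/-!
# Reductivity through the centralisers of the kernels of characters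
-/

set_option autoImplicit false
set_option linter.style.haveILetI false
set_option linter.unusedSectionVars false
set_option backward.isDefEq.respectTransparency.types false

universe u

open CategoryTheory Limits MonoidalCategory CartesianMonoidalCategory MonObj AlgebraicGeometry

noncomputable section

namespace Groth.Agent.RankOne21

open InvRing21 DiagGL TorPts21 BigCell21 BorelLam21 AttrBorel21

attribute [local instance] InvRing21.gamAlg BorelFix21.ptsTop

variable {k : Type u} [Field k] [IsAlgClosed k] {d : ℕ} {G T : Over (Spec (CommRingCat.of k))}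
  [GrpObj G] [GrpObj T] [IsAffine G.left] [Smooth G.hom] [ConnectedSpace G.left]

set_option maxHeartbeats 1600000 in
/-- **Criterion**: a group with a self-centralising torus is reductive as soon as the centralisers of the connected
kernels of the roots are reductive. -/
theorem isReductiveOver_of_root_kernels {iT : T ⟶ G} (hT : Red.IsTorus T) (hc : Red.IsCentralizerOf iT iT)
    (C : Chars (Fin d → ℤ) T)
    (h : ∀ (δ : Fin d → ℤ), δ ≠ 0 →
      (∃ α : T ⟶ Red.Gm (Spec (CommRingCat.of k)), LieWt.IsRoot iT α ∧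
        ∀ (X : Over (Spec (CommRingCat.of k))) (x : X ⟶ T), Red.gmFn (x ≫ α) = C.ch x (Multiplicative.ofAdd δ)) → ∃ (Z : Over (Spec (CommRingCat.of k))) (_ : GrpObj Z) (z : Z ⟶ G),
      Red.IsCentralizerOf (kerInc C δ ≫ iT) z ∧ Red.IsReductiveOver k Z) :
    Red.IsReductiveOver k G := by
  classical
  haveI := hc.1
  haveI := hc.2.1
  obtain ⟨hTa, hTs, hTn, -⟩ := props_of_isTorus hT
  haveI := hTa; haveI := hTs; haveI := hTn
  haveI := isClosedImmersion_of_torus hT iT
  obtain ⟨U, _, u, hU, hmaxU⟩ := exists_unipotentRadical_connected G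
  obtain ⟨hum, huc, hun, hus, huq, hucn, huns, -⟩ := (isUnipotentRadical_iff u).1 hU
  haveI := hum; haveI := huc; haveI := hus; haveI := huq; haveI := hucn
  haveI : IsAffine U.left := isAffine_of_isAffineHom u.left
  haveI : Mono u := Over.mono_of_mono_left u
  -- points of the radical fixed by a torus with reductive centraliser are trivial
  have hker : ∀ (S : Over (Spec (CommRingCat.of k))) [GrpObj S] (j : S ⟶ T) [IsMonHom j] [Mono j], Red.IsTorus S →
      ∀ (Z : Over (Spec (CommRingCat.of k))) [GrpObj Z] (z : Z ⟶ G), Red.IsCentralizerOf (j ≫ iT) z →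
      Red.IsReductiveOver k Z → ∀ y : VecGrp.pt k k ⟶ U,
      (∀ σ : VecGrp.pt k k ⟶ S, (y ≫ u) * (σ ≫ j ≫ iT) = (σ ≫ j ≫ iT) * (y ≫ u)) → y = 1 :=
    fun S _ j _ _ hS Z _ z hz hZred y hy => by
    obtain ⟨hzm, hzi, hzs, hza⟩ := centralizer_props hS hz
    haveI := hzm; haveI := hzi
    haveI : Mono z := Over.mono_of_mono_left z
    obtain ⟨D, _, dC, dB, hdC, hdcl, hD⟩ := exists_subgroup_inter z u
    haveI := hdC
    obtain ⟨-, hvc, hvn, hvs, -, hvcn, hvns, -⟩ :=
      (isUnipotentRadical_iff dC).1 (isUnipotentRadical_inter_centralizer hS hz hU hD.flip)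
    have htriv : IsIso D.hom := hZred.2.2.2 D dC hvc hvs hvcn hvn hvns
    obtain ⟨g, hg⟩ := exists_gpt (y ≫ u)
    rw [← hg] at hy
    obtain ⟨w, hw⟩ := exists_lift_centralizer_pt hS hz g hy
    obtain ⟨l, -, hl⟩ := hD.exists_lift (gpt w) y (by
      rw [gpt, Category.assoc, hw]; exact hg)
    rw [← hl, show l = 1 from Over.OverMorphism.ext ((cancel_mono D.hom).1 (by rw [Over.w, Over.w]))]
    exact (cancel_mono u).1 (by rw [Category.assoc, ← hD.w, MonObj.one_comp, MonObj.one_comp])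
  suffices hpts : ∀ y : VecGrp.pt k k ⟶ U, y = 1 by
    refine ⟨inferInstance, inferInstance, inferInstance, fun V _ v _ hvc hvs hvcn hvn hV => ?_⟩
    haveI := hvc; haveI := hvs
    haveI : IsAffine V.left := isAffine_of_isAffineHom v.left
    haveI : Mono v := Over.mono_of_mono_left v
    obtain ⟨f, hf⟩ := hmaxU V v hvc hvs hvcn hvn hV
    exact isTrivialGrp_of_pts fun x => (cancel_mono v).1 (by
      have h1 : x ≫ v = (x ≫ f) ≫ u := by rw [Category.assoc, hf]
      rw [h1, hpts (x ≫ f), MonObj.one_comp, MonObj.one_comp])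
  intro x
  by_contra hx
  obtain ⟨N, r, hr, hrc, a, hdiag⟩ := exists_diagRep C iT
  haveI := hr
  haveI := hrc
  have hdiag' : ∀ τ : VecGrp.pt k k ⟶ T, (mtxFn r (τ ≫ iT) : Matrix (Fin N) (Fin N) k) =
      Matrix.diagonal fun j => ptChr C τ (Multiplicative.ofAdd (a j)) := fun τ => by
    rw [coe_mtxFn, mtxMat, hdiag, Matrix.diagonal_map (map_zero _)]
    rfl
  -- commutation with a kernel
  have hcomm : ∀ (δ : Fin d → ℤ) (y : VecGrp.pt k k ⟶ G),
      (∀ i j, (mtxFn r y : Matrix (Fin N) (Fin N) k) i j ≠ 0 → proj δ (a i - a j) = 0) →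
      ∀ σ : VecGrp.pt k k ⟶ Red.DS (Spec (CommRingCat.of k)) (Fin (rk δ) → ℤ),
        y * (σ ≫ kerInc C δ ≫ iT) = (σ ≫ kerInc C δ ≫ iT) * y := fun δ y hy σ => by
    refine mtxFn_injective r (Units.ext ?_)
    rw [← mtx_apply, ← mtx_apply, map_mul, map_mul, Units.val_mul, Units.val_mul, mtx_apply, mtx_apply,
      ← Category.assoc, hdiag']
    ext i j
    rw [Matrix.mul_diagonal, Matrix.diagonal_mul]
    by_cases h0 : (mtxFn r y : Matrix (Fin N) (Fin N) k) i j = 0
    · rw [h0, MulZeroClass.zero_mul, MulZeroClass.mul_zero]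
    · rw [ptChr_kerInc, ptChr_kerInc, show proj δ (a i) = proj δ (a j) from sub_eq_zero.1 (by
        rw [← map_sub]; exact hy i j h0), mul_comm]
  obtain ⟨b, hb⟩ := exists_pairing_ne_zero
    ((Finset.univ.image fun p : Fin N × Fin N => a p.1 - a p.2).filter (· ≠ 0)) fun v hv => (Finset.mem_filter.1 hv).2
  have hsep : ∀ i j, wt a b i = wt a b j → a i = a j := fun i j h => by
    by_contra hne
    refine hb (a i - a j) (Finset.mem_filter.2 ⟨Finset.mem_image.2 ⟨(i, j), Finset.mem_univ _, rfl⟩,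
      sub_ne_zero.2 hne⟩) ?_
    simp only [TorPts21.pairing, Pi.sub_apply, sub_mul, Finset.sum_sub_distrib]
    exact sub_eq_zero.2 h
  -- limits of contracted points of the radical are trivial
  have hlimit : ∀ b' : Fin d → ℤ, (∀ i j, wt a b' i = wt a b' j → a i = a j) → ∀ y : VecGrp.pt k k ⟶ U,
      y ≫ u ∈ upPts r (wt a b') → IsUp₁ (wt a b') (mtxFn r (y ≫ u) : Matrix (Fin N) (Fin N) k) :=
    fun b' hsep' y hy => by
    refine ⟨hy, fun i j hij => ?_⟩
    obtain ⟨lam, hlam⟩ := BorelLam21.exists_lam C hdiag' b'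
    obtain ⟨z, ⟨z', rfl⟩, -, hz⟩ := exists_curve_pt hlam hy (isClosed_pts u) (fun s => by
      obtain ⟨y', hy'⟩ := hun _ (lam s ≫ iT) y
      exact ⟨y', hy'.symm⟩) 0
    have hz0 : ∀ i j, (mtxFn r (z' ≫ u) : Matrix (Fin N) (Fin N) k) i j =
        if wt a b' i = wt a b' j then (mtxFn r (y ≫ u) : Matrix (Fin N) (Fin N) k) i j else 0 := fun i j => by
      rw [hz]; exact curveAt_zero_apply hy i j
    have h1 := hker T (𝟙 T) hT T iT (by rw [Category.id_comp]; exact hc) (UInvFG21.isReductiveOver_torus hT) z'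
      fun σ => by
        rw [Category.id_comp]
        refine mtxFn_injective r (Units.ext ?_)
        rw [← mtx_apply, ← mtx_apply, map_mul, map_mul, Units.val_mul, Units.val_mul, mtx_apply, mtx_apply, hdiag']
        ext i j
        rw [Matrix.mul_diagonal, Matrix.diagonal_mul, hz0]
        split_ifs with hw
        · rw [hsep' i j hw, mul_comm]
        · rw [MulZeroClass.zero_mul, MulZeroClass.mul_zero]
    have h2 := hz0 i j
    rw [h1, MonObj.one_comp, ← mtx_apply, map_one, Units.val_one, if_pos hij] at h2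
    exact h2.symm
  -- the product of the radical and the torus
  obtain ⟨W, _, eW, m, hmm, -, hm⟩ := exists_semidirect u iT fun X g y => by
    obtain ⟨y', hy'⟩ := hun X (g ≫ iT) y
    exact ⟨y', hy'.symm⟩
  haveI := hmm
  haveI : Smooth (U ⊗ T).hom := inferInstanceAs (Smooth (pullback.fst U.hom T.hom ≫ U.hom))
  haveI : IsAffine (U ⊗ T).left := inferInstanceAs (IsAffine (pullback U.hom T.hom))
  haveI : ConnectedSpace (U ⊗ T).left := by
    haveI := AbRigid.irreducibleSpace_of_isAlgClosed U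
    haveI := AbRigid.geometricallyIrreducible_of_connected T
    haveI : IrreducibleSpace ↥(Limits.pullback U.hom T.hom) := inferInstance
    exact inferInstanceAs (ConnectedSpace ↥(Limits.pullback U.hom T.hom))
  haveI : IsIso eW.hom.left := inferInstanceAs (IsIso ((Over.forget _).map eW.hom))
  haveI : Smooth W.hom := by rw [← Over.w eW.hom]; infer_instance
  haveI : IsAffine W.left := IsAffine.of_isIso eW.hom.left
  haveI : ConnectedSpace W.left := eW.inv.left.surjective.connectedSpace eW.inv.left.continuous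
  obtain ⟨H, _, i, p, hi, hic, hHs, hpm, hps, hpi⟩ := exists_image_gen (m ≫ fst G T)
  haveI := hi; haveI := hic; haveI := hHs; haveI := hps
  haveI : IsAffine H.left := isAffine_of_isAffineHom i.left
  haveI : ConnectedSpace H.left := p.left.surjective.connectedSpace p.left.continuous
  haveI : Mono i := Over.mono_of_mono_left i
  have hin : ∀ {X : Over (Spec (CommRingCat.of k))} (q : X ⟶ U) (t : X ⟶ T),
      (lift q t ≫ eW.inv ≫ p) ≫ i = (q ≫ u) * (t ≫ iT) := fun q t => by
    rw [Category.assoc, Category.assoc, hpi, ← Category.assoc eW.inv, ← Category.assoc (lift q t), hm, lift_fst]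
  have hout : ∀ z : VecGrp.pt k k ⟶ H, ∃ (q : VecGrp.pt k k ⟶ U) (t : VecGrp.pt k k ⟶ T),
      z ≫ i = (q ≫ u) * (t ≫ iT) := fun z => by
    obtain ⟨w, rfl⟩ := AttrBorel21.exists_pt_lift p z
    refine ⟨w ≫ eW.hom ≫ fst U T, w ≫ eW.hom ≫ snd U T, ?_⟩
    rw [← hin, ← comp_lift, ← comp_lift, lift_fst_snd, Category.comp_id]
    simp
  obtain ⟨tH, htH⟩ : ∃ tH : T ⟶ H, tH ≫ i = iT :=
    ⟨lift 1 (𝟙 T) ≫ eW.inv ≫ p, by rw [hin, MonObj.one_comp, _root_.one_mul, Category.id_comp]⟩
  haveI : IsMonHom tH := BorelFix21.isMonHom_of_comp i tH (htH.symm ▸ hc.1)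
  -- a contracted point of the radical
  obtain ⟨b', hsep', y, hy1, hyup⟩ : ∃ b' : Fin d → ℤ, (∀ i j, wt a b' i = wt a b' j → a i = a j) ∧
      ∃ y : VecGrp.pt k k ⟶ U, y ≠ 1 ∧ y ≫ u ∈ upPts r (wt a b') := by
    by_cases hall : ∀ z : VecGrp.pt k k ⟶ H, z ≫ i ∈ upPts r (wt a b) → z ≫ i ∈ upPts r (wt a (-b))
    · refine ⟨-b, fun i j h => hsep i j (by rw [wt_neg] at h; exact neg_injective h), x, hx, ?_⟩
      haveI : IsClosedImmersion (i ≫ r).left := by rw [Over.comp_left]; infer_instance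
      haveI : IsIntegral H.left := UnitsRos.isIntegral_of_group H
      have hdH : ∀ (X : Over (Spec (CommRingCat.of k))) (τ : X ⟶ T),
          mat ((τ ≫ tH) ≫ i ≫ r) = Matrix.diagonal fun j => C.ch τ (Multiplicative.ofAdd (a j)) := fun X τ => by
        rw [← hdiag X τ, ← htH]; simp only [Category.assoc]
      obtain ⟨B, _, iB, hBm, hBc, hBs, hBa, hB⟩ := AttrBorel21.exists_attr (i ≫ r) hdH b
      haveI := hBs; haveI := hBa
      have hz0 : ∀ p q, wt a (-b) p < wt a (-b) q → mat (iB ≫ i ≫ r) p q = 0 := fun p q hpq => by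
        by_contra hne
        obtain ⟨z, hz⟩ := exists_val_ne_zero hne
        apply hz
        have h1 : (mtxFn r ((z ≫ iB) ≫ i) : Matrix (Fin N) (Fin N) k) p q = 0 := by
          refine hall _ (fun p' q' h' => ?_) p q hpq
          show (mtxFn r ((z ≫ iB) ≫ i) : Matrix (Fin N) (Fin N) k) p' q' = 0
          rw [coe_mtxFn, mtxMat, Matrix.map_apply, Category.assoc (z ≫ iB),
            (hB _ (z ≫ iB)).1 ⟨z, rfl⟩ p' q' h', map_zero]
        rw [coe_mtxFn, mtxMat, Matrix.map_apply] at h1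
        rw [show mat (((z ≫ iB) ≫ i) ≫ r) p q = z.left.appTop (mat (iB ≫ i ≫ r) p q) by
          simp only [Category.assoc]; rw [mat_comp]; rfl] at h1
        exact h1
      have h1 := blk_neg_of_test (r := i ≫ r) hdH b fun X z hz p q hpq => by
        obtain ⟨z', rfl⟩ := (hB X z).2 hz
        rw [Category.assoc, mat_comp, Matrix.map_apply, hz0 p q hpq, map_zero]
      intro p' q' hpq
      have h2 := h1 _ (lift x (1 : VecGrp.pt k k ⟶ T) ≫ eW.inv ≫ p) p' q' hpq
      rw [← Category.assoc, hin, MonObj.one_comp, _root_.mul_one] at h2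
      show (mtxFn r (x ≫ u) : Matrix (Fin N) (Fin N) k) p' q' = 0
      rw [coe_mtxFn, mtxMat, Matrix.map_apply, h2, map_zero]
    · push Not at hall
      obtain ⟨z, hzb, hznb⟩ := hall
      obtain ⟨q, t, hqt⟩ := hout z
      have ht : ∀ b'', t ≫ iT ∈ upPts r (wt a b'') := fun b'' => torus_mem_upPts C hdiag' b'' t _ rfl
      have hq : q ≫ u = (z ≫ i) * (t ≫ iT)⁻¹ := by rw [hqt, mul_inv_cancel_right]
      refine ⟨b, hsep, q, fun e => hznb ?_, hq ▸ mul_mem hzb (inv_mem (ht b))⟩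
      rw [hqt, e, MonObj.one_comp, _root_.one_mul]
      exact ht (-b)
  have hne : y ≫ u ≠ 1 := fun e => hy1 ((cancel_mono u).1 (by rw [e, MonObj.one_comp]))
  let K : Subgroup (VecGrp.pt k k ⟶ G) :=
    (MonoidHom.mk' (fun z : VecGrp.pt k k ⟶ H => z ≫ i) fun z z' => MonObj.mul_comp z z' i).range
  obtain ⟨y', hy'K, hy'up, hy'ne, hy'ray⟩ := exists_ray C hdiag' K (isClosed_pts i)
    (fun τ => ⟨τ ≫ tH, by show (τ ≫ tH) ≫ i = τ ≫ iT; rw [Category.assoc, htH]⟩) (y ≫ u)
    ⟨lift y 1 ≫ eW.inv ≫ p, by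
      show (lift y 1 ≫ eW.inv ≫ p) ≫ i = y ≫ u
      rw [hin, MonObj.one_comp, _root_.mul_one]⟩ (hlimit b' hsep' y hyup) hne
  obtain ⟨z, rfl⟩ := hy'K
  obtain ⟨q, t, hqt⟩ := hout z
  have hqt' : (MonoidHom.mk' (fun z : VecGrp.pt k k ⟶ H => z ≫ i) fun z z' => MonObj.mul_comp z z' i) z =
      (q ≫ u) * (t ≫ iT) := hqt
  rw [hqt'] at hy'up hy'ne hy'ray
  have ht : t ≫ iT = 1 := by
    have hqup : q ≫ u ∈ upPts r (wt a b') := by
      have := mul_mem (show (q ≫ u) * (t ≫ iT) ∈ upPts r (wt a b') from hy'up.1)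
        (inv_mem (show t ≫ iT ∈ upPts r (wt a b') from torus_mem_upPts C hdiag' b' t _ rfl))
      rwa [mul_inv_cancel_right] at this
    have h1 : t ≫ iT ∈ upPts₁ r (wt a b') := by
      have := mul_mem (inv_mem (show q ≫ u ∈ upPts₁ r (wt a b') from hlimit b' hsep' q hqup))
        (show (q ≫ u) * (t ≫ iT) ∈ upPts₁ r (wt a b') from hy'up)
      rwa [inv_mul_cancel_left] at this
    refine mtxFn_injective r (Units.ext ?_)
    rw [← mtx_apply r 1, map_one, Units.val_one]
    ext i j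
    by_cases e : i = j
    · subst e
      rw [h1.2 i i rfl]
    · rw [hdiag', Matrix.diagonal_apply_ne _ e, Matrix.one_apply_ne e]
  rw [ht, _root_.mul_one] at hy'up hy'ne hy'ray
  obtain ⟨e₀, he₀⟩ := hy'ne
  obtain ⟨hw₀, hne₀⟩ := mem_supp.1 he₀
  have hδ : a e₀.1 - a e₀.2 ≠ 0 := fun e => hw₀ (by rw [wt, wt, sub_eq_zero.1 e])
  have hc0 : TorPts21.pairing (a e₀.1 - a e₀.2) b' ≠ 0 := by
    rw [← wt_sub]; exact sub_ne_zero.2 hw₀
  have hline : ∀ i j, (mtxFn r (q ≫ u) : Matrix (Fin N) (Fin N) k) i j ≠ 0 → ∀ p' q',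
      (a e₀.1 - a e₀.2) p' * (a i - a j) q' = (a e₀.1 - a e₀.2) q' * (a i - a j) p' := fun i j hij p' q' => by
    by_cases hwij : wt a b' i = wt a b' j
    · have h2 := hy'up.2 i j hwij
      have : i = j := by
        by_contra e
        exact hij (h2.trans (Matrix.one_apply_ne e))
      subst this
      simp
    · have hs : ∀ l : Fin d, (a i - a j) l * TorPts21.pairing (a e₀.1 - a e₀.2) b' =
          (a e₀.1 - a e₀.2) l * TorPts21.pairing (a i - a j) b' := fun l => by
        have := hy'ray (i, j) (mem_supp.2 ⟨hwij, hij⟩) e₀ he₀ (Pi.single l 1)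
        simpa [TorPts21.pairing, Pi.single_apply] using this
      refine mul_right_cancel₀ hc0 ?_
      rw [_root_.mul_assoc, _root_.mul_assoc, hs q', hs p']
      ring
  -- a coordinate of the contracted group at the point gives a root on the line
  obtain ⟨V, _, iV, hVm, hVc, hVs, hVa, hV⟩ := exists_unip hdiag b' (G := G) (r := r)
  haveI := hVm; haveI := hVc; haveI := hVs; haveI := hVa
  obtain ⟨κ, _, pc, -, hpc, hbij⟩ := exists_entry_coords hdiag b' iV 1 (MonObj.one_comp iV)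
    ((hV _ _).1 ⟨𝟙 _, Category.id_comp _⟩) (tStab_unip hdiag b' iV hV)
  obtain ⟨v, hv⟩ := (hV _ (q ≫ u)).2 (unp_mat_of_up₁ hy'up)
  obtain ⟨t₀, ht₀⟩ : ∃ t, (mtxFn r (q ≫ u) : Matrix (Fin N) (Fin N) k) (pc t).1 (pc t).2 ≠ 0 := by
    by_contra! hzero
    have hv1 : v = 1 := by
      have h1 : (val v).comp (MvPolynomial.aeval fun t => ent r iV (pc t)) =
          (val (1 : VecGrp.pt k k ⟶ V)).comp (MvPolynomial.aeval fun t => ent r iV (pc t)) :=
        MvPolynomial.algHom_ext fun t => by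
          simp only [AlgHom.comp_apply, MvPolynomial.aeval_X, val_ent]
          rw [hv, MonObj.one_comp, pmat_one, Matrix.one_apply_ne (fun e => (hpc t).ne (by rw [e])),
            ← coe_mtxFn_eq_pmat]
          exact hzero t
      refine Over.OverMorphism.ext (ext_of_isAffine (CommRingCat.hom_ext (RingHom.ext fun F => ?_)))
      refine InvRing21.ptHom_injective (k := k) k ?_
      obtain ⟨P, rfl⟩ := hbij.2 F
      exact AlgHom.congr_fun h1 P
    rw [hv1, MonObj.one_comp] at hv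
    apply hne₀
    rw [← hv, ← mtx_apply, map_one, Units.val_one, Matrix.one_apply_ne fun e => hw₀ (congrArg (wt a b') e)]
  have hδ' : a (pc t₀).1 - a (pc t₀).2 ≠ 0 := fun e => (hpc t₀).ne (by rw [wt, wt, sub_eq_zero.1 e])
  obtain ⟨α, hα, hαe⟩ := exists_isRoot_of_coord C hdiag iV (tStab_unip hdiag b' iV hV) pc
    (fun t h => (hpc t).ne (by rw [h])) hbij t₀ hδ'
  obtain ⟨Z, _, z₁, hz₁, hZ₁⟩ := h _ hδ' ⟨α, hα, hαe⟩
  have h1 := hker _ (kerInc C (a (pc t₀).1 - a (pc t₀).2)) (isTorus_ker _ _) Z z₁ hz₁ hZ₁ q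
    (hcomm _ _ fun i j hij => (proj_eq_zero_iff _ _).2 fun p' q' => by
      obtain ⟨l, hl⟩ : ∃ l, (a e₀.1 - a e₀.2) l ≠ 0 := by
        by_contra! h0
        exact hδ (funext h0)
      have e1 := hline _ _ hij
      have e2 := hline _ _ ht₀
      refine mul_left_cancel₀ (mul_ne_zero hl hl) ?_
      set δ₀ := a e₀.1 - a e₀.2
      set u₁ := a (pc t₀).1 - a (pc t₀).2
      set u₂ := a i - a j
      calc δ₀ l * δ₀ l * (u₁ p' * u₂ q') = (δ₀ l * u₁ p') * (δ₀ l * u₂ q') := by ring
        _ = (δ₀ p' * u₁ l) * (δ₀ q' * u₂ l) := by rw [e2 l p', e1 l q']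
        _ = (δ₀ q' * u₁ l) * (δ₀ p' * u₂ l) := by ring
        _ = (δ₀ l * u₁ q') * (δ₀ l * u₂ p') := by rw [e2 l q', e1 l p']
        _ = _ := by ring)
  rw [h1, MonObj.one_comp, ← mtx_apply, map_one, Units.val_one,
    Matrix.one_apply_ne fun e => hw₀ (congrArg (wt a b') e)] at hne₀
  exact hne₀ rfl

end Groth.Agent.RankOne21
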