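import Groth.Agent.Lib.AttrBorel21.Count
import Groth.Agent.Lib.AttrBorel21.Plane
import Groth.Agent.Lib.AttrBorel21.SplitRed
import Groth.Agent.Lib.AttrBorel21.BorelGen
import Groth.Agent.Lib.BorelLam21.Main
import Groth.Agent.Lib.TorPts21.ReductiveCartan
import Groth.Agent.Lib.AttrBorel21.Unip

/-!
# A reductive group whose weights lie on a line is at most two dimensions bigger than its torus
-/

set_option autoImplicit false
set_option linter.style.haveILetI false
set_option linter.unusedSectionVars false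
set_option backward.isDefEq.respectTransparency.types false

universe u

open CategoryTheory Limits MonoidalCategory CartesianMonoidalCategory MonObj AlgebraicGeometry

noncomputable section

namespace Groth.Agent.RankOne21

open InvRing21 DiagGL TorPts21 BigCell21 BorelLam21 AttrBorel21

attribute [local instance] InvRing21.gamAlg BorelFix21.ptsTop

variable {k : Type u} [Field k] [IsAlgClosed k] {n d : ℕ} {G T : Over (Spec (CommRingCat.of k))}
  [GrpObj G] [GrpObj T] [IsAffine G.left] [Smooth G.hom]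

theorem pairing_sub' (f g b : Fin d → ℤ) : pairing (f - g) b = pairing f b - pairing g b := by
  simp [pairing, sub_mul, Finset.sum_sub_distrib]

theorem pairing_zsmul' (c : ℤ) (f b : Fin d → ℤ) : pairing (c • f) b = c * pairing f b := by
  simp [pairing, Finset.mul_sum, _root_.mul_assoc]

theorem coe_mtxFn_eq_pmat (r : G ⟶ GLs k n) (x : VecGrp.pt k k ⟶ G) :
    (mtxFn r x : Matrix (Fin n) (Fin n) k) = pmat r x := by rw [coe_mtxFn]; rfl

/-- A primitive vector on the line of a nonzero vector. -/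
theorem exists_primitive (δ : Fin d → ℤ) (hδ : δ ≠ 0) :
    ∃ α : Fin d → ℤ, α ≠ 0 ∧ ∀ e : Fin d → ℤ, (∀ p q, δ p * e q = δ q * e p) → ∃ c : ℤ, e = c • α := by
  classical
  let I : Ideal ℤ := Ideal.span (Set.range δ)
  set g := Submodule.IsPrincipal.generator I
  have hdvd : ∀ p, g ∣ δ p := fun p =>
    (Submodule.IsPrincipal.mem_iff_generator_dvd I).1 (Ideal.subset_span ⟨p, rfl⟩)
  choose α hα using hdvd
  have hg : g ≠ 0 := fun h => hδ (funext fun p => by rw [hα p, h, MulZeroClass.zero_mul]; rfl)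
  obtain ⟨u, hu⟩ := Ideal.mem_span_range_iff_exists_fun.1 (Submodule.IsPrincipal.generator_mem I)
  have h1 : ∑ p, u p * α p = 1 := mul_left_cancel₀ hg (by
    rw [_root_.mul_one, Finset.mul_sum]
    refine Eq.trans (Finset.sum_congr rfl fun p _ => ?_) hu
    rw [hα p]; ring)
  refine ⟨α, fun h => hδ (funext fun p => by rw [hα p, h]; simp), fun e he => ⟨∑ p, u p * e p, funext fun q => ?_⟩⟩
  have h2 : ∀ p, α p * e q = α q * e p := fun p => mul_left_cancel₀ hg (by
    rw [← _root_.mul_assoc, ← _root_.mul_assoc, ← hα p, ← hα q, he p q])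
  calc e q = (∑ p, u p * α p) * e q := by rw [h1, _root_.one_mul]
    _ = ∑ p, u p * e p * α q := by
        rw [Finset.sum_mul]
        exact Finset.sum_congr rfl fun p _ => by rw [_root_.mul_assoc, h2 p]; ring
    _ = _ := by rw [Pi.smul_apply, smul_eq_mul, Finset.sum_mul]

variable {iT : T ⟶ G} [IsMonHom iT] (C : Chars (Fin d → ℤ) T) {r : G ⟶ GLs k n} [IsMonHom r]
  [IsClosedImmersion r.left] {a : Fin n → Fin d → ℤ}
  (hdiag : ∀ (X : Over (Spec (CommRingCat.of k))) (x : X ⟶ T),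
    mat ((x ≫ iT) ≫ r) = Matrix.diagonal fun j => C.ch x (Multiplicative.ofAdd (a j)))

include hdiag in
theorem diag_pt (τ : VecGrp.pt k k ⟶ T) : (mtxFn r (τ ≫ iT) : Matrix (Fin n) (Fin n) k) =
    Matrix.diagonal fun j => ptChr C τ (Multiplicative.ofAdd (a j)) := by
  rw [coe_mtxFn, mtxMat, hdiag, Matrix.diagonal_map (map_zero _)]
  rfl

include hdiag in
/-- Conjugation by a torus point scales the entries. -/
theorem entry_conj (τ : VecGrp.pt k k ⟶ T) (x y : VecGrp.pt k k ⟶ G) (h : y * (τ ≫ iT) = (τ ≫ iT) * x)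
    (i j : Fin n) : pmat r y i j * ptChr C τ (Multiplicative.ofAdd (a j)) =
      ptChr C τ (Multiplicative.ofAdd (a i)) * pmat r x i j := by
  have h1 := congrArg (pmat r) h
  rw [pmat_mul, pmat_mul, ← coe_mtxFn_eq_pmat r (τ ≫ iT), diag_pt C hdiag] at h1
  have h2 := congrFun (congrFun h1 i) j
  rwa [Matrix.mul_diagonal, Matrix.diagonal_mul] at h2

include hdiag in
/-- The entries of weights off the line of `δ` vanish if the corresponding cocharacters are central. -/
theorem line_of_central (δ : Fin d → ℤ)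
    (hc : ∀ (τ : VecGrp.pt k k ⟶ T) (p q : Fin d) (s : kˣ), (∀ m : Fin d → ℤ,
      ptChr C τ (Multiplicative.ofAdd m) = ((s ^ (δ p * m q - δ q * m p) : kˣ) : k)) →
        ∀ x : VecGrp.pt k k ⟶ G, x * (τ ≫ iT) = (τ ≫ iT) * x)
    (i j : Fin n) (hij : mat r i j ≠ 0) (p q : Fin d) : δ p * (a i - a j) q = δ q * (a i - a j) p := by
  obtain ⟨x, hx⟩ := exists_val_ne_zero hij
  have h : ∀ s : kˣ, s ^ (δ p * a j q - δ q * a j p) = s ^ (δ p * a i q - δ q * a i p) := fun s => by
    obtain ⟨τ, hτ⟩ := exists_cochar_pt C (δ p • Pi.single q 1 - δ q • Pi.single p 1) s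
    have hp : ∀ m : Fin d → ℤ, pairing m (δ p • Pi.single q 1 - δ q • Pi.single p 1) = δ p * m q - δ q * m p := by
      intro m
      simp [pairing, mul_sub, Finset.sum_sub_distrib, Pi.single_apply, mul_comm]
    have h1 := entry_conj C hdiag τ x x (hc τ p q s (fun m => by rw [hτ, hp]) x) i j
    rw [hτ, hτ, hp, hp, pmat_apply] at h1
    exact Units.ext (mul_left_cancel₀ hx (h1.trans (mul_comm _ _)))
  have h2 := BorelLam21.zpow_inj h
  simp only [Pi.sub_apply]
  linarith

variable [ConnectedSpace G.left] (hG : Red.IsReductiveOver k G) (hT : AGF.IsMaxTorus iT)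
  (α₀ : Fin d → ℤ) (hline : ∀ i j, mat r i j ≠ 0 → ∃ c : ℤ, a i - a j = c • α₀)

include hdiag hG hT hline in
set_option maxHeartbeats 4000000 in
/-- One coordinate on each side. -/
theorem card_le_one (b : Fin d → ℤ) (hsep : ∀ i j, wt a b i = wt a b j → a i = a j)
    {U : Over (Spec (CommRingCat.of k))} [GrpObj U] [IsAffine U.left] (iU : U ⟶ G) [IsMonHom iU]
    [IsClosedImmersion iU.left]
    (hU : ∀ (X : Over (Spec (CommRingCat.of k))) (x : X ⟶ G), (∃ y, y ≫ iU = x) ↔ Unp (wt a (-b)) (mat (x ≫ r)))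
    {κ : Type} [Fintype κ] (p : κ → Fin n × Fin n) (hp : ∀ t, wt a (-b) (p t).2 < wt a (-b) (p t).1)
    (hbij : Function.Bijective (MvPolynomial.aeval fun t => ent r iU (p t) :
      MvPolynomial κ k →ₐ[k] Γ(U.left, ⊤))) : Fintype.card κ ≤ 1 := by
  classical
  by_contra hcard
  obtain ⟨t₁, t₂, ht⟩ := Fintype.one_lt_card_iff.1 (Nat.lt_of_not_le hcard)
  let e := AlgEquiv.ofBijective _ hbij
  have he : ∀ t, e.symm (ent r iU (p t)) = MvPolynomial.X t := fun t => by
    rw [show ent r iU (p t) = e (MvPolynomial.X t) from (MvPolynomial.aeval_X (fun t => ent r iU (p t)) t).symm,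
      AlgEquiv.symm_apply_apply]
  have hwt : ∀ t, ∃ c : ℤ, a (p t).1 - a (p t).2 = c • α₀ ∧ c * pairing α₀ b < 0 := fun t => by
    obtain ⟨c, hc⟩ := hline (p t).1 (p t).2 fun h0 => by
      have h1 := he t
      rw [ent, mat_comp, Matrix.map_apply, h0, map_zero, map_zero] at h1
      exact MvPolynomial.X_ne_zero t h1.symm
    refine ⟨c, hc, ?_⟩
    rw [← pairing_zsmul', ← hc, pairing_sub']
    have := hp t
    simp only [wt, pairing_neg, neg_lt_neg_iff] at this
    omega
  choose c hc hcb using hwt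
  obtain ⟨α, hα, m, hm, hma⟩ : ∃ α : Fin d → ℤ, pairing α b < 0 ∧ ∃ m : κ → ℕ, (∀ t, m t ≠ 0) ∧
      ∀ t, a (p t).1 - a (p t).2 = (m t : ℤ) • α := by
    rcases lt_trichotomy (pairing α₀ b) 0 with h | h | h
    · refine ⟨α₀, h, fun t => (c t).toNat, fun t => ?_, fun t => ?_⟩
      · have := pos_of_mul_neg_left (hcb t) h.le
        show (c t).toNat ≠ 0
        omega
      · rw [Int.toNat_of_nonneg (pos_of_mul_neg_left (hcb t) h.le).le, hc]
    · have := hcb t₁
      rw [h, MulZeroClass.mul_zero] at this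
      exact absurd this (lt_irrefl _)
    · refine ⟨-α₀, by rw [show -α₀ = (-1 : ℤ) • α₀ by simp, pairing_zsmul']; omega,
        fun t => (-c t).toNat, fun t => ?_, fun t => ?_⟩
      · have := neg_of_mul_neg_left (hcb t) h.le
        show (-c t).toNat ≠ 0
        omega
      · rw [Int.toNat_of_nonneg (by have := neg_of_mul_neg_left (hcb t) h.le; omega), hc, neg_smul, smul_neg, neg_neg]
  -- the plane
  let sub : κ → MvPolynomial (Fin 2) k := fun t =>
    if t = t₁ then MvPolynomial.X 0 ^ m t else if t = t₂ then MvPolynomial.X 1 ^ m t else 0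
  let φ : Γ(U.left, ⊤) →ₐ[k] MvPolynomial (Fin 2) k := (MvPolynomial.aeval sub).comp e.symm.toAlgHom
  have hφ : ∀ t, φ (ent r iU (p t)) = sub t := fun t => by
    show MvPolynomial.aeval sub (e.symm _) = _
    rw [he, MvPolynomial.aeval_X]
  let h : VecGrp.pt k (MvPolynomial (Fin 2) k) ⟶ U := VecGrp.ptMap φ ≫ uPt U
  let M := pmat r (h ≫ iU)
  let π : (Fin 2 → k) → (VecGrp.pt k k ⟶ U) := fun v => VecGrp.ptMap (MvPolynomial.aeval v) ≫ h
  have hπM : ∀ v, pmat r (π v ≫ iU) = M.map (MvPolynomial.eval v) := fun v => by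
    rw [show π v ≫ iU = VecGrp.ptMap (MvPolynomial.aeval v) ≫ (h ≫ iU) from Category.assoc _ _ _, pmat_comp_ptMap]
    rfl
  have hext : ∀ y z : VecGrp.pt k k ⟶ U,
      (∀ t, pmat r (y ≫ iU) (p t).1 (p t).2 = pmat r (z ≫ iU) (p t).1 (p t).2) → y = z := fun y z hyz => by
    have h1 : (val y).comp e.toAlgHom = (val z).comp e.toAlgHom := MvPolynomial.algHom_ext fun t => by
      show val y (MvPolynomial.aeval _ (MvPolynomial.X t)) = val z (MvPolynomial.aeval _ (MvPolynomial.X t))
      rw [MvPolynomial.aeval_X, val_ent, val_ent]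
      exact hyz t
    have h2 : val y = val z := AlgHom.ext fun f => by simpa using DFunLike.congr_fun h1 (e.symm f)
    rw [← ptMap_val y, h2, ptMap_val]
  have hπp : ∀ v t, pmat r (π v ≫ iU) (p t).1 (p t).2 = MvPolynomial.eval v (sub t) := fun v t => by
    rw [hπM, Matrix.map_apply]
    congr 1
    show pmat r (h ≫ iU) (p t).1 (p t).2 = sub t
    rw [← val_ent, val_ptMap, val_uPt, AlgHom.comp_id, hφ]
  have hM1 : M.map (MvPolynomial.eval ![(0 : k), 0]) = 1 := by
    rw [← hπM, hext (π _) 1 fun t => ?_, MonObj.one_comp, pmat_one]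
    rw [hπp, MonObj.one_comp, pmat_one, Matrix.one_apply_ne fun e0 => (hp t).ne' (congrArg (wt a (-b)) e0)]
    simp only [sub]
    split_ifs <;> simp [hm t]
  have hMu : Unp (wt a (-b)) M := by
    have := (hU _ _).1 ⟨h, rfl⟩
    exact this.map _
  have hdiag' := diag_pt C hdiag
  have hequi : ∀ (τ : VecGrp.pt k k ⟶ T) (v : Fin 2 → k) i j,
      MvPolynomial.eval (fun l => ptChr C τ (Multiplicative.ofAdd α) * v l) (M i j) *
        ptChr C τ (Multiplicative.ofAdd (a j)) =
      ptChr C τ (Multiplicative.ofAdd (a i)) * MvPolynomial.eval v (M i j) := fun τ v i j => by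
    obtain ⟨y, hy⟩ := tStab_unip hdiag (-b) iU hU (VecGrp.pt k k) τ (π v)
    have hy' : (y ≫ iU) * (τ ≫ iT) = (τ ≫ iT) * (π v ≫ iU) := by rw [hy, inv_mul_cancel_right]
    have hyπ : y = π (fun l => ptChr C τ (Multiplicative.ofAdd α) * v l) := hext _ _ fun t => by
      have h1 := entry_conj C hdiag τ _ _ hy' (p t).1 (p t).2
      rw [hπp] at h1
      have h2 : ptChr C τ (Multiplicative.ofAdd (a (p t).1)) = ptChr C τ (Multiplicative.ofAdd α) ^ m t *
          ptChr C τ (Multiplicative.ofAdd (a (p t).2)) := by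
        rw [← map_pow, ← map_mul, ← ofAdd_nsmul, ← ofAdd_add, ← natCast_zsmul, ← hma, sub_add_cancel]
      have h3 : ptChr C τ (Multiplicative.ofAdd (a (p t).2)) ≠ 0 :=
        ((Group.isUnit (Multiplicative.ofAdd (a (p t).2))).map (ptChr C τ)).ne_zero
      rw [h2, _root_.mul_assoc, mul_comm (ptChr C τ (Multiplicative.ofAdd (a (p t).2))),
        ← _root_.mul_assoc] at h1
      rw [hπp, mul_right_cancel₀ h3 h1]
      simp only [sub]
      split_ifs <;> simp [mul_pow]
    have h4 := entry_conj C hdiag τ _ _ hy' i j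
    rwa [hyπ, hπM, hπM] at h4
  have hmono : ∀ i j s, MvPolynomial.coeff s (M i j) ≠ 0 →
      ((s 0 : ℤ) + (1 : ℕ) * (s 1 : ℤ)) • α = a i - a j := fun i j s hs => by
    rw [eq_sub_iff_add_eq]
    refine eq_of_ptChr_mul_eq (C := C) hs fun τ => ?_
    have h1 : MvPolynomial.C (ptChr C τ (Multiplicative.ofAdd (a j))) *
        MvPolynomial.aeval (fun l => MvPolynomial.C (ptChr C τ (Multiplicative.ofAdd α)) * MvPolynomial.X l) (M i j) =
        MvPolynomial.C (ptChr C τ (Multiplicative.ofAdd (a i))) * M i j := MvPolynomial.funext fun v => by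
      rw [map_mul, map_mul, MvPolynomial.eval_C, MvPolynomial.eval_C, ← hequi τ v i j, mul_comm]
      congr 1
      show MvPolynomial.aeval v (MvPolynomial.aeval _ (M i j)) = _
      rw [← AlgHom.comp_apply, MvPolynomial.comp_aeval]
      show MvPolynomial.eval _ (M i j) = _
      congr 2
      funext l
      simp
    have h2 := congrArg (MvPolynomial.coeff s) h1
    rw [MvPolynomial.coeff_C_mul, MvPolynomial.coeff_C_mul, coeff_rescale, Fin.prod_univ_two,
      ← _root_.mul_assoc, ← map_pow (ptChr C τ), ← map_pow (ptChr C τ), ← map_mul (ptChr C τ), ← map_mul (ptChr C τ), ← ofAdd_nsmul, ← ofAdd_nsmul, ← ofAdd_add,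
      ← ofAdd_add] at h2
    convert h2 using 4
    rw [add_smul, natCast_zsmul, Nat.cast_one, _root_.one_mul, natCast_zsmul]
    abel
  obtain ⟨B, _, iB, hB, hBb⟩ := exists_upBorel C hG hT hdiag' hsep
  haveI := hB.2.1
  obtain ⟨hTa, hTs, -, -⟩ := props_of_isTorus hT.2.2.1
  haveI := hTs
  haveI : IsReduced T.left := OrbitTop19.isReduced_of_smooth T.hom
  obtain ⟨t, ht'⟩ := exists_lift_closed_of_pts iB iT fun x => (hBb _).2 (torus_mem_upPts C hdiag' b x _ rfl)
  refine false_of_plane hB hT t ht' C r a hdiag' b hBb α hα 1 one_ne_zero M hMu.det hM1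
    (fun x y => ⟨π ![x, y] ≫ iU, by rw [coe_mtxFn_eq_pmat, hπM]⟩) hmono fun x y hxy => ?_
  have h1 : M.map (MvPolynomial.eval ![x, y]) = 1 :=
    eq_one_of_unp_of_isUp (fun i j => by simp only [wt_neg, neg_lt_neg_iff]) (hMu.map _) hxy
  have h2 : ∀ t, MvPolynomial.eval ![x, y] (sub t) = 0 := fun t => by
    rw [← hπp, hπM, h1, Matrix.one_apply_ne fun e0 => (hp t).ne' (congrArg (wt a (-b)) e0)]
  have hx := h2 t₁
  have hy := h2 t₂
  simp [sub, hm t₁] at hx
  simp [sub, hm t₂, ht.symm] at hy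
  exact ⟨hx, hy⟩

omit hline in
include hdiag hG hT in
set_option maxHeartbeats 1600000 in
/-- The big cell bounds the dimension. -/
theorem dim_le_card_add (b : Fin d → ℤ) (hsep : ∀ i j, wt a b i = wt a b j → a i = a j)
    {U V : Over (Spec (CommRingCat.of k))} [GrpObj U] [IsAffine U.left] [GrpObj V] [IsAffine V.left]
    (iU : U ⟶ G) [IsMonHom iU] (iV : V ⟶ G) [IsMonHom iV]
    (hU : ∀ (X : Over (Spec (CommRingCat.of k))) (x : X ⟶ G), (∃ y, y ≫ iU = x) ↔ Unp (wt a (-b)) (mat (x ≫ r)))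
    (hV : ∀ (X : Over (Spec (CommRingCat.of k))) (x : X ⟶ G), (∃ y, y ≫ iV = x) ↔ Unp (wt a b) (mat (x ≫ r)))
    {κm κp : Type} [Fintype κm] [Fintype κp] (pm : κm → Fin n × Fin n) (pp : κp → Fin n × Fin n)
    (hm : Function.Bijective (MvPolynomial.aeval fun t => ent r iU (pm t) : MvPolynomial κm k →ₐ[k] Γ(U.left, ⊤)))
    (hp : Function.Bijective (MvPolynomial.aeval fun t => ent r iV (pp t) : MvPolynomial κp k →ₐ[k] Γ(V.left, ⊤))) :
    topologicalKrullDim G.left ≤ ((Fintype.card κm + Fintype.card κp + d : ℕ) : WithBot ℕ∞) := by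
  classical
  haveI : IsIntegral G.left := UnitsRos.isIntegral_of_group G
  let R : Type u := MvPolynomial (κm ⊕ κp ⊕ Fin d) k
  let f : R := ∏ l : Fin d, MvPolynomial.X (Sum.inr (Sum.inr l))
  let L : Type u := Localization.Away f
  have hf : f ≠ 0 := Finset.prod_ne_zero_iff.2 fun l _ => MvPolynomial.X_ne_zero _
  haveI : IsDomain L := IsLocalization.isDomain_localization (powers_le_nonZeroDivisors_of_noZeroDivisors hf)
  haveI : Algebra.FinitePresentation R L := IsLocalization.Away.finitePresentation f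
  haveI : Algebra.FiniteType k L := Algebra.FiniteType.trans (S := R) inferInstance inferInstance
  haveI : Algebra.IsAlgebraic R L := IsLocalization.isAlgebraic L (Submonoid.powers f)
  let incl : R →ₐ[k] L := IsScalarTower.toAlgHom k R L
  have hu : ∀ l : Fin d, IsUnit (incl (MvPolynomial.X (Sum.inr (Sum.inr l)))) := fun l =>
    isUnit_of_dvd_unit (map_dvd incl (Finset.dvd_prod_of_mem
      (fun l : Fin d => (MvPolynomial.X (Sum.inr (Sum.inr l)) : R)) (Finset.mem_univ l)))
      (show IsUnit (algebraMap R L f) from IsLocalization.Away.algebraMap_isUnit f)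
  let em := AlgEquiv.ofBijective _ hm
  let ep := AlgEquiv.ofBijective _ hp
  let φm : Γ(U.left, ⊤) →ₐ[k] L := (incl.comp (MvPolynomial.rename Sum.inl)).comp em.symm.toAlgHom
  let φp : Γ(V.left, ⊤) →ₐ[k] L :=
    (incl.comp (MvPolynomial.rename fun t => Sum.inr (Sum.inl t))).comp ep.symm.toAlgHom
  let xm : VecGrp.pt k L ⟶ U := VecGrp.ptMap φm ≫ uPt U
  let xp : VecGrp.pt k L ⟶ V := VecGrp.ptMap φp ≫ uPt V
  obtain ⟨xt, hxt⟩ := exists_chi C (monom fun l => (hu l).unit)
  let q : VecGrp.pt k L ⟶ G := (xm ≫ iU) * (xt ≫ iT) * (xp ≫ iV)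
  have hdiag' := diag_pt C hdiag
  obtain ⟨Cz, _, cz, hcz, -, -⟩ :=
    MTRigid29.exists_centralizer (MTRigid29.isMT_of_ft (isMultTypeFT_of_isTorus hT.2.2.1)) ‹_› inferInstance iT
  obtain ⟨lC, hlC⟩ := exists_lift_cartan_reductive hG hT hcz
  -- decomposition of contracted points
  have hdec : ∀ (b' : Fin d → ℤ), (∀ i j, wt a b' i = wt a b' j → a i = a j) → ∀ x : VecGrp.pt k k ⟶ G,
      Blk (wt a b') (pmat r x) → ∃ (τ : VecGrp.pt k k ⟶ T) (u : VecGrp.pt k k ⟶ G),
        x = u * (τ ≫ iT) ∧ Unp (wt a b') (pmat r u) := fun b' hsep' x hx => by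
    obtain ⟨z, hz⟩ := AttrBorel21.exists_lim hdiag b' x hx
    have hzc : ∀ τ : VecGrp.pt k k ⟶ T, z * (τ ≫ iT) = (τ ≫ iT) * z := fun τ => by
      refine pmat_injective r ?_
      rw [pmat_mul, pmat_mul, hz, ← coe_mtxFn_eq_pmat r (τ ≫ iT), hdiag' τ]
      ext i j
      rw [Matrix.mul_diagonal, Matrix.diagonal_mul, blkDiag, Matrix.of_apply]
      split_ifs with he
      · rw [hsep' i j he, mul_comm]
      · simp
    obtain ⟨g, rfl⟩ := exists_gpt z
    obtain ⟨w, rfl⟩ := exists_lift_centralizer_pt hT.2.2.1 hcz g hzc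
    obtain ⟨τ, hτ⟩ : ∃ τ : VecGrp.pt k k ⟶ T, τ ≫ iT = gpt (w ≫ cz) :=
      ⟨gpt (w ≫ lC), by rw [gpt, Category.assoc, Category.assoc, hlC]; rfl⟩
    rw [← hτ] at hz
    refine ⟨τ, x * (τ ≫ iT)⁻¹, by rw [inv_mul_cancel_right], ?_⟩
    have hDb : Blk (wt a b') (pmat r (τ ≫ iT)) := by
      rw [← coe_mtxFn_eq_pmat r (τ ≫ iT), hdiag' τ]; exact blk_diagonal _ _
    have h1 : pmat r (τ ≫ iT)⁻¹ * pmat r (τ ≫ iT) = 1 := by rw [← pmat_mul, inv_mul_cancel, pmat_one]
    obtain ⟨hb, hd⟩ := blk_left_inv hDb h1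
    refine ⟨?_, ?_⟩
    · rw [pmat_mul]; exact (blk_iff _ _).2 (((blk_iff _ _).1 hx).mul ((blk_iff _ _).1 hb))
    · rw [pmat_mul, blkDiag_mul hx hb, ← hz]
      have h2 : blkDiag (wt a b') (pmat r (τ ≫ iT)⁻¹) = pmat r (τ ≫ iT)⁻¹ := by
        rw [← GrpObj.inv_comp, ← coe_mtxFn_eq_pmat, hdiag']
        ext i j
        rw [blkDiag, Matrix.of_apply]
        split_ifs with he
        · rfl
        · rw [Matrix.diagonal_apply_ne _ fun e => he (congrArg _ e)]
      rw [h2, ← pmat_mul, mul_inv_cancel, pmat_one]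
  have hunp : ∀ (b' : Fin d → ℤ) (u : VecGrp.pt k k ⟶ G), Unp (wt a b') (pmat r u) → Unp (wt a b') (mat (u ≫ r)) :=
    fun b' u hu => by
      let χ : k →+* Γ((VecGrp.pt k k).left, ⊤) := (Scheme.ΓSpecIso (CommRingCat.of k)).inv.hom
      have e : mat (u ≫ r) = (pmat r u).map χ := by
        ext i j
        exact (ConcreteCategory.congr_hom (Scheme.ΓSpecIso (CommRingCat.of k)).hom_inv_id _).symm
      rw [e]
      exact hu.map χ
  have hinj : Function.Injective (val q) := by
    refine (injective_iff_map_eq_zero _).2 fun F hF => ?_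
    by_contra hne
    let P : Γ(G.left, ⊤) := ∏ i : Fin n,
      ((mat r).submatrix (Subtype.val : upIdx (wt a b) i → Fin n) Subtype.val).det
    have hP : ∀ x : VecGrp.pt k k ⟶ G, val x P = ∏ i : Fin n, ((mtxFn r x : Matrix (Fin n) (Fin n) k).submatrix
        (Subtype.val : upIdx (wt a b) i → Fin n) Subtype.val).det := fun x => by
      rw [map_prod]
      refine Finset.prod_congr rfl fun i _ => ?_
      rw [AlgHom.map_det, coe_mtxFn, mtxMat, DiagGL.mat_comp]
      rfl
    have hP0 : P ≠ 0 := fun h0 => by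
      have h1 := hP 1
      rw [h0, map_zero] at h1
      refine Finset.prod_ne_zero_iff.2 (fun i _ => ?_) h1.symm
      rw [← mtx_apply, map_one, Units.val_one, Matrix.submatrix_one _ Subtype.val_injective, Matrix.det_one]
      exact one_ne_zero
    obtain ⟨x, hx⟩ := exists_val_ne_zero (mul_ne_zero hP0 hne)
    rw [map_mul, hP] at hx
    obtain ⟨x₁, x₂, rfl, h₁, h₂⟩ := BigCell21.exists_factor C r a b hdiag' x fun i =>
      (Finset.prod_ne_zero_iff.1 (left_ne_zero_of_mul hx)) i (Finset.mem_univ _)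
    obtain ⟨τ₁, u₁, rfl, hu₁⟩ := hdec (-b) (fun i j h => hsep i j (by rw [wt_neg] at h; exact neg_injective h)) x₁
      (by rw [← coe_mtxFn_eq_pmat]; exact h₁)
    have h₂' : Blk (wt a b) (pmat r (τ₁ ≫ iT * x₂)) := by
      rw [pmat_mul, ← coe_mtxFn_eq_pmat r (τ₁ ≫ iT), hdiag']
      exact (blk_iff _ _).2 (((blk_iff _ _).1 (blk_diagonal _ _)).mul
        ((blk_iff _ _).1 (by rw [← coe_mtxFn_eq_pmat]; exact h₂)))
    obtain ⟨τ, u₂, h₂₂, hu₂⟩ := hdec b hsep _ h₂'
    obtain ⟨v₂, hv₂⟩ : ∃ v₂, v₂ ≫ iV = (τ ≫ iT)⁻¹ * u₂ * (τ ≫ iT) := by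
      obtain ⟨w, hw⟩ : ∃ w, w ≫ iV = u₂ := (hV _ _).2 (hunp b u₂ hu₂)
      obtain ⟨w', hw'⟩ := tStab_unip hdiag b iV hV (VecGrp.pt k k) τ⁻¹ w
      exact ⟨w', by rw [hw', GrpObj.inv_comp, inv_inv, hw]⟩
    obtain ⟨v₁, hv₁⟩ : ∃ v₁, v₁ ≫ iU = u₁ := (hU _ _).2 (hunp (-b) u₁ hu₁)
    have hxe : u₁ * (τ₁ ≫ iT) * x₂ = (v₁ ≫ iU) * (τ ≫ iT) * (v₂ ≫ iV) := by
      rw [_root_.mul_assoc, h₂₂, hv₁, hv₂]; group
    -- specialise the universal point
    let g : (κm ⊕ κp ⊕ Fin d) → k := Sum.elim (fun t => pmat r (v₁ ≫ iU) (pm t).1 (pm t).2)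
      (Sum.elim (fun t => pmat r (v₂ ≫ iV) (pp t).1 (pp t).2)
        fun l => ptChr C τ (Multiplicative.ofAdd (Pi.single l 1)))
    have hg : ∀ y : Submonoid.powers f, IsUnit (MvPolynomial.aeval g (y : R)) := by
      rintro ⟨_, N, rfl⟩
      rw [map_pow]
      refine (IsUnit.pow N ?_)
      simp only [f, map_prod, MvPolynomial.aeval_X, g, Sum.elim_inr]
      exact IsUnit.prod_iff.2 fun l _ => (Group.isUnit (Multiplicative.ofAdd (Pi.single l 1))).map (ptChr C τ)
    let θ : L →ₐ[k] k := IsLocalization.liftAlgHom (M := Submonoid.powers f) hg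
    have hθ : ∀ y, θ (incl y) = MvPolynomial.aeval g y := fun y => IsLocalization.lift_eq _ _
    have hqx : VecGrp.ptMap θ ≫ q = (v₁ ≫ iU) * (τ ≫ iT) * (v₂ ≫ iV) := by
      simp only [q, MonObj.comp_mul, ← Category.assoc]
      congr 2
      · congr 1
        rw [← ptMap_val v₁, ← ptMap_val (VecGrp.ptMap θ ≫ xm)]
        congr 2
        refine AlgHom.ext fun F => ?_
        have h1 : (val (VecGrp.ptMap θ ≫ xm)).comp em.toAlgHom = (val v₁).comp em.toAlgHom :=
          MvPolynomial.algHom_ext fun t => by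
            show val (VecGrp.ptMap θ ≫ xm) (MvPolynomial.aeval _ (MvPolynomial.X t)) =
              val v₁ (MvPolynomial.aeval _ (MvPolynomial.X t))
            rw [MvPolynomial.aeval_X, val_ptMap, AlgHom.comp_apply, val_ptMap, val_uPt, AlgHom.comp_id]
            show θ (incl (MvPolynomial.rename Sum.inl (em.symm (ent r iU (pm t))))) = _
            rw [show ent r iU (pm t) = em (MvPolynomial.X t) from (MvPolynomial.aeval_X (fun t => ent r iU (pm t)) t).symm,
              AlgEquiv.symm_apply_apply, MvPolynomial.rename_X, hθ, MvPolynomial.aeval_X,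
              show em (MvPolynomial.X t) = ent r iU (pm t) from MvPolynomial.aeval_X (fun t => ent r iU (pm t)) t, val_ent]
            rfl
        simpa using DFunLike.congr_fun h1 (em.symm F)
      · congr 1
        refine chi_ext C fun l => ?_
        rw [chi_ptMap, hxt, monom_single, IsUnit.unit_spec, hθ, MvPolynomial.aeval_X]
        rfl
      · rw [← ptMap_val v₂, ← ptMap_val (VecGrp.ptMap θ ≫ xp)]
        congr 2
        refine AlgHom.ext fun F => ?_
        have h1 : (val (VecGrp.ptMap θ ≫ xp)).comp ep.toAlgHom = (val v₂).comp ep.toAlgHom :=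
          MvPolynomial.algHom_ext fun t => by
            show val (VecGrp.ptMap θ ≫ xp) (MvPolynomial.aeval _ (MvPolynomial.X t)) =
              val v₂ (MvPolynomial.aeval _ (MvPolynomial.X t))
            rw [MvPolynomial.aeval_X, val_ptMap, AlgHom.comp_apply, val_ptMap, val_uPt, AlgHom.comp_id]
            show θ (incl (MvPolynomial.rename _ (ep.symm (ent r iV (pp t))))) = _
            rw [show ent r iV (pp t) = ep (MvPolynomial.X t) from (MvPolynomial.aeval_X (fun t => ent r iV (pp t)) t).symm,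
              AlgEquiv.symm_apply_apply, MvPolynomial.rename_X, hθ, MvPolynomial.aeval_X,
              show ep (MvPolynomial.X t) = ent r iV (pp t) from MvPolynomial.aeval_X (fun t => ent r iV (pp t)) t, val_ent]
            rfl
        simpa using DFunLike.congr_fun h1 (ep.symm F)
    refine right_ne_zero_of_mul hx ?_
    rw [hxe, ← hqx, val_ptMap, AlgHom.comp_apply, hF, map_zero]
  haveI : IsDomain Γ(G.left, ⊤) := inferInstance
  haveI := InvRing21.finiteType_gam G
  rw [show topologicalKrullDim G.left = topologicalKrullDim (PrimeSpectrum Γ(G.left, ⊤)) from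
      G.left.isoSpec.hom.homeomorph.isHomeomorph.topologicalKrullDim_eq,
    PrimeSpectrum.topologicalKrullDim_eq_ringKrullDim, VarDim.ringKrullDim_eq_tdeg k Γ(G.left, ⊤)]
  have h1 : Algebra.trdeg k Γ(G.left, ⊤) ≤ Algebra.trdeg k L := trdeg_le_of_injective (val q) hinj
  haveI : FaithfulSMul R L := (faithfulSMul_iff_algebraMap_injective R L).2
    (IsLocalization.injective L (powers_le_nonZeroDivisors_of_noZeroDivisors hf))
  have h2 : Algebra.trdeg k L = Algebra.trdeg k R := by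
    rw [← trdeg_add_eq k R (A := L), trdeg_eq_zero (R := R) (A := L), add_zero]
  rw [h2, MvPolynomial.trdeg_of_isDomain, Cardinal.mk_fintype, VarDim.trdeg_eq_tdeg k Γ(G.left, ⊤)] at h1
  simp only [Cardinal.lift_natCast, Fintype.card_sum, Fintype.card_fin, Nat.cast_le] at h1
  exact_mod_cast (show VarDim.tdeg k Γ(G.left, ⊤) ≤ Fintype.card κm + Fintype.card κp + d by omega)

omit hline in
include hG hT in
set_option maxHeartbeats 1600000 in
/-- **A reductive group with weights on a line**: its dimension exceeds the rank by at most two. -/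
theorem dim_le_of_central (δ : Fin d → ℤ) (hδ : δ ≠ 0)
    (hc : ∀ (τ : VecGrp.pt k k ⟶ T) (p q : Fin d) (s : kˣ), (∀ m : Fin d → ℤ,
      ptChr C τ (Multiplicative.ofAdd m) = ((s ^ (δ p * m q - δ q * m p) : kˣ) : k)) →
        ∀ x : VecGrp.pt k k ⟶ G, x * (τ ≫ iT) = (τ ≫ iT) * x) :
    topologicalKrullDim G.left ≤ ((d + 2 : ℕ) : WithBot ℕ∞) := by
  classical
  obtain ⟨N, r, hr, hrc, a, hdiag⟩ := exists_diagRep C iT
  haveI := hr
  haveI := hrc
  obtain ⟨α₀, -, hprim⟩ := exists_primitive δ hδ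
  have hline : ∀ i j, mat r i j ≠ 0 → ∃ c : ℤ, a i - a j = c • α₀ := fun i j hij =>
    hprim _ fun p q => line_of_central C hdiag δ hc i j hij p q
  obtain ⟨b, hb⟩ := exists_pairing_ne_zero
    ((Finset.univ.image fun p : Fin N × Fin N => a p.1 - a p.2).filter (· ≠ 0)) fun v hv => (Finset.mem_filter.1 hv).2
  have hsep : ∀ i j, wt a b i = wt a b j → a i = a j := fun i j h => by
    by_contra hne
    refine hb (a i - a j) (Finset.mem_filter.2 ⟨Finset.mem_image.2 ⟨(i, j), Finset.mem_univ _, rfl⟩,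
      sub_ne_zero.2 hne⟩) ?_
    rw [pairing_sub']
    exact sub_eq_zero.2 h
  have hsep' : ∀ i j, wt a (-b) i = wt a (-b) j → a i = a j := fun i j h =>
    hsep i j (by rw [wt_neg] at h; exact neg_injective h)
  obtain ⟨V, _, iV, hVm, hVc, hVs, hVa, hV⟩ := exists_unip hdiag b (G := G) (r := r)
  obtain ⟨U, _, iU, hUm, hUc, hUs, hUa, hU⟩ := exists_unip hdiag (-b) (G := G) (r := r)
  haveI := hVm; haveI := hVc; haveI := hVs; haveI := hVa
  haveI := hUm; haveI := hUc; haveI := hUs; haveI := hUa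
  obtain ⟨κp, _, pp, -, hpp, hbp⟩ := exists_entry_coords hdiag b iV 1 (MonObj.one_comp iV)
    ((hV _ _).1 ⟨𝟙 _, Category.id_comp _⟩) (tStab_unip hdiag b iV hV)
  obtain ⟨κm, _, pm, -, hpm, hbm⟩ := exists_entry_coords hdiag (-b) iU 1 (MonObj.one_comp iU)
    ((hU _ _).1 ⟨𝟙 _, Category.id_comp _⟩) (tStab_unip hdiag (-b) iU hU)
  have h1 := card_le_one C hdiag hG hT α₀ hline b hsep iU hU pm hpm hbm
  have h2 := card_le_one C hdiag hG hT α₀ hline (-b) hsep' iV
    (fun X x => by rw [neg_neg]; exact hV X x) pp (fun t => by rw [neg_neg]; exact hpp t) hbp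
  exact (dim_le_card_add C hdiag hG hT b hsep iU iV hU hV pm pp hbm hbp).trans
    (by exact_mod_cast (show Fintype.card κm + Fintype.card κp + d ≤ d + 2 by omega))

end Groth.Agent.RankOne21
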