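import Groth.Agent.Lib.RankOne21.Field
import Groth.Agent.Lib.RankOne21.Crit
import Groth.Agent.Lib.RankOne21.Line
import Mathlib.LinearAlgebra.Dimension.Localization
import Groth.Agent.Lib.AttrBorel21.SplitSS
import Groth.Agent.Lib.TorPts21.UnipRadical
import Groth.Agent.Lib.MTExt21.BaseChange

/-!
# A normaliser of a maximal torus of a semisimple group without fixed cocharacters
-/

set_option autoImplicit false
set_option linter.style.haveILetI false
set_option linter.unusedSectionVars false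
set_option backward.isDefEq.respectTransparency.types false

universe u

open CategoryTheory Limits MonoidalCategory CartesianMonoidalCategory MonObj AlgebraicGeometry

noncomputable section

namespace Groth.Agent.RankOne21

open InvRing21 DiagGL TorPts21 BigCell21 BorelLam21 AttrBorel21

attribute [local instance] InvRing21.gamAlg BorelFix21.ptsTop

variable {d : ℕ} {k : Type u} [Field k] [IsAlgClosed k] {G T : Over (Spec (CommRingCat.of k))}
  [GrpObj G] [GrpObj T] (iT : T ⟶ G) (C : Chars (Fin d → ℤ) T)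

/-- Conjugation by `n` acts on the characters of the torus as `A`. -/
def TAct (n : VecGrp.pt k k ⟶ G) (A : (Fin d → ℤ) →+ (Fin d → ℤ)) : Prop :=
  ∀ τ : VecGrp.pt k k ⟶ T, ∃ τ' : VecGrp.pt k k ⟶ T, n * (τ ≫ iT) * n⁻¹ = τ' ≫ iT ∧
    ∀ m, ptChr C τ' (Multiplicative.ofAdd m) = ptChr C τ (Multiplicative.ofAdd (A m))

/-- The actions of the normalisers. -/
def TSet : Set ((Fin d → ℤ) →+ (Fin d → ℤ)) :=
  {A | ∃ (n : VecGrp.pt k k ⟶ G) (B : (Fin d → ℤ) →+ (Fin d → ℤ)), TAct iT C n A ∧ TAct iT C n⁻¹ B}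

variable [IsMonHom iT] [Mono iT]

theorem TAct.unique {n : VecGrp.pt k k ⟶ G} {A B : (Fin d → ℤ) →+ (Fin d → ℤ)} (hA : TAct iT C n A)
    (hB : TAct iT C n B) : A = B := by
  refine AddMonoidHom.ext fun m => eq_of_forall_ptChr C fun τ => ?_
  obtain ⟨τ₁, h1, e1⟩ := hA τ
  obtain ⟨τ₂, h2, e2⟩ := hB τ
  rw [h1] at h2
  rw [← e1, ← e2, (cancel_mono iT).1 h2]

theorem tAct_one : TAct iT C 1 (AddMonoidHom.id _) := fun τ => ⟨τ, by group, fun _ => rfl⟩

theorem TAct.mul {n n' : VecGrp.pt k k ⟶ G} {A A' : (Fin d → ℤ) →+ (Fin d → ℤ)} (h : TAct iT C n A)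
    (h' : TAct iT C n' A') : TAct iT C (n * n') (A'.comp A) := fun τ => by
  obtain ⟨τ₁, h1, e1⟩ := h' τ
  obtain ⟨τ₂, h2, e2⟩ := h τ₁
  refine ⟨τ₂, ?_, fun m => by rw [e2, e1]; rfl⟩
  rw [← h2, ← h1]
  group

theorem id_mem_tSet : AddMonoidHom.id _ ∈ TSet iT C :=
  ⟨1, AddMonoidHom.id _, tAct_one iT C, by rw [inv_one]; exact tAct_one iT C⟩

theorem comp_mem_tSet {A A' : (Fin d → ℤ) →+ (Fin d → ℤ)} (h : A ∈ TSet iT C) (h' : A' ∈ TSet iT C) :
    A.comp A' ∈ TSet iT C := by
  obtain ⟨n, B, hA, hB⟩ := h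
  obtain ⟨n', B', hA', hB'⟩ := h'
  exact ⟨n' * n, B'.comp B, hA'.mul iT C hA, by rw [_root_.mul_inv_rev]; exact hB.mul iT C hB'⟩

theorem exists_right_inverse {A : (Fin d → ℤ) →+ (Fin d → ℤ)} (h : A ∈ TSet iT C) :
    ∃ B : (Fin d → ℤ) →+ (Fin d → ℤ), ∀ m, A (B m) = m := by
  obtain ⟨n, B, hA, hB⟩ := h
  refine ⟨B, fun m => ?_⟩
  have h1 := hB.mul iT C hA
  rw [inv_mul_cancel] at h1
  exact DFunLike.congr_fun (h1.unique iT C (tAct_one iT C)) m

variable [IsAffine G.left] [Smooth G.hom]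

theorem exists_tAct [IsClosedImmersion iT.left] (hT : Red.IsTorus T) (n : VecGrp.pt k k ⟶ G)
    (h : ∀ τ : VecGrp.pt k k ⟶ T, ∃ τ', n * (τ ≫ iT) * n⁻¹ = τ' ≫ iT) :
    ∃ A, TAct iT C n A := by
  obtain ⟨hTa, hTs, -, -⟩ := props_of_isTorus hT
  haveI := hTa
  haveI := hTs
  obtain ⟨φ, hφ⟩ := exists_lift_of_pts iT ((InvRing21.toPt T ≫ n) * iT * (InvRing21.toPt T ≫ n)⁻¹) fun a => by
    obtain ⟨a', ha'⟩ := h a
    refine ⟨a', ?_⟩
    rw [← ha', MonObj.comp_mul, MonObj.comp_mul, GrpObj.comp_inv, ← Category.assoc, InvRing21.comp_toPt,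
      InvRing21.toPt_pt, Category.id_comp]
  haveI : IsMonHom (φ ≫ iT) := by
    rw [hφ]
    refine TorsorSch25.isMonHom_of_points _ fun X x y => ?_
    simp only [MonObj.comp_mul, GrpObj.comp_inv, ← Category.assoc, InvRing21.comp_toPt, MonObj.mul_comp]
    group
  haveI : IsMonHom φ := MTExt21.isMonHom_of_comp' iT φ inferInstance
  obtain ⟨A, hA⟩ := MTRigid29.exists_mapChS_field C C φ
  refine ⟨A, fun τ => ⟨τ ≫ φ, ?_, fun m => ?_⟩⟩
  · rw [Category.assoc, hφ, MonObj.comp_mul, MonObj.comp_mul, GrpObj.comp_inv, ← Category.assoc,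
      InvRing21.comp_toPt, InvRing21.toPt_pt, Category.id_comp]
  · show InvRing21.ptHom k _ = InvRing21.ptHom k _
    rw [hA, MTRigid29.ch_mapChS]
    rfl

theorem pairing_eq_functional (φ : (Fin d → ℤ) →ₗ[ℤ] ℤ) (m : Fin d → ℤ) :
    pairing m (fun p => φ (Pi.single p 1)) = φ m := by
  have h := congrArg φ ((Pi.basisFun ℤ (Fin d)).sum_repr m)
  rw [map_sum] at h
  rw [← h]
  exact Finset.sum_congr rfl fun p _ => by rw [map_zsmul, Pi.basisFun_apply, Pi.basisFun_repr]; rfl

set_option maxHeartbeats 800000 in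
/-- The actions of the normalisers form a finite set. -/
theorem tSet_finite [IsClosedImmersion iT.left] : (TSet iT C).Finite := by
  classical
  obtain ⟨N, r, hr, hrc, a, hdiag⟩ := exists_diagRep C iT
  haveI := hr
  haveI := hrc
  obtain ⟨M, hM0, hM⟩ : ∃ M : ℕ, M ≠ 0 ∧ ∀ m, M • m ∈ Submodule.span ℤ (Set.range a) := by
    refine (exists_functional_or_exponent _).resolve_left fun ⟨φ, hφ, hφ0⟩ => hφ (LinearMap.ext fun m => ?_)
    refine BorelLam21.eq_zero_of_zpow (k := k) fun s => ?_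
    obtain ⟨τ, hτ⟩ := exists_ptChr C ((Units.coeHom k).comp (MonoidHom.mk'
      (fun e : Multiplicative (Fin d → ℤ) => s ^ φ e.toAdd) fun e e' => by rw [toAdd_mul, map_add, zpow_add]))
    have h1 : τ ≫ iT = 1 := pmat_injective r (by
      rw [pmat_one, ← coe_mtxFn_eq_pmat r, diag_pt C hdiag, hτ, ← Matrix.diagonal_one]
      congr 1
      funext j
      show ((s ^ φ (a j) : kˣ) : k) = 1
      rw [hφ0 _ (Submodule.subset_span ⟨j, rfl⟩), zpow_zero, Units.val_one])
    have h2 : τ = 1 := (cancel_mono iT).1 (by rw [h1, MonObj.one_comp])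
    refine Units.ext ?_
    have h3 := DFunLike.congr_fun hτ (Multiplicative.ofAdd m)
    rw [h2] at h3
    rw [Units.val_one]
    refine h3.symm.trans ?_
    show InvRing21.ptHom k _ = 1
    rw [C.one, map_one]
  have hperm : ∀ A ∈ TSet iT C, ∀ i, ∃ j, A (a i) = a j := by
    rintro A ⟨n, B, hA, -⟩ i
    obtain ⟨j, hj⟩ : ∃ j, pmat r n i j ≠ 0 := by
      by_contra! h
      have h1 := congrFun (congrFun (pmat_mul r n n⁻¹) i) i
      rw [mul_inv_cancel, pmat_one, Matrix.one_apply_eq, Matrix.mul_apply] at h1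
      exact one_ne_zero (h1.trans (Finset.sum_eq_zero fun l _ => by rw [h l, MulZeroClass.zero_mul]))
    refine ⟨j, eq_of_forall_ptChr C fun τ => ?_⟩
    obtain ⟨τ', h1, h2⟩ := hA τ
    rw [← h2]
    have h3 : pmat r n * pmat r (τ ≫ iT) = pmat r (τ' ≫ iT) * pmat r n := by
      rw [← pmat_mul, ← pmat_mul, ← h1]; group
    rw [← coe_mtxFn_eq_pmat r (τ ≫ iT), ← coe_mtxFn_eq_pmat r (τ' ≫ iT), diag_pt C hdiag, diag_pt C hdiag] at h3
    have h4 := congrFun (congrFun h3 i) j
    rw [Matrix.mul_diagonal, Matrix.diagonal_mul, mul_comm] at h4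
    exact (mul_right_cancel₀ hj h4).symm
  refine Set.Finite.of_finite_image (f := fun A (i : Fin N) => A (a i)) ?_ fun A hA B hB hAB => ?_
  · refine (Set.Finite.pi' fun _ : Fin N => Set.finite_range a).subset ?_
    rintro _ ⟨A, hA, rfl⟩ i
    obtain ⟨j, hj⟩ := hperm A hA i
    exact ⟨j, hj.symm⟩
  · refine AddMonoidHom.ext fun m => ?_
    have h : ∀ y ∈ Submodule.span ℤ (Set.range a), A y = B y := by
      intro y hy
      induction hy using Submodule.span_induction with
      | mem x hx => obtain ⟨i, rfl⟩ := hx; exact congrFun hAB i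
      | zero => rw [map_zero, map_zero]
      | add x y _ _ hx hy => rw [map_add, map_add, hx, hy]
      | smul z x _ hx => rw [map_zsmul, map_zsmul, hx]
    have h1 := h _ (hM m)
    rw [map_nsmul, map_nsmul] at h1
    exact smul_right_injective _ hM0 h1

variable [ConnectedSpace G.left]

set_option maxHeartbeats 1600000 in
/-- No functional kills all the moving directions. -/
theorem exists_moving (hss : Red.IsSemisimpleOver k G) (hT : AGF.IsMaxTorus iT) (φ : (Fin d → ℤ) →ₗ[ℤ] ℤ)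
    (hφ : φ ≠ 0) :
    ∃ (δ : Fin d → ℤ) (A : (Fin d → ℤ) →+ (Fin d → ℤ)), φ δ ≠ 0 ∧ A ∈ TSet iT C ∧ A ≠ AddMonoidHom.id _ ∧
      ∀ m p q, δ p * (A m - m) q = δ q * (A m - m) p := by
  classical
  haveI := isClosedImmersion_of_torus hT.2.2.1 iT
  obtain ⟨hTa, hTs, hTn, -⟩ := props_of_isTorus hT.2.2.1
  haveI := hTa; haveI := hTs; haveI := hTn
  obtain ⟨N, r, hr, hrc, a, hdiag⟩ := exists_diagRep C iT
  haveI := hr
  haveI := hrc
  have hdiag' := diag_pt C hdiag
  let b : Fin d → ℤ := fun p => φ (Pi.single p 1)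
  have hwt : ∀ i j, wt a b i = wt a b j ↔ φ (a i - a j) = 0 := fun i j => by
    rw [← sub_eq_zero, BorelLam21.wt_sub, pairing_eq_functional]
  obtain ⟨i₀, j₀, hw₀, hf₀⟩ : ∃ i j, wt a b i ≠ wt a b j ∧ mat r i j ≠ 0 := by
    by_contra! hz
    let n := Module.finrank ℤ (LinearMap.range φ)
    let π : (Fin d → ℤ) →+ (Fin n → ℤ) :=
      ((Module.finBasis ℤ (LinearMap.range φ)).equivFun.toLinearMap ∘ₗ φ.rangeRestrict).toAddMonoidHom
    have hπs : Function.Surjective π :=
      (Module.finBasis ℤ (LinearMap.range φ)).equivFun.surjective.comp φ.surjective_rangeRestrict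
    have hπ0 : ∀ e, φ e = 0 → π e = 0 := fun e he => by
      show (Module.finBasis ℤ (LinearMap.range φ)).equivFun (φ.rangeRestrict e) = 0
      rw [show φ.rangeRestrict e = 0 from Subtype.ext he, map_zero]
    obtain ⟨e₀, he₀⟩ : ∃ e, π e ≠ 0 := by
      by_contra! h
      refine hφ (LinearMap.ext fun e => ?_)
      have h1 : (Module.finBasis ℤ (LinearMap.range φ)).equivFun (φ.rangeRestrict e) = 0 := h e
      rw [LinearEquiv.map_eq_zero_iff] at h1
      exact congrArg Subtype.val h1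
    let D := Red.DS (Spec (CommRingCat.of k)) (Fin n → ℤ)
    let lam : D ⟶ T := MTRigid29.mapChS (charsDS _ _) C π
    haveI : IsMonHom lam := MTRigid29.isMonHom_mapChS _ _ _
    haveI : Mono lam := MTRigid29.mono_mapChS _ _ hπs
    have hDt : Red.IsTorus D := isTorus_of_chars (charsDS _ _)
    obtain ⟨hDa, hDs, -, -⟩ := props_of_isTorus hDt
    haveI := hDa
    haveI := hDs
    haveI : IsClosedImmersion (lam ≫ iT).left := isClosedImmersion_of_torus hDt (lam ≫ iT)
    have hchr : ∀ (x : VecGrp.pt k k ⟶ D) (e : Fin d → ℤ), ptChr C (x ≫ lam) (Multiplicative.ofAdd e) =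
        ptChr (charsDS _ _) x (Multiplicative.ofAdd (π e)) := fun x e => by
      show InvRing21.ptHom k _ = InvRing21.ptHom k _
      rw [MTRigid29.ch_mapChS]
      rfl
    have hn : AlgGrp.IsNormalHom (lam ≫ iT) := isNormalHom_of_pts (lam ≫ iT) fun g x => ⟨x, by
      have hcm : g * (x ≫ lam ≫ iT) = (x ≫ lam ≫ iT) * g := pmat_injective r (by
        rw [pmat_mul, pmat_mul, ← Category.assoc, ← coe_mtxFn_eq_pmat r ((x ≫ lam) ≫ iT), hdiag']
        ext i j
        rw [Matrix.mul_diagonal, Matrix.diagonal_mul]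
        by_cases h0 : wt a b i = wt a b j
        · rw [hchr, hchr, show π (a i) = π (a j) from sub_eq_zero.1 (by rw [← map_sub]; exact hπ0 _ ((hwt i j).1 h0)),
            mul_comm]
        · have h1 : pmat r g i j = 0 := by
            show InvRing21.ptHom k (mat (g ≫ r) i j) = 0
            rw [DiagGL.mat_comp, Matrix.map_apply, hz i j h0, map_zero, map_zero]
          rw [h1, MulZeroClass.zero_mul, MulZeroClass.mul_zero])
      rw [hcm, mul_inv_cancel_right]⟩
    refine he₀ (eq_of_forall_ptChr (k := k) (σ := D) (charsDS (Spec (CommRingCat.of k)) (Fin n → ℤ)) fun x => ?_)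
    rw [eq_one_of_isTrivialGrp (hss.2 D (lam ≫ iT) inferInstance hn hDt) x]
    show InvRing21.ptHom k ((charsDS (Spec (CommRingCat.of k)) (Fin n → ℤ)).ch 1 _) =
      InvRing21.ptHom k ((charsDS (Spec (CommRingCat.of k)) (Fin n → ℤ)).ch 1 _)
    rw [(charsDS (Spec (CommRingCat.of k)) (Fin n → ℤ)).one, (charsDS (Spec (CommRingCat.of k)) (Fin n → ℤ)).one]
  -- a contracted point
  obtain ⟨b', hb', y, hy1, hyup⟩ : ∃ b' : Fin d → ℤ, (∀ i j, wt a b' i = wt a b' j ↔ wt a b i = wt a b j) ∧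
      ∃ y : VecGrp.pt k k ⟶ G, y ≠ 1 ∧ IsUp₁ (wt a b') (mtxFn r y : Matrix (Fin N) (Fin N) k) := by
    by_contra! hno
    have hlim : ∀ b', (∀ i j, wt a b' i = wt a b' j ↔ wt a b i = wt a b j) → ∀ x ∈ upPts r (wt a b'),
        ∀ i j, wt a b' i ≠ wt a b' j → (mtxFn r x : Matrix (Fin N) (Fin N) k) i j = 0 := fun b' hb' x hx i j hij => by
      obtain ⟨lam, hlam⟩ := BorelLam21.exists_lam C hdiag' b'
      obtain ⟨z, -, hzup, hz⟩ := exists_curve_pt hlam hx isClosed_univ (fun _ => Set.mem_univ _) 0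
      have hzd : pmat r z = blkDiag (wt a b') (pmat r x) := by
        rw [← coe_mtxFn_eq_pmat, hz, ← coe_mtxFn_eq_pmat]
        ext p q
        refine (curveAt_zero_apply hx p q).trans ?_
        rw [blkDiag, Matrix.of_apply]
        rfl
      have hu : x * z⁻¹ ∈ upPts r (wt a b') := mul_mem hx (inv_mem hzup)
      have hu1 : blkDiag (wt a b') (pmat r (x * z⁻¹)) = 1 := by
        have hbu : Blk (wt a b') (pmat r (x * z⁻¹)) := by rw [← coe_mtxFn_eq_pmat]; exact hu
        have hbz : Blk (wt a b') (pmat r z) := by rw [← coe_mtxFn_eq_pmat]; exact hzup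
        have h1 := blkDiag_mul hbu hbz
        rw [← pmat_mul, inv_mul_cancel_right, ← hzd,
          show blkDiag (wt a b') (pmat r z) = pmat r z by
            rw [hzd]; ext p q; simp only [blkDiag, Matrix.of_apply]; split_ifs <;> rfl] at h1
        have h2 := congrArg (· * pmat r z⁻¹) h1
        simp only [_root_.mul_assoc, ← pmat_mul, mul_inv_cancel, pmat_one, _root_.mul_one] at h2
        exact h2.symm
      have hone : x * z⁻¹ = 1 := by
        by_contra hne
        refine hno b' hb' (x * z⁻¹) hne ⟨hu, fun p q hpq => ?_⟩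
        rw [coe_mtxFn_eq_pmat]
        have h3 := congrFun (congrFun hu1 p) q
        rwa [blkDiag, Matrix.of_apply, if_pos hpq] at h3
      rw [coe_mtxFn_eq_pmat, mul_inv_eq_one.1 hone, hzd, blkDiag, Matrix.of_apply, if_neg hij]
    let P : Γ(G.left, ⊤) := ∏ i : Fin N,
      ((mat r).submatrix (Subtype.val : upIdx (wt a b) i → Fin N) Subtype.val).det
    have hP : ∀ x : VecGrp.pt k k ⟶ G, val x P = ∏ i : Fin N, ((mtxFn r x : Matrix (Fin N) (Fin N) k).submatrix
        (Subtype.val : upIdx (wt a b) i → Fin N) Subtype.val).det := fun x => by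
      rw [map_prod]
      refine Finset.prod_congr rfl fun i _ => ?_
      rw [AlgHom.map_det, coe_mtxFn, mtxMat, DiagGL.mat_comp]
      rfl
    have hP0 : P ≠ 0 := fun h0 => by
      have h1 := hP 1
      rw [h0, map_zero] at h1
      refine Finset.prod_ne_zero_iff.2 (fun i _ => ?_) h1.symm
      rw [← mtx_apply, map_one, Units.val_one, Matrix.submatrix_one _ Subtype.val_injective, Matrix.det_one]
      exact one_ne_zero
    haveI : IsIntegral G.left := UnitsRos.isIntegral_of_group G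
    obtain ⟨x, hx⟩ := exists_val_ne_zero (mul_ne_zero hP0 hf₀)
    rw [map_mul, hP] at hx
    obtain ⟨x₁, x₂, rfl, h₁, h₂⟩ := BigCell21.exists_factor C r a b hdiag' x fun i =>
      (Finset.prod_ne_zero_iff.1 (left_ne_zero_of_mul hx)) i (Finset.mem_univ _)
    apply right_ne_zero_of_mul hx
    have hneg : ∀ i j, wt a (-b) i = wt a (-b) j ↔ wt a b i = wt a b j := fun i j => by
      simp only [wt_neg, neg_inj]
    rw [show val (x₁ * x₂) (mat r i₀ j₀) = pmat r (x₁ * x₂) i₀ j₀ by
      show _ = InvRing21.ptHom k (mat ((x₁ * x₂) ≫ r) i₀ j₀)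
      rw [DiagGL.mat_comp]; rfl, pmat_mul, Matrix.mul_apply]
    refine Finset.sum_eq_zero fun l _ => ?_
    by_cases hl : wt a b i₀ = wt a b l
    · rw [← coe_mtxFn_eq_pmat r x₂, hlim b (fun _ _ => Iff.rfl) x₂ h₂ l j₀ (fun h => hw₀ (hl.trans h)),
        MulZeroClass.mul_zero]
    · rw [← coe_mtxFn_eq_pmat r x₁, hlim (-b) hneg x₁ h₁ i₀ l (fun h => hl ((hneg _ _).1 h)), MulZeroClass.zero_mul]
  obtain ⟨y', -, hy'up, hne, hray⟩ := exists_ray C hdiag' ⊤ (by
    rw [Subgroup.coe_top]; exact isClosed_univ) (fun _ => Subgroup.mem_top _) y (Subgroup.mem_top _) hyup hy1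
  obtain ⟨⟨p₀, q₀⟩, he₀⟩ := hne
  obtain ⟨hwne, hent⟩ := mem_supp.1 he₀
  let δ := a p₀ - a q₀
  have hδφ : φ δ ≠ 0 := fun h => hwne ((hb' _ _).2 ((hwt _ _).2 h))
  have hδ : δ ≠ 0 := fun h => hδφ (by rw [h, map_zero])
  -- the point commutes with the kernel
  have hker : ∀ i j, (mtxFn r y' : Matrix (Fin N) (Fin N) k) i j ≠ 0 → proj δ (a i - a j) = 0 := fun i j h => by
    by_cases hw : wt a b' i = wt a b' j
    · have h1 := hy'up.2 i j hw
      by_cases hij : i = j
      · rw [hij, sub_self, map_zero]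
      · exact absurd (h1.trans (Matrix.one_apply_ne hij)) h
    · rw [proj_eq_zero_iff]
      intro p q
      have h1 : ∀ l, (a i - a j) l * TorPts21.pairing δ b' =
          δ l * TorPts21.pairing (a i - a j) b' := fun l => by
        have := hray (i, j) (mem_supp.2 ⟨hw, h⟩) (p₀, q₀) he₀ (Pi.single l 1)
        simpa [δ, TorPts21.pairing, Pi.single_apply] using this
      have hpne : TorPts21.pairing δ b' ≠ 0 := fun h0 => hwne (sub_eq_zero.1 (by rw [BorelLam21.wt_sub]; exact h0))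
      refine mul_right_cancel₀ hpne ?_
      linear_combination δ p * h1 q - δ q * h1 p
  have hS := isTorus_ker (Spec (CommRingCat.of k)) δ
  obtain ⟨Z, _, z, hz, hzc, hzs⟩ := TorusCentr19.exists_centralizer'
    (MTRigid29.isMT_of_ft (isMultTypeFT_of_isTorus hS)) ‹Smooth G.hom› (kerInc C δ ≫ iT)
  haveI := hz.1
  haveI := hz.2.1
  haveI := hzc
  haveI := hzs
  haveI : IsAffine Z.left := isAffine_of_isAffineHom z.left
  haveI : ConnectedSpace Z.left := connectedSpace_centralizer hS hz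
  have hZred := isReductiveOver_centralizer hss.1 (iS := kerInc C δ ≫ iT) hS hz
  obtain ⟨f, hf⟩ := (hz.2.2 T iT).2 fun X x t => by
    rw [← Category.assoc t, ← MonObj.mul_comp, AttrBorel21.mul_comm_of_isTorus hT.2.2.1, MonObj.mul_comp]
  haveI : IsMonHom f := MTExt21.isMonHom_of_comp' z f (by rw [hf]; infer_instance)
  haveI : Mono (f ≫ z) := by rw [hf]; infer_instance
  haveI : Mono f := mono_of_mono f z
  haveI : IsClosedImmersion f.left := isClosedImmersion_of_torus hT.2.2.1 f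
  have hfmax : AGF.IsMaxTorus f := by
    refine ⟨inferInstance, inferInstance, hT.2.2.1, fun T' _ j _ _ g hT' hg => ?_⟩
    haveI : Mono z := hz.2.1
    exact hT.2.2.2 T' (j ≫ z) g hT' (by rw [← Category.assoc, hg, hf])
  obtain ⟨g, hg⟩ := exists_gpt y'
  obtain ⟨w, hw⟩ := exists_lift_centralizer_pt hS hz g fun σ => by
    rw [hg]
    refine pmat_injective r ?_
    rw [pmat_mul, pmat_mul, ← Category.assoc, ← coe_mtxFn_eq_pmat r ((σ ≫ kerInc C δ) ≫ iT), hdiag']
    ext i j
    rw [Matrix.mul_diagonal, Matrix.diagonal_mul]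
    by_cases h0 : pmat r y' i j = 0
    · rw [h0, MulZeroClass.zero_mul, MulZeroClass.mul_zero]
    · rw [ptChr_kerInc, ptChr_kerInc, show proj δ (a i) = proj δ (a j) from sub_eq_zero.1 (by
        rw [← map_sub]; exact hker i j (by rwa [coe_mtxFn_eq_pmat])), mul_comm]
  have hwz : gpt w ≫ z = y' := by rw [← hg, gpt, gpt, Category.assoc, hw]
  have hdim : topologicalKrullDim ↥Z.left ≠ topologicalKrullDim ↥T.left := fun heq => by
    haveI : IrreducibleSpace ↥Z.left := AbRigid.irreducibleSpace_of_isAlgClosed Z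
    obtain ⟨τ, hτ⟩ : ∃ τ : VecGrp.pt k k ⟶ T, τ ≫ f = gpt w := by
      have hsurj : Set.range f.left = Set.univ := by
        by_contra hne'
        have hfin : topologicalKrullDim (Set.univ : Set Z.left) ≠ ⊤ := by
          rw [(Homeomorph.Set.univ _).isHomeomorph.topologicalKrullDim_eq, heq, TorusLift21.dim_of_chars _ C]
          exact fun h => ENat.natCast_ne_top d (WithBot.coe_injective h)
        have h1 := dim_lt_sets f.left.isClosedEmbedding.isClosed_range
          (IrreducibleSpace.isIrreducible_univ ↥Z.left) hfin (Set.subset_univ _) hne'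
        rw [(Homeomorph.Set.univ _).isHomeomorph.topologicalKrullDim_eq, heq] at h1
        refine lt_irrefl _ (lt_of_le_of_lt ?_ h1)
        exact f.left.isClosedEmbedding.isEmbedding.toHomeomorph.isInducing.topologicalKrullDim_le
      exact exists_pt_of_img_mem f (gpt w) (hsurj ▸ Set.mem_univ _) (isClosed_img _)
    have h1 := congrArg (pmat r) (show τ ≫ iT = y' by rw [← hf, ← Category.assoc, hτ, hwz])
    rw [← coe_mtxFn_eq_pmat r (τ ≫ iT), hdiag', ← coe_mtxFn_eq_pmat r y'] at h1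
    exact hent (by rw [← h1, Matrix.diagonal_apply_ne _ fun e => hwne (congrArg (wt a b') e)])
  obtain ⟨nz, hn, hnT⟩ := exists_weyl hZred hfmax hdim
  let n := nz ≫ z
  have hcn : ∀ τ : VecGrp.pt k k ⟶ T, ∃ τ', n * (τ ≫ iT) * n⁻¹ = τ' ≫ iT := fun τ => by
    obtain ⟨τ', h'⟩ := (hn _ (𝟙 _) τ).1
    refine ⟨τ', ?_⟩
    rw [Category.id_comp] at h'
    rw [← hf, ← Category.assoc, ← Category.assoc, ← GrpObj.inv_comp, ← MonObj.mul_comp, ← MonObj.mul_comp, h']
  have hcn' : ∀ τ : VecGrp.pt k k ⟶ T, ∃ τ', n⁻¹ * (τ ≫ iT) * (n⁻¹)⁻¹ = τ' ≫ iT := fun τ => by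
    obtain ⟨τ', h'⟩ := (hn _ (𝟙 _) τ).2
    refine ⟨τ', ?_⟩
    rw [Category.id_comp] at h'
    rw [inv_inv, ← hf, ← Category.assoc, ← Category.assoc, ← GrpObj.inv_comp, ← MonObj.mul_comp, ← MonObj.mul_comp, h']
  obtain ⟨A, hA⟩ := exists_tAct iT C hT.2.2.1 n hcn
  obtain ⟨B, hB⟩ := exists_tAct iT C hT.2.2.1 n⁻¹ hcn'
  refine ⟨δ, A, hδφ, ⟨n, B, hA, hB⟩, fun hid => ?_, fun m => ?_⟩
  · have hcomm : ∀ τ : VecGrp.pt k k ⟶ T, n * (τ ≫ iT) = (τ ≫ iT) * n := fun τ => by
      obtain ⟨τ', h1, h2⟩ := hA τ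
      have : τ' = τ := ptChr_injective C (MonoidHom.ext fun m => by
        have := h2 m.toAdd
        rw [hid] at this
        exact this)
      rw [this] at h1
      exact mul_inv_eq_iff_eq_mul.1 h1
    obtain ⟨τ, hτ⟩ := (cent_iff hss.1 hT n).1 hcomm
    exact hnT τ ((cancel_mono z).1 (by rw [Category.assoc, hf]; exact hτ))
  · refine (proj_eq_zero_iff δ _).1 ?_
    rw [map_sub, sub_eq_zero]
    refine eq_of_forall_ptChr (k := k) (σ := Red.DS (Spec (CommRingCat.of k)) (Fin (rk δ) → ℤ))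
      (charsDS (Spec (CommRingCat.of k)) (Fin (rk δ) → ℤ)) fun σ => ?_
    rw [← ptChr_kerInc C δ σ (A m), ← ptChr_kerInc C δ σ m]
    obtain ⟨τ', h1, h2⟩ := hA (σ ≫ kerInc C δ)
    rw [← h2]
    rw [show τ' = σ ≫ kerInc C δ from (cancel_mono iT).1 (by
      rw [← h1, Category.assoc, centralizer_comm hz nz σ, mul_inv_cancel_right])]

/-- The invariant form. -/
def form (W : Finset ((Fin d → ℤ) →+ (Fin d → ℤ))) (u : Fin d → ℤ) : (Fin d → ℤ) →ₗ[ℤ] ℤ :=
  ∑ A ∈ W, ∑ p, A u p • (LinearMap.proj p ∘ₗ A.toIntLinearMap)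

omit [IsAlgClosed k] in
theorem form_apply (W : Finset ((Fin d → ℤ) →+ (Fin d → ℤ))) (u v : Fin d → ℤ) :
    form W u v = ∑ A ∈ W, ∑ p, A u p * A v p := by
  simp [form]

set_option maxHeartbeats 1600000 in
/-- **An elliptic normaliser**: some point normalising a maximal torus of a semisimple group fixes no nonzero
character. -/
theorem exists_elliptic (hss : Red.IsSemisimpleOver k G) (hT : AGF.IsMaxTorus iT) :
    ∃ A ∈ TSet iT C, ∀ w, A w = w → w = 0 := by
  classical
  haveI := isClosedImmersion_of_torus hT.2.2.1 iT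
  let W := (tSet_finite iT C).toFinset
  have hmem : ∀ A, A ∈ W ↔ A ∈ TSet iT C := fun A => Set.Finite.mem_toFinset _
  have hsym : ∀ u v, form W u v = form W v u := fun u v => by
    simp only [form_apply, mul_comm]
  have hdef : ∀ v, form W v v = 0 → v = 0 := fun v hv => by
    rw [form_apply] at hv
    have h1 := (Finset.sum_eq_zero_iff_of_nonneg fun A _ => Finset.sum_nonneg fun p _ => mul_self_nonneg _).1 hv
      (AddMonoidHom.id _) ((hmem _).2 (id_mem_tSet iT C))
    exact funext fun p => mul_self_eq_zero.1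
      ((Finset.sum_eq_zero_iff_of_nonneg fun p _ => mul_self_nonneg _).1 h1 p (Finset.mem_univ p))
  have hinv : ∀ A₀ ∈ TSet iT C, ∀ u v, form W (A₀ u) (A₀ v) = form W u v := fun A₀ hA₀ u v => by
    obtain ⟨B, hB⟩ := exists_right_inverse iT C hA₀
    have hinj : Set.InjOn (fun A : (Fin d → ℤ) →+ (Fin d → ℤ) => A.comp A₀) W := fun A _ A' _ h =>
      AddMonoidHom.ext fun m => by
        have := DFunLike.congr_fun h (B m)
        simpa [hB] using this
    have himg : W.image (fun A => A.comp A₀) = W := by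
      refine Finset.eq_of_subset_of_card_le (fun A' h => ?_) (Finset.card_image_of_injOn hinj).ge
      obtain ⟨A, hA, rfl⟩ := Finset.mem_image.1 h
      exact (hmem _).2 (comp_mem_tSet iT C ((hmem _).1 hA) hA₀)
    rw [form_apply, form_apply]
    conv_rhs => rw [← himg, Finset.sum_image hinj]
    rfl
  suffices h : ∀ (j : ℕ) (A : (Fin d → ℤ) →+ (Fin d → ℤ)) (F : Submodule ℤ (Fin d → ℤ)), A ∈ TSet iT C →
      Module.finrank ℤ F ≤ j → (∀ w, ∀ v ∈ F, form W (A w - w) v = 0) → (∀ w, A w = w → w ∈ F) →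
      ∃ A' ∈ TSet iT C, ∀ w, A' w = w → w = 0 from
    h d (AddMonoidHom.id _) ⊤ (id_mem_tSet iT C) (by rw [finrank_top, Module.finrank_fin_fun]) (fun w v _ => by
      rw [AddMonoidHom.id_apply, sub_self, form_apply]
      simp) fun w _ => Submodule.mem_top
  intro j
  induction j with
  | zero =>
    intro A F hA hF _ hfix
    refine ⟨A, hA, fun w hw => ?_⟩
    have := Submodule.finrank_eq_zero.1 (Nat.le_zero.1 hF)
    exact (Submodule.mem_bot ℤ).1 (this ▸ hfix w hw)
  | succ j ih =>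
    intro A F hA hF hper hfix
    by_cases hFb : F = ⊥
    · exact ⟨A, hA, fun w hw => (Submodule.mem_bot ℤ).1 (hFb ▸ hfix w hw)⟩
    obtain ⟨v, hvF, hv0⟩ := Submodule.exists_mem_ne_zero_of_ne_bot hFb
    obtain ⟨δ, s, hδv, hs, hsid, hline⟩ := exists_moving iT C hss hT (form W v) fun h => hv0 (hdef v (by
      rw [h, LinearMap.zero_apply]))
    obtain ⟨p₀, hp₀⟩ : ∃ p, δ p ≠ 0 := Function.ne_iff.1 fun h => hδv (by rw [show δ = 0 from h, map_zero])
    have hlin : ∀ x : Fin d → ℤ, (∀ p q, δ p * x q = δ q * x p) → ∀ u, δ p₀ * form W u x = x p₀ * form W u δ :=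
      fun x hx u => by
        have h1 : δ p₀ • x = x p₀ • δ := funext fun q => by
          simp only [Pi.smul_apply, smul_eq_mul]; rw [hx p₀ q]; ring
        have h2 := congrArg (form W u) h1
        rwa [map_zsmul, map_zsmul, smul_eq_mul, smul_eq_mul] at h2
    let g : F →ₗ[ℤ] ℤ := (form W δ).comp F.subtype
    refine ih (s.comp A) (Submodule.map F.subtype (LinearMap.ker g)) (comp_mem_tSet iT C hs hA) ?_
      (fun w v' hv' => ?_) fun w hw => ?_
    · have h1 := Submodule.finrank_quotient_add_finrank (LinearMap.ker g)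
      rw [g.quotKerEquivRange.finrank_eq] at h1
      have h2 : 0 < Module.finrank ℤ (LinearMap.range g) := by
        rw [Nat.pos_iff_ne_zero]
        intro h0
        have h3 := LinearMap.range_eq_bot.1 (Submodule.finrank_eq_zero.1 h0)
        refine hδv ?_
        rw [hsym]
        exact DFunLike.congr_fun h3 ⟨v, hvF⟩
      rw [← LinearEquiv.finrank_eq (Submodule.equivMapOfInjective _ F.injective_subtype (LinearMap.ker g))]
      omega
    · obtain ⟨⟨v'', hv''⟩, hker, rfl⟩ := Submodule.mem_map.1 hv'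
      have hδ0 : form W δ v'' = 0 := hker
      show form W (s (A w) - w) v'' = 0
      have e1 : form W v'' (s (A w) - A w) = 0 := by
        have h2 := hlin _ (hline (A w)) v''
        rw [hsym v'' δ, hδ0, MulZeroClass.mul_zero] at h2
        exact (mul_eq_zero.1 h2).resolve_left hp₀
      have e2 : form W v'' (A w - w) = 0 := by rw [hsym]; exact hper w v'' hv''
      rw [hsym, show s (A w) - w = (s (A w) - A w) + (A w - w) by abel, map_add, e1, e2, add_zero]
    · replace hw : s (A w) = w := hw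
      have hAw : A w = w := by
        set x := s (A w) - A w with hx
        have hxp : x p₀ = 0 := by
          have e : form W v x = 0 := by
            rw [hx, hw, show w - A w = -(A w - w) by abel, map_neg, hsym, hper w v hvF, neg_zero]
          have h2 := hlin x (hline (A w)) v
          rw [e, MulZeroClass.mul_zero] at h2
          exact (mul_eq_zero.1 h2.symm).resolve_right hδv
        have : x = 0 := funext fun q => by
          have h1 := hline (A w) p₀ q
          rw [← hx, hxp, MulZeroClass.mul_zero] at h1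
          exact (mul_eq_zero.1 h1).resolve_left hp₀
        rw [hx, hw, sub_eq_zero] at this
        exact this.symm
      rw [hAw] at hw
      obtain ⟨u, hu⟩ : ∃ u, s u ≠ u := by
        by_contra! h
        exact hsid (AddMonoidHom.ext h)
      have hzero : form W w (s u - u) = 0 := by
        rw [map_sub, sub_eq_zero]
        conv_lhs => rw [← hw]
        exact hinv s hs w u
      have h2 := hlin _ (hline u) w
      rw [hzero, MulZeroClass.mul_zero] at h2
      have hy : (s u - u) p₀ ≠ 0 := fun h0 => hu (sub_eq_zero.1 (funext fun q => by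
        have h3 := hline u p₀ q
        rw [h0, MulZeroClass.mul_zero] at h3
        exact (mul_eq_zero.1 h3).resolve_left hp₀))
      exact Submodule.mem_map.2 ⟨⟨w, hfix w hAw⟩, by
        show form W δ w = 0
        rw [hsym]
        exact (mul_eq_zero.1 h2.symm).resolve_left hy, rfl⟩

include C in
set_option maxHeartbeats 800000 in
/-- In a semisimple group every central point is a commutator of points of finite order. -/
theorem exists_commutator (hss : Red.IsSemisimpleOver k G) (c : VecGrp.pt k k ⟶ G) (hc : ∀ x, c * x = x * c)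
    (hT : AGF.IsMaxTorus iT) :
    ∃ a b : VecGrp.pt k k ⟶ G, IsOfFinOrder a ∧ IsOfFinOrder b ∧ c = a * b * a⁻¹ * b⁻¹ := by
  classical
  haveI := isClosedImmersion_of_torus hT.2.2.1 iT
  obtain ⟨A, hAmem, hfix⟩ := exists_elliptic iT C hss hT
  obtain ⟨n, B, hA, hB⟩ := hAmem
  let M : (Fin d → ℤ) →ₗ[ℤ] (Fin d → ℤ) := A.toIntLinearMap - LinearMap.id
  have hMker : ∀ w, M w = 0 → w = 0 := fun w hw => hfix w (sub_eq_zero.1 hw)
  have hMinj : Function.Injective M := fun u v h => sub_eq_zero.1 (hMker _ (by rw [map_sub, h, sub_self]))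
  obtain ⟨N, hN0, hN⟩ := (finrank_eq_iff_exponent (LinearMap.range M)).1 (LinearMap.finrank_range_of_inj hMinj)
  have hNp : 0 < N := Nat.pos_of_ne_zero hN0
  choose y hy using hN
  have hyadd : ∀ m m', y (m + m') = y m + y m' := fun m m' => hMinj (by
    rw [map_add, hy, hy, hy, smul_add])
  have hyM : ∀ m, y (M m) = N • m := fun m => hMinj (by rw [hy, map_nsmul])
  obtain ⟨τ₀, hτ₀⟩ := (cent_iff hss.1 hT c).1 fun τ => hc _
  obtain ⟨ρ, hρ⟩ := TorPts21.exists_pow_eq hT.2.2.1 hNp τ₀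
  obtain ⟨τ, hτ⟩ := exists_ptChr C ((ptChr C ρ).comp (MonoidHom.mk'
    (fun e : Multiplicative (Fin d → ℤ) => Multiplicative.ofAdd (y e.toAdd)) fun e e' => by
      rw [toAdd_mul, hyadd, ofAdd_add]))
  have hfin : ∀ σ : VecGrp.pt k k ⟶ T, n * (σ ≫ iT) * n⁻¹ = σ ≫ iT → σ ^ N = 1 := fun σ hσ => by
    obtain ⟨σ', h1, h2⟩ := hA σ
    rw [hσ] at h1
    rw [← (cancel_mono iT).1 h1] at h2
    refine ptChr_injective C (MonoidHom.ext fun e => ?_)
    rw [ptChr_pow C σ hNp, ← map_pow]
    show ptChr C σ (Multiplicative.ofAdd (N • e.toAdd)) = _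
    have h3 : ptChr C (1 : VecGrp.pt k k ⟶ T) e = 1 := by
      show InvRing21.ptHom k _ = 1
      rw [C.one, map_one]
    rw [h3, ← hy e.toAdd]
    show ptChr C σ (Multiplicative.ofAdd (A (y e.toAdd) - y e.toAdd)) = 1
    have h4 := h2 (y e.toAdd)
    rw [sub_eq_add_neg, ofAdd_add, map_mul, ← h4, ← map_mul, ← ofAdd_add, add_neg_cancel, ofAdd_zero, map_one]
  have hcσ : ∀ σ : VecGrp.pt k k ⟶ T, (∀ x, (σ ≫ iT) * x = x * (σ ≫ iT)) → σ ^ N = 1 := fun σ h =>
    hfin σ (by rw [← h n, mul_inv_cancel_right])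
  obtain ⟨τ', h1, h2⟩ := hA τ
  have hτ' : τ' = τ₀ * τ := ptChr_injective C (MonoidHom.ext fun e => by
    rw [ptChr_mul, show ptChr C τ' e = ptChr C τ (Multiplicative.ofAdd (A e.toAdd)) from h2 e.toAdd]
    rw [show A e.toAdd = M e.toAdd + e.toAdd by
      show A e.toAdd = (A e.toAdd - e.toAdd) + e.toAdd
      rw [sub_add_cancel]]
    rw [ofAdd_add, map_mul]
    refine congrArg (· * _) ?_
    rw [hτ, ← hρ, ptChr_pow C ρ hNp, ← map_pow]
    show ptChr C ρ (Multiplicative.ofAdd (y (M e.toAdd))) = _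
    rw [hyM, ofAdd_nsmul]
    rfl)
  have hι : ∀ (σ : VecGrp.pt k k ⟶ T) (j : ℕ), (σ ≫ iT) ^ j = (σ ^ j) ≫ iT := fun σ j =>
    (map_pow (MonoidHom.mk' (fun w : VecGrp.pt k k ⟶ T => w ≫ iT) fun w w' => MonObj.mul_comp w w' iT) σ j).symm
  refine ⟨n, τ ≫ iT, ?_, isOfFinOrder_iff_pow_eq_one.2 ⟨N * N, Nat.mul_pos hNp hNp, ?_⟩, ?_⟩
  · -- the normaliser has finite order
    have hit : ∀ j : ℕ, ∃ A' ∈ TSet iT C, TAct iT C (n ^ j) A' := fun j => by
      induction j with
      | zero => exact ⟨_, id_mem_tSet iT C, by rw [pow_zero]; exact tAct_one iT C⟩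
      | succ j ih =>
        obtain ⟨A', hA'mem, hA'⟩ := ih
        exact ⟨A.comp A', comp_mem_tSet iT C ⟨n, B, hA, hB⟩ hA'mem, by rw [pow_succ]; exact hA'.mul iT C hA⟩
    choose Aj hAjm hAj using hit
    obtain ⟨i, j, hne, hij⟩ := (tSet_finite iT C).exists_lt_map_eq_of_forall_mem hAjm
    have hc1 : TAct iT C (n ^ (j - i)) (AddMonoidHom.id _) := fun σ => by
      obtain ⟨σ', e1, -⟩ := hAj (j - i) σ
      refine ⟨σ', e1, fun m => ?_⟩
      have h3 := (hAj (j - i)).mul iT C (hAj i)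
      rw [← pow_add, Nat.sub_add_cancel hne.le] at h3
      have h4 := h3.unique iT C (hAj j)
      rw [← hij] at h4
      obtain ⟨Bi, hBi⟩ := exists_right_inverse iT C (hAjm i)
      obtain ⟨σ'', e3, e4⟩ := hAj (j - i) σ
      rw [(cancel_mono iT).1 (e1.symm.trans e3), e4]
      congr 2
      show Aj (j - i) m = m
      have hinjAi : Function.Injective (Aj i) := by
        have hsur : Function.Surjective (Aj i).toIntLinearMap := fun m => ⟨Bi m, hBi m⟩
        exact (OrzechProperty.injective_of_surjective_endomorphism (Aj i).toIntLinearMap hsur)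
      exact hinjAi (DFunLike.congr_fun h4 m)
    have hcm : ∀ σ : VecGrp.pt k k ⟶ T, n ^ (j - i) * (σ ≫ iT) = (σ ≫ iT) * n ^ (j - i) := fun σ => by
      obtain ⟨σ', e1, e2⟩ := hc1 σ
      rw [show σ' = σ from ptChr_injective C (MonoidHom.ext fun e => e2 e.toAdd)] at e1
      exact mul_inv_eq_iff_eq_mul.1 e1
    obtain ⟨σ, hσ⟩ := (cent_iff hss.1 hT _).1 hcm
    refine isOfFinOrder_iff_pow_eq_one.2 ⟨(j - i) * N, Nat.mul_pos (Nat.sub_pos_of_lt hne) hNp, ?_⟩
    rw [pow_mul, ← hσ, hι, hfin σ (by rw [hσ, ← pow_succ', pow_succ, mul_inv_cancel_right]), MonObj.one_comp]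
  · -- the torus point has finite order
    have h5 : τ₀ ^ N = 1 := hcσ τ₀ fun x => by rw [hτ₀]; exact hc x
    rw [pow_mul, hι, hι, hfin (τ ^ N) ?_, MonObj.one_comp]
    rw [← hι, ← conj_pow, h1, hι, hτ', Commute.mul_pow (AttrBorel21.mul_comm_of_isTorus hT.2.2.1 τ₀ τ), h5,
      _root_.one_mul]
    exact (hι τ N).symm
  · rw [← hτ₀, h1, hτ', MonObj.mul_comp, mul_inv_cancel_right]

end Groth.Agent.RankOne21
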