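import Groth.Agent.Lib.AttrBorel21.SolvCartan
import Groth.Agent.Lib.TorPts21.WeylNorm
import Groth.Agent.Lib.TorPts21.DimTwo
import Groth.Agent.Lib.TorPts21.ReductiveCartan
import Groth.Agent.Lib.TorPts21.CartanBorel
import Groth.Agent.Lib.TorPts21.BorelNormalizer
import Groth.Agent.Lib.TorPts21.Luna
import Groth.Agent.Lib.BorelLam21.Limit
import Groth.Agent.Lib.TorusLift21.Dim
import Groth.Agent.Lib.TopDimLib.Basic

/-!
# Groups of semisimple rank one through their Weyl element
-/

set_option autoImplicit false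
set_option linter.style.haveILetI false
set_option backward.isDefEq.respectTransparency.types false
universe u

open CategoryTheory Limits MonoidalCategory CartesianMonoidalCategory MonObj AlgebraicGeometry
open Topology

noncomputable section

namespace Groth.Agent.RankOne21

open TorPts21 DiagGL

/-- A closed irreducible subset is bigger than its proper closed subsets. -/
theorem dim_lt_sets {X : Type*} [TopologicalSpace X] {A B : Set X} (hA : IsClosed A) (hB : IsIrreducible B)
    (hfin : topologicalKrullDim B ≠ ⊤) (hAB : A ⊆ B) (hne : A ≠ B) :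
    topologicalKrullDim A < topologicalKrullDim B := by
  haveI : IrreducibleSpace B := Subtype.irreducibleSpace hB
  refine lt_of_le_of_lt ?_ (TopDimLib.dim_lt_of_closed_ssubset hfin (Subtype.val ⁻¹' A : Set B)
    (hA.preimage continuous_subtype_val) fun h => hne (hAB.antisymm fun x hx => ?_))
  · refine IsInducing.topologicalKrullDim_le
      (f := fun a : A => (⟨⟨a.1, hAB a.2⟩, a.2⟩ : (Subtype.val ⁻¹' A : Set B))) ?_
    refine IsInducing.of_comp (by fun_prop) (continuous_subtype_val.comp continuous_subtype_val) ?_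
    exact IsInducing.subtypeVal
  · exact Set.eq_univ_iff_forall.1 h ⟨x, hx⟩

theorem false_of_dim_chain {d : ℕ} {b c e : WithBot ℕ∞} (hb : (d : WithBot ℕ∞) < b) (hc : b < c) (he : c < e)
    (hle : e ≤ (d : WithBot ℕ∞) + 2) : False := by
  have h2 : ((d : WithBot ℕ∞) + 2) = ((d + 2 : ℕ) : WithBot ℕ∞) := by norm_num
  rw [h2] at hle
  induction b with
  | bot => exact not_lt_bot hb
  | coe b => induction c with
    | bot => exact not_lt_bot hc
    | coe c => induction e with
      | bot => exact not_lt_bot he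
      | coe e =>
        have hb' : (d : ℕ∞) < b := WithBot.coe_lt_coe.1 hb
        have hc' : b < c := WithBot.coe_lt_coe.1 hc
        have he' : c < e := WithBot.coe_lt_coe.1 he
        have hle' : e ≤ ((d + 2 : ℕ) : ℕ∞) := WithBot.coe_le_coe.1 hle
        lift e to ℕ using ne_top_of_le_ne_top (ENat.coe_ne_top _) hle'
        lift c to ℕ using ne_top_of_lt he'
        lift b to ℕ using ne_top_of_lt hc'
        norm_cast at hb' hc' he' hle'
        omega

variable {k : Type u} [Field k] [IsAlgClosed k] {G T : Over (Spec (CommRingCat.of k))} [GrpObj G] [GrpObj T]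
  [IsAffine G.left] [Smooth G.hom]

omit [GrpObj G] [Smooth G.hom] [GrpObj T] in
/-- A rational point in the image of a closed immersion lifts. -/
theorem exists_pt_of_img_mem {H : Over (Spec (CommRingCat.of k))} [LocallyOfFiniteType H.hom]
    (i : H ⟶ G) [IsClosedImmersion i.left] (x : VecGrp.pt k k ⟶ G) (hx : InvRing21.img x ∈ Set.range i.left)
    (hcl : IsClosed ({InvRing21.img x} : Set G.left)) : ∃ y : VecGrp.pt k k ⟶ H, y ≫ i = x := by
  obtain ⟨w, hw⟩ := hx
  obtain ⟨y, hy⟩ := BorelFix21.exists_pt_mem (hcl.preimage i.left.continuous).isLocallyClosed ⟨w, hw⟩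
  refine ⟨y, img_inj ?_⟩
  show (y ≫ i).left _ = _
  exact hy

omit [GrpObj G] [Smooth G.hom] [GrpObj T] in
theorem isClosed_img (x : VecGrp.pt k k ⟶ G) [IsSeparated G.hom] :
    IsClosed ({InvRing21.img x} : Set G.left) := by
  have hpt : (VecGrp.pt k k).hom = 𝟙 (Spec (CommRingCat.of k)) := by
    show Spec.map (CommRingCat.ofHom (algebraMap k k)) = 𝟙 _
    rw [show CommRingCat.ofHom (algebraMap k k) = 𝟙 _ from rfl, Spec.map_id]
  haveI := isClosedImmersion_of_comp_eq_id G.hom x.left ((Over.w x).trans hpt)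
  have h : Set.range x.left = {InvRing21.img x} := Set.ext fun z =>
    ⟨fun ⟨w, hw⟩ => hw ▸ congrArg x.left (Subsingleton.elim (α := Spec (CommRingCat.of k)) w _),
      fun hz => ⟨IsLocalRing.closedPoint k, hz.symm⟩⟩
  exact h ▸ x.left.isClosedEmbedding.isClosed_range

omit [GrpObj G] [Smooth G.hom] [GrpObj T] in
/-- A morphism from a smooth affine scheme with image in a closed subscheme factors. -/
theorem exists_lift_of_range {H X : Over (Spec (CommRingCat.of k))} [IsSeparated G.hom]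
    [LocallyOfFiniteType G.hom] [IsAffine X.left] [Smooth X.hom]
    (i : H ⟶ G) [IsClosedImmersion i.left] (f : X ⟶ G) (h : Set.range f.left ⊆ Set.range i.left) :
    ∃ f' : X ⟶ H, f' ≫ i = f := by
  haveI : LocallyOfFiniteType H.hom := by rw [← Over.w i]; infer_instance
  refine exists_lift_of_pts i f fun x => exists_pt_of_img_mem i (x ≫ f) (h ?_) (isClosed_img _)
  exact ⟨InvRing21.img x, rfl⟩

/-- A self-centralising torus is a maximal torus. -/
theorem isMaxTorus_of_selfCentralizing {iT : T ⟶ G} (hT : Red.IsTorus T) (hc : Red.IsCentralizerOf iT iT) :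
    AGF.IsMaxTorus iT := by
  haveI := hc.1
  haveI := hc.2.1
  refine ⟨hc.1, hc.2.1, hT, fun T' _ j _ _ f hT' hf => ?_⟩
  obtain ⟨l, hl⟩ := (hc.2.2 T' j).2 fun X x h => by
    rw [← hf, ← Category.assoc, ← MonObj.mul_comp, AttrBorel21.mul_comm_of_isTorus hT', MonObj.mul_comp]
  refine ⟨l, ?_, ?_⟩
  · rw [← cancel_mono iT, Category.assoc, hl, hf, Category.id_comp]
  · rw [← cancel_mono j, Category.assoc, hf, hl, Category.id_comp]

set_option maxHeartbeats 1600000 in
set_option synthInstance.maxHeartbeats 400000 in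
/-- A group of dimension two more than a self-centralising torus with a non-trivial Weyl element is reductive. -/
theorem isReductiveOver [ConnectedSpace G.left] {iT : T ⟶ G} (hT : Red.IsTorus T) (hc : Red.IsCentralizerOf iT iT)
    (n : 𝟙_ (Over (Spec (CommRingCat.of k))) ⟶ G) (hn : NormalizesSub iT n)
    (hnT : ∀ y : 𝟙_ (Over (Spec (CommRingCat.of k))) ⟶ T, y ≫ iT ≠ n)
    (hdim : topologicalKrullDim ↥G.left ≤ topologicalKrullDim ↥T.left + 2) : Red.IsReductiveOver k G := by
  have hmax := isMaxTorus_of_selfCentralizing hT hc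
  haveI := hc.1
  haveI := hc.2.1
  obtain ⟨hTa, hTs, hTn, -⟩ := props_of_isTorus hT
  haveI := hTa; haveI := hTs; haveI := hTn
  haveI := isClosedImmersion_of_torus hT iT
  haveI : IsSeparated G.hom := AbRigid.isSeparated_of_grpObj G
  haveI : QuasiCompact G.hom := inferInstance
  refine ⟨inferInstance, inferInstance, inferInstance, fun U _ u _ huc hus hun hnorm hU => ?_⟩
  haveI := huc; haveI := hus; haveI := hun
  haveI : IsAffine U.left := isAffine_of_isAffineHom u.left
  by_contra htriv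
  have hsolU := isSolvableGrp_of_hasNoSubtorus U hU
  obtain ⟨B, _, iB, t, hB, ht⟩ := exists_borel_containing iT hT
  obtain ⟨hBm, hBc, hBs, hBn, hBsol, hBmax⟩ := id hB
  haveI := hBm; haveI := hBc; haveI := hBs; haveI := hBn
  haveI : IsAffine B.left := isAffine_of_isAffineHom iB.left
  haveI : Mono iB.left := SurjectiveOnStalks.mono_of_injective iB.left.isClosedEmbedding.injective
  haveI : Mono iB := Over.mono_of_mono_left iB
  obtain ⟨f, hf⟩ := exists_lift_of_normal_solvable u hsolU hnorm iB hB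
  let b' : B ⟶ G := (toUnit B ≫ n)⁻¹ * iB * (toUnit B ≫ n)
  have hB' : Red.IsBorelOver k b' := BorelFix21.isBorelOver_conj iB hB n
  haveI : IsMonHom b' := hB'.1
  haveI : IsClosedImmersion b'.left := hB'.2.1
  obtain ⟨f', hf'⟩ := exists_lift_of_normal_solvable u hsolU hnorm b' hB'
  obtain ⟨τ', hτ'⟩ := (hn T (toUnit T) (𝟙 T)).1
  rw [Category.id_comp] at hτ'
  have ht' : (τ' ≫ t) ≫ b' = iT := by
    show (τ' ≫ t) ≫ ((toUnit B ≫ n)⁻¹ * iB * (toUnit B ≫ n)) = iT
    rw [MonObj.comp_mul, MonObj.comp_mul, GrpObj.comp_inv, ← Category.assoc, comp_toUnit, Category.assoc, ht, ← hτ']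
    group
  -- the product of the torus and the subgroup
  obtain ⟨W, wT, wU, hW, hWs, hWa, hWi⟩ : ∃ (W : Over (Spec (CommRingCat.of k))) (wT : W ⟶ T) (wU : W ⟶ U),
      (∀ (X : Over (Spec (CommRingCat.of k))) (p : X ⟶ T) (q : X ⟶ U), ∃ l : X ⟶ W, l ≫ wT = p ∧ l ≫ wU = q) ∧
      Smooth W.hom ∧ IsAffine W.left ∧ IrreducibleSpace W.left := by
    refine ⟨T ⊗ U, fst T U, snd T U, fun X p q => ⟨lift p q, lift_fst p q, lift_snd p q⟩,
      inferInstanceAs (Smooth (Limits.pullback.fst T.hom U.hom ≫ T.hom)),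
      inferInstanceAs (IsAffine (Limits.pullback T.hom U.hom)), ?_⟩
    haveI := AbRigid.irreducibleSpace_of_isAlgClosed T
    haveI := AbRigid.geometricallyIrreducible_of_connected U
    exact inferInstanceAs (IrreducibleSpace ↥(Limits.pullback T.hom U.hom))
  haveI := hWi
  let m : W ⟶ G := (wT ≫ iT) * (wU ≫ u)
  let mB : W ⟶ B := (wT ≫ t) * (wU ≫ f)
  let mB' : W ⟶ B := (wT ≫ τ' ≫ t) * (wU ≫ f')
  have hm1 : mB ≫ iB = m := by
    show ((wT ≫ t) * (wU ≫ f)) ≫ iB = _
    rw [MonObj.mul_comp, Category.assoc, Category.assoc, ht, hf]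
  have hm2 : mB' ≫ b' = m := by
    show ((wT ≫ τ' ≫ t) * (wU ≫ f')) ≫ b' = _
    rw [MonObj.mul_comp, Category.assoc wT (τ' ≫ t) b', ht', Category.assoc wU f' b', hf']
  let TT : Set G.left := Set.range iT.left
  let BB : Set G.left := Set.range iB.left
  let BB' : Set G.left := Set.range b'.left
  let M : Set G.left := closure (Set.range m.left)
  have hMi : IsIrreducible M := by
    have := (IrreducibleSpace.isIrreducible_univ W.left).image m.left m.left.continuous.continuousOn
    rw [Set.image_univ] at this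
    exact this.closure
  have hsub : ∀ {A : Over (Spec (CommRingCat.of k))} (q : W ⟶ A) (r : A ⟶ G), q ≫ r = m → IsClosed (Set.range r.left) →
      M ⊆ Set.range r.left := fun q r e hr => closure_minimal (by
    rintro _ ⟨w, rfl⟩
    exact ⟨q.left w, by rw [← Scheme.Hom.comp_apply, ← Over.comp_left, e]⟩) hr
  have hMB : M ⊆ BB := hsub mB iB hm1 iB.left.isClosedEmbedding.isClosed_range
  have hMB' : M ⊆ BB' := hsub mB' b' hm2 b'.left.isClosedEmbedding.isClosed_range
  have hrange : ∀ {A : Over (Spec (CommRingCat.of k))} (g : A ⟶ G) (l : A ⟶ W), l ≫ m = g →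
      Set.range g.left ⊆ M := fun g l e => by
    rintro _ ⟨a, rfl⟩
    refine subset_closure ⟨l.left a, ?_⟩
    rw [← Scheme.Hom.comp_apply, ← Over.comp_left, e]
  have hTM : TT ⊆ M := by
    obtain ⟨l, h1, h2⟩ := hW T (𝟙 T) 1
    refine hrange iT l ?_
    show l ≫ ((wT ≫ iT) * (wU ≫ u)) = _
    rw [MonObj.comp_mul, ← Category.assoc, h1, ← Category.assoc, h2, MonObj.one_comp, Category.id_comp, _root_.mul_one]
  have hUM : Set.range u.left ⊆ M := by
    obtain ⟨l, h1, h2⟩ := hW U 1 (𝟙 U)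
    refine hrange u l ?_
    show l ≫ ((wT ≫ iT) * (wU ≫ u)) = _
    rw [MonObj.comp_mul, ← Category.assoc, h1, ← Category.assoc, h2, MonObj.one_comp, Category.id_comp, _root_.one_mul]
  have hTne : TT ≠ M := fun h => htriv (by
    obtain ⟨g, hg⟩ := exists_lift_of_range iT u (hUM.trans h.symm.subset)
    haveI : IsMonHom g := BorelFix21.isMonHom_of_comp iT g (hg.symm ▸ ‹IsMonHom u›)
    haveI : IsClosedImmersion (g.left ≫ iT.left) := by rw [← Over.comp_left, hg]; infer_instance
    haveI : IsClosedImmersion g.left := IsClosedImmersion.of_comp g.left iT.left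
    haveI : IsMonHom (𝟙 U) := inferInstance
    exact hU U (𝟙 U) (BorelLam21.isTorus_of_closed hT g))
  haveI : IrreducibleSpace G.left := AbRigid.irreducibleSpace_of_isAlgClosed G
  haveI : IrreducibleSpace B.left := AbRigid.irreducibleSpace_of_isAlgClosed B
  have hBi : IsIrreducible BB := by
    have := (IrreducibleSpace.isIrreducible_univ B.left).image iB.left iB.left.continuous.continuousOn
    rw [Set.image_univ] at this
    exact this
  obtain ⟨d, ⟨C⟩⟩ := exists_chars hT
  have hd : topologicalKrullDim ↥T.left = (d : WithBot ℕ∞) := TorusLift21.dim_of_chars (C := C)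
  have hfinG : topologicalKrullDim ↥G.left ≠ ⊤ := fun h => by
    rw [hd] at hdim
    rw [h, top_le_iff, show ((d : WithBot ℕ∞) + 2) = ((d + 2 : ℕ) : WithBot ℕ∞) by norm_num] at hdim
    exact absurd hdim fun h => ENat.natCast_ne_top (d + 2) (WithBot.coe_inj.1 h)
  have hfin : ∀ s : Set G.left, topologicalKrullDim s ≠ ⊤ := fun s h =>
    hfinG (top_le_iff.1 (h ▸ topologicalKrullDim_subspace_le G.left s))
  have hnB : ∀ y : 𝟙_ (Over (Spec (CommRingCat.of k))) ⟶ B, y ≫ iB ≠ n := fun y hy => by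
    haveI : IsMonHom t := BorelFix21.isMonHom_of_comp iB t (ht.symm ▸ hc.1)
    haveI : Mono (t ≫ iB) := ht.symm ▸ hc.2.1
    haveI : Mono t := mono_of_mono t iB
    have hct : Red.IsCentralizerOf t t := by
      refine ⟨inferInstance, inferInstance, fun X g => ⟨fun ⟨z, hz⟩ X' x h => ?_, fun h => ?_⟩⟩
      · rw [← hz, ← Category.assoc, ← MonObj.mul_comp, AttrBorel21.mul_comm_of_isTorus hT, MonObj.mul_comp]
      · obtain ⟨z, hz⟩ := (hc.2.2 X (g ≫ iB)).2 fun X' x a => by
          rw [← ht, ← Category.assoc, ← Category.assoc, ← MonObj.mul_comp, h, MonObj.mul_comp]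
        exact ⟨z, by rw [← cancel_mono iB, Category.assoc, ht, hz]⟩
    have hny : NormalizesSub t y := fun X' x a => by
      obtain ⟨⟨a₁, ha₁⟩, ⟨a₂, ha₂⟩⟩ := hn X' x a
      refine ⟨⟨a₁, ?_⟩, ⟨a₂, ?_⟩⟩
      · rw [← cancel_mono iB, Category.assoc, ht, ← ha₁, MonObj.mul_comp, MonObj.mul_comp, GrpObj.inv_comp,
          Category.assoc, Category.assoc, hy, ht]
      · rw [← cancel_mono iB, Category.assoc, ht, ← ha₂, MonObj.mul_comp, MonObj.mul_comp, GrpObj.inv_comp,
          Category.assoc, Category.assoc, hy, ht]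
    haveI : QuasiCompact B.hom := inferInstance
    obtain ⟨z, hz⟩ := AttrBorel21.exists_lift_cartan_solvable hBsol (isMaxTorus_of_comp hmax iB t ht) hct y hny
    exact hnT z (by rw [← ht, ← Category.assoc, hz, hy])
  have hMBeq : M = BB := by
    by_contra hne
    have hBne : BB ≠ Set.univ := fun h => by
      haveI : IsAffine (𝟙_ (Over (Spec (CommRingCat.of k)))).left := inferInstanceAs (IsAffine (Spec (CommRingCat.of k)))
      haveI : Smooth (𝟙_ (Over (Spec (CommRingCat.of k)))).hom := inferInstanceAs (Smooth (𝟙 (Spec (CommRingCat.of k))))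
      obtain ⟨y, hy⟩ := exists_lift_of_range iB n (fun x _ => show x ∈ BB from h ▸ Set.mem_univ x)
      exact hnB y hy
    refine false_of_dim_chain (d := d) (b := topologicalKrullDim M) (c := topologicalKrullDim BB)
      (e := topologicalKrullDim ↥G.left) ?_ (dim_lt_sets isClosed_closure hBi (hfin _) hMB hne) ?_ (hd ▸ hdim)
    · refine lt_of_le_of_lt ?_ (dim_lt_sets iT.left.isClosedEmbedding.isClosed_range hMi (hfin _) hTM hTne)
      rw [← hd]
      exact (iT.left.isClosedEmbedding.isEmbedding.toHomeomorph).isInducing.topologicalKrullDim_le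
    · exact TopDimLib.dim_lt_of_closed_ssubset hfinG BB iB.left.isClosedEmbedding.isClosed_range hBne
  obtain ⟨φ, hφ⟩ := exists_lift_of_range b' iB (show BB ⊆ BB' from hMBeq ▸ hMB')
  haveI : IsIso φ := hBmax B b' φ hB'.2.1 hB'.2.2.1 hB'.2.2.2.1 hB'.2.2.2.2.1 hφ
  have hN : NormalizesSub iB n := fun X' x a => by
    have key : ∀ a : X' ⟶ B, a ≫ iB = (x ≫ n)⁻¹ * ((a ≫ φ) ≫ iB) * (x ≫ n) := fun a => by
      conv_lhs => rw [← hφ]
      show a ≫ φ ≫ ((toUnit B ≫ n)⁻¹ * iB * (toUnit B ≫ n)) = _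
      rw [← Category.assoc, MonObj.comp_mul, MonObj.comp_mul, GrpObj.comp_inv, ← Category.assoc (a ≫ φ) (toUnit B),
        toUnit_unique ((a ≫ φ) ≫ toUnit B) x]
    refine ⟨⟨a ≫ φ, ?_⟩, ⟨a ≫ inv φ, ?_⟩⟩
    · rw [key a]; group
    · rw [key (a ≫ inv φ), Category.assoc a (inv φ) φ, IsIso.inv_hom_id, Category.comp_id]
  obtain ⟨y, hy⟩ := exists_lift_of_normalizesSub_closed hB n hN
  exact hnB y hy

/-- In a reductive group which is not a torus some rational point normalises a maximal torus without lying in it. -/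
theorem exists_weyl [ConnectedSpace G.left] (hG : Red.IsReductiveOver k G) {iT : T ⟶ G} (hT : AGF.IsMaxTorus iT)
    (hdim : topologicalKrullDim ↥G.left ≠ topologicalKrullDim ↥T.left) :
    ∃ n : VecGrp.pt k k ⟶ G, NormalizesSub iT n ∧ ∀ y : VecGrp.pt k k ⟶ T, y ≫ iT ≠ n := by
  haveI := hT.1
  haveI := hT.2.1
  obtain ⟨hTa, hTs, hTn, -⟩ := props_of_isTorus hT.2.2.1
  haveI := hTa; haveI := hTs; haveI := hTn
  haveI := isClosedImmersion_of_torus hT.2.2.1 iT
  haveI : IsSeparated G.hom := AbRigid.isSeparated_of_grpObj G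
  haveI : QuasiCompact G.hom := inferInstance
  obtain ⟨N, _, nT, hN, hNc, -⟩ := TorusCentr19.exists_normalizer' (isMultTypeFT_of_isTorus hT.2.2.1) ‹Smooth G.hom› iT
  obtain ⟨C, _, c, hC, hcc, -⟩ := TorusCentr19.exists_centralizer'
    (MTRigid29.isMT_of_ft (isMultTypeFT_of_isTorus hT.2.2.1)) ‹Smooth G.hom› iT
  haveI := hcc
  by_contra hcon
  push Not at hcon
  obtain ⟨d, ⟨Ch⟩⟩ := exists_chars hT.2.2.1
  have hnorm : ∀ g : VecGrp.pt k k ⟶ G, (∀ a : VecGrp.pt k k ⟶ T, ∃ a', g * (a ≫ iT) * g⁻¹ = a' ≫ iT) →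
      ∃ y : VecGrp.pt k k ⟶ T, y ≫ iT = g := by
    intro g hg
    refine hcon g ?_
    obtain ⟨φ, hφ⟩ := exists_lift_of_pts iT ((InvRing21.toPt T ≫ g) * iT * (InvRing21.toPt T ≫ g)⁻¹) fun a => by
      obtain ⟨a', ha'⟩ := hg a
      refine ⟨a', ?_⟩
      rw [← ha', MonObj.comp_mul, MonObj.comp_mul, GrpObj.comp_inv, ← Category.assoc, InvRing21.comp_toPt,
        InvRing21.toPt_pt, Category.id_comp]
    haveI : IsReduced T.left := OrbitTop19.isReduced_of_smooth T.hom
    haveI : IsLocallyNoetherian T.left := LocallyOfFiniteType.isLocallyNoetherian T.hom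
    haveI : IsNoetherian T.left := ⟨⟩
    let e : G ≅ G :=
      { hom := (InvRing21.toPt G ≫ g) * 𝟙 G * (InvRing21.toPt G ≫ g)⁻¹
        inv := (InvRing21.toPt G ≫ g)⁻¹ * 𝟙 G * (InvRing21.toPt G ≫ g)
        hom_inv_id := by
          simp only [MonObj.comp_mul, GrpObj.comp_inv, ← Category.assoc, InvRing21.comp_toPt, Category.comp_id]
          group
        inv_hom_id := by
          simp only [MonObj.comp_mul, GrpObj.comp_inv, ← Category.assoc, InvRing21.comp_toPt, Category.comp_id]
          group }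
    have he : iT ≫ e.hom = φ ≫ iT := by
      rw [hφ]
      show iT ≫ ((InvRing21.toPt G ≫ g) * 𝟙 G * (InvRing21.toPt G ≫ g)⁻¹) = _
      rw [MonObj.comp_mul, MonObj.comp_mul, GrpObj.comp_inv, ← Category.assoc, InvRing21.comp_toPt, Category.comp_id]
    haveI : IsIso e.hom.left := ((Over.forget _).mapIso e).isIso_hom
    haveI : IsClosedImmersion (φ.left ≫ iT.left) := by rw [← Over.comp_left, ← he, Over.comp_left]; infer_instance
    haveI : IsClosedImmersion φ.left := IsClosedImmersion.of_comp φ.left iT.left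
    haveI : IsIso ((Over.forget _).map φ) := BorelFix21.isIso_of_endo φ.left
    haveI : IsIso φ := isIso_of_reflects_iso _ (Over.forget _)
    intro X' x a
    have key : ∀ a : X' ⟶ T, (a ≫ φ) ≫ iT = (x ≫ g) * (a ≫ iT) * (x ≫ g)⁻¹ := fun a => by
      rw [Category.assoc, hφ, MonObj.comp_mul, MonObj.comp_mul, GrpObj.comp_inv, ← Category.assoc,
        InvRing21.comp_toPt, InvRing21.hom_ext_toPt x (InvRing21.toPt X')]
    refine ⟨⟨a ≫ φ, (key a).symm⟩, ⟨a ≫ inv φ, ?_⟩⟩
    have h := key (a ≫ inv φ)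
    rw [Category.assoc a (inv φ) φ, IsIso.inv_hom_id, Category.comp_id] at h
    rw [h]
    group
  obtain ⟨S, _, iS, M, hm, hSc, hS, hM, hcen, hnm⟩ := exists_central_torus_norm hG hT
  haveI := hm
  letI : CommGroup (VecGrp.pt k k ⟶ T) :=
    { (inferInstance : Group (VecGrp.pt k k ⟶ T)) with
      mul_comm := fun a b => AttrBorel21.mul_comm_of_isTorus hT.2.2.1 a b }
  have hpts : ∀ (g : VecGrp.pt k k ⟶ G) (τ : VecGrp.pt k k ⟶ T), (τ ≫ iT) * g = g * (τ ≫ iT) := by
    intro g τ
    obtain ⟨τ', rfl⟩ := exists_pow_eq hT.2.2.1 hM τ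
    obtain ⟨σ, τ₁, hσ, hτ₁⟩ := hnm τ'
    have h1 : τ₁ = τ' ^ M := hτ₁ (VecGrp.pt k k ⟶ T) (MonoidHom.id _) (fun w hw a a' h => by
      obtain ⟨y, hy⟩ := hnorm w hw
      refine (cancel_mono iT).1 ?_
      show a' ≫ iT = a ≫ iT
      rw [← h, ← hy, ← MonObj.mul_comp, ← GrpObj.inv_comp, ← MonObj.mul_comp,
        AttrBorel21.mul_comm_of_isTorus hT.2.2.1 y a, mul_inv_cancel_right])
    rw [← h1, ← hσ]
    exact (hcen _ g σ).symm
  obtain ⟨l, hl⟩ := exists_lift_of_pts c (𝟙 G) fun g => by
    obtain ⟨z, hz⟩ := (hC.2.2 _ g).2 fun X' x a => by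
      have h := hom_eq_one_of_pts (((InvRing21.toPt T ≫ g) * iT) * (iT * (InvRing21.toPt T ≫ g))⁻¹) fun τ => by
        rw [MonObj.comp_mul, GrpObj.comp_inv, MonObj.comp_mul, MonObj.comp_mul, ← Category.assoc, InvRing21.comp_toPt,
          InvRing21.toPt_pt, Category.id_comp, hpts g τ, mul_inv_cancel]
      have h2 := congrArg (fun q => a ≫ q) (mul_inv_eq_one.1 h)
      simp only [MonObj.comp_mul, ← Category.assoc, InvRing21.comp_toPt] at h2
      rwa [InvRing21.hom_ext_toPt x (InvRing21.toPt X')]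
    exact ⟨z, by rw [hz, Category.comp_id]⟩
  obtain ⟨r, hr⟩ := exists_lift_cartan_reductive hG hT hC
  refine hdim (le_antisymm ?_ ?_)
  · haveI : Surjective iT.left := ⟨fun x => ⟨(l ≫ r).left x, by
      rw [← Scheme.Hom.comp_apply, ← Over.comp_left, Category.assoc, hr, hl]
      rfl⟩⟩
    let h := iT.left.isClosedEmbedding.isEmbedding.toHomeomorphOfSurjective iT.left.surjective
    exact h.symm.isInducing.topologicalKrullDim_le
  · exact iT.left.isClosedEmbedding.isInducing.topologicalKrullDim_le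

end Groth.Agent.RankOne21
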