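import Groth.Prelude.Def_LieWt
import Groth.Agent.Lib.AttrBorel21.Main
import Groth.Agent.Lib.AttrBorel21.GalPts
import Groth.Agent.Lib.AttrBorel21.SplitStr
import Groth.Agent.Lib.AttrBorel21.Root
import Groth.Agent.Lib.AttrBorel21.SplitData
import Groth.Agent.Lib.AttrBorel21.AlmostSimple
import Groth.Agent.Lib.TorsorSch25.ExactPts

/-!
# Coordinates of the contracted unipotent groups give roots
-/

set_option autoImplicit false
set_option linter.style.haveILetI false
set_option linter.unusedSectionVars false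
set_option backward.isDefEq.respectTransparency.types false

universe u

open CategoryTheory Limits MonoidalCategory CartesianMonoidalCategory MonObj AlgebraicGeometry

noncomputable section

namespace Groth.Agent.RankOne21

open DiagGL TorPts21 InvRing21 AttrBorel21 BigCell21

attribute [local instance] InvRing21.gamAlg

section Char

variable {k : Type u} [Field k]

theorem gmFn_nat {S : Scheme.{u}} {X X' : Over S} (g : X' ⟶ X) (t : X ⟶ Red.Gm S) :
    Red.gmFn (g ≫ t) = g.left.appTop (Red.gmFn t) := by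
  show ((g ≫ t).left ≫ Limits.pullback.fst _ _).appTop Red.gmCoord = _
  rw [Over.comp_left, Category.assoc, Scheme.Hom.comp_appTop]
  rfl

variable {d : ℕ} {T : Over (Spec (CommRingCat.of k))} [GrpObj T]

/-- The character of `T` of an element of the lattice. -/
theorem exists_char (C : Chars (Fin d → ℤ) T) (e : Fin d → ℤ) :
    ∃ α : T ⟶ Red.Gm (Spec (CommRingCat.of k)), IsMonHom α ∧
      ∀ (X : Over (Spec (CommRingCat.of k))) (x : X ⟶ T), Red.gmFn (x ≫ α) = C.ch x (Multiplicative.ofAdd e) := by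
  let S := Spec (CommRingCat.of k)
  let CD := charsDS S (Fin d → ℤ)
  obtain ⟨w, hw⟩ := CD.surj (T := T) (C.ch (𝟙 T))
  have hwall : ∀ (X : Over S) (x : X ⟶ T) m, CD.ch (x ≫ w) m = C.ch x m := fun X x m => by
    rw [CD.nat, hw, ← C.nat, Category.comp_id]
  haveI : IsMonHom w :=
    { one_hom := CD.inj fun m => by rw [hwall, MonObj.one_eq_one, MonObj.one_eq_one, C.one, CD.one]
      mul_hom := CD.inj fun m => by
        rw [hwall, MonObj.mul_eq_mul, MonObj.mul_eq_mul, C.mul, MonObj.comp_mul, CD.mul, tensorHom_fst, tensorHom_snd,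
          hwall, hwall] }
  haveI : IsMonHom (Red.chi S e) :=
    TorsorSch25.isMonHom_of_points (G := Red.DS S (Fin d → ℤ)) (G' := Red.DS S ℤ) _ fun X x y =>
      (charsDS S ℤ).inj fun m => by
        obtain ⟨m, rfl⟩ := Multiplicative.ofAdd.surjective m
        rw [(charsDS S ℤ).mul]
        have key : ∀ z : X ⟶ Red.DS S (Fin d → ℤ), (charsDS S ℤ).ch (z ≫ Red.chi S e) (Multiplicative.ofAdd m) =
            (charsDS S (Fin d → ℤ)).ch z (Multiplicative.ofAdd ((zmultiplesHom (Fin d → ℤ) e) m)) :=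
          fun z => AttrBorel21.gmFn_DSmap z _ m
        rw [key, key, key]
        exact (charsDS S (Fin d → ℤ)).mul _ _ _
  exact ⟨w ≫ Red.chi S e, inferInstance, fun X x => by rw [← Category.assoc, gmFn_chi, hwall]⟩

end Char

section Lie

variable {k : Type u} [CommRing k] {T G : Over (Spec (CommRingCat.of k))} [GrpObj T] [GrpObj G]

/-- Base change of dual numbers, as a map of algebras. -/
def bcA {B B' : Type u} [CommRing B] [Algebra k B] [CommRing B'] [Algebra k B'] (φ : B →ₐ[k] B') :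
    DualNumber B →ₐ[k] DualNumber B' :=
  { LieS.bcHom φ.toRingHom with
    commutes' := fun c => by
      show LieS.bcHom φ.toRingHom (algebraMap k (DualNumber B) c) = algebraMap k (DualNumber B') c
      simp [LieS.bcHom, TrivSqZeroExt.algebraMap_eq_inl'] }

/-- Rescaling of dual numbers, as a map of algebras. -/
def scA {B : Type u} [CommRing B] [Algebra k B] (c : B) : DualNumber B →ₐ[k] DualNumber B :=
  { LieS.scaleHom c with
    commutes' := fun r => by
      show LieS.scaleHom c (algebraMap k (DualNumber B) r) = algebraMap k (DualNumber B) r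
      simp [LieS.scaleHom, TrivSqZeroExt.algebraMap_eq_inl'] }

/-- Constants in dual numbers, as a map of algebras. -/
def inA (B : Type u) [CommRing B] [Algebra k B] : B →ₐ[k] DualNumber B :=
  IsScalarTower.toAlgHom k B (DualNumber B)

/-- The two descriptions of the scheme of dual numbers. -/
def dIso {B B' : Type u} [CommRing B] [Algebra k B] [CommRing B'] [Algebra k B'] (φ : B →ₐ[k] B') :
    LieS.dpt B' (Spec.map (CommRingCat.ofHom φ.toRingHom) ≫ Spec.map (CommRingCat.ofHom (algebraMap k B))) ≅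
      VecGrp.pt k (DualNumber B') :=
  Over.isoMk (Iso.refl (Spec (CommRingCat.of (DualNumber B')))) (by
    change 𝟙 _ ≫ Spec.map _ = Spec.map _ ≫ Spec.map _ ≫ Spec.map _
    rw [Category.id_comp, LieS.specMap_comp, LieS.specMap_comp]
    congr 2
    refine RingHom.ext fun c => ?_
    rw [RingHom.comp_apply, RingHom.comp_apply, AlgHom.toRingHom_eq_coe, RingHom.coe_coe, φ.commutes,
      ← IsScalarTower.algebraMap_apply])

/-- The dual numbers over the base. -/
def dIso₀ (B : Type u) [CommRing B] [Algebra k B] :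
    LieS.dpt B (Spec.map (CommRingCat.ofHom (algebraMap k B))) ≅ VecGrp.pt k (DualNumber B) :=
  Over.isoMk (Iso.refl (Spec (CommRingCat.of (DualNumber B)))) (by
    change 𝟙 _ ≫ Spec.map _ = Spec.map _ ≫ Spec.map _
    rw [Category.id_comp, LieS.specMap_comp])

theorem dIso₀_hom_left (B : Type u) [CommRing B] [Algebra k B] :
    (dIso₀ (k := k) B).hom.left = 𝟙 (Spec (CommRingCat.of (DualNumber B))) := rfl

theorem dIso_hom_left {B B' : Type u} [CommRing B] [Algebra k B] [CommRing B'] [Algebra k B'] (φ : B →ₐ[k] B') :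
    (dIso φ).hom.left = 𝟙 (Spec (CommRingCat.of (DualNumber B'))) := rfl

theorem zeroSec_dIso₀ : LieS.zeroSec k (Spec.map (CommRingCat.ofHom (algebraMap k k))) ≫ (dIso₀ (k := k) k).hom =
    VecGrp.ptMap (TrivSqZeroExt.fstHom k k k) := by
  refine Over.OverMorphism.ext ?_
  rw [Over.comp_left, dIso₀_hom_left]
  simp only [LieS.zeroSec, VecGrp.ptMap, Over.homMk_left]
  exact Category.comp_id _

theorem proj_dIso {B B' : Type u} [CommRing B] [Algebra k B] [CommRing B'] [Algebra k B'] (φ : B →ₐ[k] B') :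
    LieS.proj B' (Spec.map (CommRingCat.ofHom φ.toRingHom) ≫ Spec.map (CommRingCat.ofHom (algebraMap k B))) ≫
      (VecGrp.ptIso φ).hom = (dIso φ).hom ≫ VecGrp.ptMap (inA B') := by
  refine Over.OverMorphism.ext ?_
  rw [Over.comp_left, Over.comp_left, dIso_hom_left]
  simp only [LieS.proj, VecGrp.ptMap, VecGrp.ptIso, Over.homMk_left, Over.isoMk_hom_left, Iso.refl_hom]
  exact (Category.comp_id _).trans (Category.id_comp _).symm

theorem dptMap_dIso {B' : Type u} [CommRing B'] [Algebra k B'] (φ : k →ₐ[k] B') :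
    LieS.dptMap (Spec.map (CommRingCat.ofHom (algebraMap k k))) φ.toRingHom ≫ (dIso₀ (k := k) k).hom =
      (dIso φ).hom ≫ VecGrp.ptMap (bcA φ) := by
  refine Over.OverMorphism.ext ?_
  rw [Over.comp_left, Over.comp_left, dIso_hom_left, dIso₀_hom_left]
  simp only [LieS.dptMap, VecGrp.ptMap, Over.homMk_left]
  exact (Category.comp_id _).trans (Category.id_comp _).symm

theorem scale_dIso {B B' : Type u} [CommRing B] [Algebra k B] [CommRing B'] [Algebra k B'] (φ : B →ₐ[k] B') (c : B') :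
    LieS.scale B' (Spec.map (CommRingCat.ofHom φ.toRingHom) ≫ Spec.map (CommRingCat.ofHom (algebraMap k B))) c ≫
      (dIso φ).hom = (dIso φ).hom ≫ VecGrp.ptMap (scA c) := by
  refine Over.OverMorphism.ext ?_
  rw [Over.comp_left, Over.comp_left, dIso_hom_left]
  simp only [LieS.scale, VecGrp.ptMap, Over.homMk_left]
  exact (Category.comp_id _).trans (Category.id_comp _).symm

theorem zeroSec_comp {U : Over (Spec (CommRingCat.of k))} [GrpObj U] (iU : U ⟶ G) [IsMonHom iU]
    (x : VecGrp.pt k (DualNumber k) ⟶ U) (hx : VecGrp.ptMap (TrivSqZeroExt.fstHom k k k) ≫ x = 1) :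
    LieS.zeroSec k (Spec.map (CommRingCat.ofHom (algebraMap k k))) ≫ (dIso₀ (k := k) k).hom ≫ x ≫ iU = 1 := by
  rw [← Category.assoc, zeroSec_dIso₀, ← Category.assoc, hx]
  exact MonObj.one_comp iU

theorem of_dIso₀_comp (z : VecGrp.pt k (DualNumber k) ⟶ G) (h : (dIso₀ (k := k) k).hom ≫ z = 1) : z = 1 :=
  (cancel_epi (dIso₀ (k := k) k).hom).1 (h.trans (MonObj.comp_one _).symm)

theorem weight_eq {B' : Type u} [CommRing B'] [Algebra k B'] (φ : k →ₐ[k] B') (iT : T ⟶ G)
    (τ : VecGrp.pt k B' ⟶ T) (z : VecGrp.pt k (DualNumber k) ⟶ G) (c : B')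
    (h : ((VecGrp.ptMap (inA B') ≫ τ) ≫ iT) * (VecGrp.ptMap (bcA φ) ≫ z) * ((VecGrp.ptMap (inA B') ≫ τ) ≫ iT)⁻¹ =
      VecGrp.ptMap (scA c) ≫ VecGrp.ptMap (bcA φ) ≫ z) :
    (LieS.proj B' _ ≫ (VecGrp.ptIso φ).hom ≫ τ ≫ iT) *
        (LieS.dptMap (Spec.map (CommRingCat.ofHom (algebraMap k k))) φ.toRingHom ≫ (dIso₀ (k := k) k).hom ≫ z) *
        (LieS.proj B' _ ≫ (VecGrp.ptIso φ).hom ≫ τ ≫ iT)⁻¹ =
      LieS.scale B' _ c ≫
        LieS.dptMap (Spec.map (CommRingCat.ofHom (algebraMap k k))) φ.toRingHom ≫ (dIso₀ (k := k) k).hom ≫ z := by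
  have hL : LieS.proj B' _ ≫ (VecGrp.ptIso φ).hom ≫ τ ≫ iT =
      (dIso φ).hom ≫ (VecGrp.ptMap (inA B') ≫ τ) ≫ iT := by
    rw [← Category.assoc, proj_dIso]
    simp only [Category.assoc]
  have hV : LieS.dptMap (Spec.map (CommRingCat.ofHom (algebraMap k k))) φ.toRingHom ≫ (dIso₀ (k := k) k).hom ≫ z =
      (dIso φ).hom ≫ VecGrp.ptMap (bcA φ) ≫ z := by
    rw [← Category.assoc, dptMap_dIso]
    simp only [Category.assoc]
  rw [hL, hV, ← Category.assoc (LieS.scale B' _ c), scale_dIso, Category.assoc, ← GrpObj.comp_inv, ← MonObj.comp_mul,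
    ← MonObj.comp_mul]
  simp only [Category.assoc] at h ⊢
  rw [h]

theorem weightSpOf_ne_bot (iT : T ⟶ G) (α : T ⟶ Red.Gm (Spec (CommRingCat.of k)))
    (z : VecGrp.pt k (DualNumber k) ⟶ G)
    (hz0 : LieS.zeroSec k (Spec.map (CommRingCat.ofHom (algebraMap k k))) ≫ (dIso₀ (k := k) k).hom ≫ z = 1)
    (hz : z ≠ 1)
    (h : ∀ (B' : Type u) [CommRing B'] [Algebra k B'] (φ : k →ₐ[k] B') (τ : VecGrp.pt k B' ⟶ T),
      ((VecGrp.ptMap (inA B') ≫ τ) ≫ iT) * (VecGrp.ptMap (bcA φ) ≫ z) * ((VecGrp.ptMap (inA B') ≫ τ) ≫ iT)⁻¹ =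
        VecGrp.ptMap (scA (VecGrp.chiVal α τ)) ≫ VecGrp.ptMap (bcA φ) ≫ z) :
    LieWt.weightSpOf iT α k ≠ ⊥ := by
  intro hbot
  let v : LieS.LieR G k := ⟨(dIso₀ (k := k) k).hom ≫ z, (LieS.mem_Lie_iff G k _ _).2 hz0⟩
  have hv : v ∈ LieWt.weightSpOf iT α k := by
    rw [LieWt.weightSpOf, LieWt.mem_weightSp_iff]
    intro B' _ _ φ τ
    apply Subtype.ext
    rw [LieWt.Ad_val, LieS.smul_val, LieWt.pull_val]
    exact weight_eq φ iT τ z _ (h B' φ τ)
  rw [hbot, Subgroup.mem_bot] at hv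
  have h2 := congrArg Subtype.val hv
  rw [OneMemClass.coe_one] at h2
  exact hz (of_dIso₀_comp z h2)

end Lie

section Coord

variable {k : Type u} [Field k] {d : ℕ} {T : Over (Spec (CommRingCat.of k))} [GrpObj T]
  {G : Over (Spec (CommRingCat.of k))} [GrpObj G] [IsAffine G.left]

set_option maxHeartbeats 1600000 in
/-- A coordinate of a torus-stable unipotent subgroup gives a root. -/
theorem exists_isRoot_of_coord (C : Chars (Fin d → ℤ) T) {iT : T ⟶ G} [IsMonHom iT] {n : ℕ} {r : G ⟶ GLs k n}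
    [IsMonHom r] [IsClosedImmersion r.left] {a : Fin n → Fin d → ℤ}
    (hdiag : ∀ (X : Over (Spec (CommRingCat.of k))) (x : X ⟶ T),
      mat ((x ≫ iT) ≫ r) = Matrix.diagonal fun j => C.ch x (Multiplicative.ofAdd (a j)))
    {U : Over (Spec (CommRingCat.of k))} [GrpObj U] [IsAffine U.left] (iU : U ⟶ G) [IsMonHom iU]
    (hst : TStab iT iU) {κ : Type} [Fintype κ] (p : κ → Fin n × Fin n) (hne : ∀ t, (p t).1 ≠ (p t).2)
    (hbij : Function.Bijective (MvPolynomial.aeval fun t => ent r iU (p t) :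
      MvPolynomial κ k →ₐ[k] Γ(U.left, ⊤))) (t₀ : κ) (hα0 : a (p t₀).1 - a (p t₀).2 ≠ 0) :
    ∃ α : T ⟶ Red.Gm (Spec (CommRingCat.of k)), LieWt.IsRoot iT α ∧
      ∀ (X : Over (Spec (CommRingCat.of k))) (x : X ⟶ T),
        Red.gmFn (x ≫ α) = C.ch x (Multiplicative.ofAdd (a (p t₀).1 - a (p t₀).2)) := by
  classical
  set e₀ := a (p t₀).1 - a (p t₀).2 with he₀
  obtain ⟨α, hα, hαe⟩ := exists_char C e₀
  refine ⟨α, ⟨hα, fun h1 => ?_, ?_⟩, hαe⟩
  · -- the character is not trivial
    obtain ⟨q, hq⟩ : ∃ q, e₀ q ≠ 0 := by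
      by_contra! h
      exact hα0 (funext h)
    let K := AlgebraicClosure k
    have hchi : ∀ s : Kˣ, s ^ e₀ q = 1 := fun s => by
      obtain ⟨τ, hτ⟩ := exists_chi C (monom (B := K) fun j => if j = q then s else 1)
      have h2 : C.ch τ (Multiplicative.ofAdd e₀) = 1 := by
        rw [← hαe, h1, MonObj.comp_one]
        obtain ⟨w, hw⟩ := exists_char C 0
        rw [show (1 : VecGrp.pt k K ⟶ Red.Gm (Spec (CommRingCat.of k))) = (1 : VecGrp.pt k K ⟶ T) ≫ w from
          (by haveI := hw.1; exact (MonObj.one_comp w).symm), hw.2, C.one]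
      refine Units.ext ?_
      have h3 := hτ (Multiplicative.ofAdd e₀)
      rw [show monom (B := K) (fun j => if j = q then s else 1) (Multiplicative.ofAdd e₀) = ((s ^ e₀ q : Kˣ) : K) from by
        show ((∏ j, (if j = q then s else 1) ^ e₀ j : Kˣ) : K) = _
        rw [Finset.prod_eq_single q (fun j _ hj => by rw [if_neg hj, one_zpow]) (fun h => absurd (Finset.mem_univ q) h),
          if_pos rfl]] at h3
      rw [← h3, Units.val_one]
      show InvRing21.ptHom K (C.ch τ (Multiplicative.ofAdd e₀)) = 1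
      rw [h2, map_one]
    exact hq (BorelLam21.eq_zero_of_zpow hchi)
  · -- the vector
    let e : MvPolynomial κ k ≃ₐ[k] Γ(U.left, ⊤) := AlgEquiv.ofBijective _ hbij
    have he : ∀ t, e.symm (ent r iU (p t)) = MvPolynomial.X t := fun t => by
      rw [show ent r iU (p t) = e (MvPolynomial.X t) from (MvPolynomial.aeval_X (fun t => ent r iU (p t)) t).symm,
        AlgEquiv.symm_apply_apply]
    have hext : ∀ {B : Type u} [CommRing B] [Algebra k B] (x y : VecGrp.pt k B ⟶ U),
        (∀ t, val x (ent r iU (p t)) = val y (ent r iU (p t))) → x = y := fun {B} _ _ x y h => by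
      have h1 : (val x).comp e.toAlgHom = (val y).comp e.toAlgHom := MvPolynomial.algHom_ext fun t => by
        show val x (e (MvPolynomial.X t)) = val y (e (MvPolynomial.X t))
        rw [show e (MvPolynomial.X t) = ent r iU (p t) from MvPolynomial.aeval_X (fun t => ent r iU (p t)) t]
        exact h t
      refine Over.OverMorphism.ext (ext_of_isAffine (CommRingCat.hom_ext (RingHom.ext fun F => ?_)))
      refine InvRing21.ptHom_injective (k := k) B ?_
      have h2 := AlgHom.congr_fun h1 (e.symm F)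
      change val x (e (e.symm F)) = val y (e (e.symm F)) at h2
      rw [e.apply_symm_apply] at h2
      exact h2
    let ψ : Γ(U.left, ⊤) →ₐ[k] DualNumber k :=
      (MvPolynomial.aeval fun t => if t = t₀ then (DualNumber.eps : DualNumber k) else 0).comp e.symm.toAlgHom
    let x₀ : VecGrp.pt k (DualNumber k) ⟶ U := VecGrp.ptMap ψ ≫ InvRing21.uPt U
    have hx₀ : ∀ t, val x₀ (ent r iU (p t)) = if t = t₀ then (DualNumber.eps : DualNumber k) else 0 := fun t => by
      show val (VecGrp.ptMap ψ ≫ InvRing21.uPt U) _ = _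
      rw [InvRing21.val_ptMap, InvRing21.val_uPt]
      show ψ (ent r iU (p t)) = _
      show MvPolynomial.aeval _ (e.symm (ent r iU (p t))) = _
      rw [he, MvPolynomial.aeval_X]
    have hval1 : ∀ {B : Type u} [CommRing B] [Algebra k B] t,
        val (1 : VecGrp.pt k B ⟶ U) (ent r iU (p t)) = 0 := fun {B} _ _ t => by
      rw [val_ent, MonObj.one_comp, pmat_one, Matrix.one_apply_ne (hne t)]
    have hfst : VecGrp.ptMap (TrivSqZeroExt.fstHom k k k) ≫ x₀ = 1 := hext (B := k) _ _ fun t => by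
      rw [hval1, InvRing21.val_ptMap, AlgHom.comp_apply, hx₀]
      by_cases ht : t = t₀
      · rw [if_pos ht]; exact TrivSqZeroExt.fst_inr k (1 : k)
      · rw [if_neg ht]; exact map_zero _
    have hzne : x₀ ≫ iU ≠ 1 := fun h2 => by
      have h3 := val_ent r iU x₀ (p t₀)
      rw [hx₀, if_pos rfl, h2, pmat_one, Matrix.one_apply_ne (hne t₀)] at h3
      have h4 := congrArg TrivSqZeroExt.snd h3
      simp at h4
    refine weightSpOf_ne_bot iT α (x₀ ≫ iU) (zeroSec_comp iU x₀ hfst) hzne fun B' _ _ φ τ => ?_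
    set c := VecGrp.chiVal α τ with hcdef
    let D := DualNumber B'
    let τ' : VecGrp.pt k D ⟶ T := VecGrp.ptMap (inA B') ≫ τ
    let y : VecGrp.pt k D ⟶ U := VecGrp.ptMap (bcA φ) ≫ x₀
    show (τ' ≫ iT) * (VecGrp.ptMap (bcA φ) ≫ x₀ ≫ iU) * (τ' ≫ iT)⁻¹ = VecGrp.ptMap (scA c) ≫ VecGrp.ptMap (bcA φ) ≫ x₀ ≫ iU
    rw [← Category.assoc (VecGrp.ptMap (bcA φ)), show VecGrp.ptMap (bcA φ) ≫ x₀ = y from rfl]
    obtain ⟨h', hh'⟩ := hst _ τ' y
    rw [← hh', ← Category.assoc]
    congr 1
    refine hext _ _ fun t => ?_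
    rw [val_ent, hh', InvRing21.val_ptMap, AlgHom.comp_apply]
    have hd : ∀ w : VecGrp.pt k D ⟶ T, pmat r (w ≫ iT) =
        Matrix.diagonal fun j => chi C w (Multiplicative.ofAdd (a j)) := fun w => by
      rw [pmat, hdiag, Matrix.diagonal_map (map_zero _)]
      rfl
    rw [pmat_mul, pmat_mul, ← GrpObj.inv_comp, hd, hd, Matrix.mul_diagonal, Matrix.diagonal_mul, ← val_ent,
      InvRing21.val_ptMap, AlgHom.comp_apply, hx₀]
    by_cases ht : t = t₀
    · subst ht
      rw [if_pos rfl]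
      have hinv : chi C τ'⁻¹ (Multiplicative.ofAdd (a (p t).2)) = chi C τ' (Multiplicative.ofAdd (-a (p t).2)) := by
        refine left_inv_eq_right_inv (a := chi C τ' (Multiplicative.ofAdd (a (p t).2))) ?_ ?_
        · rw [← chi_mul, inv_mul_cancel]
          show InvRing21.ptHom D (C.ch (1 : VecGrp.pt k D ⟶ T) _) = 1
          rw [C.one, map_one]
        · rw [← map_mul, ← ofAdd_add, add_neg_cancel]
          exact map_one _
      rw [hinv, mul_right_comm, ← map_mul, ← ofAdd_add, ← sub_eq_add_neg, ← he₀]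
      have hc : chi C τ' (Multiplicative.ofAdd e₀) = algebraMap B' D c := by
        show chi C (VecGrp.ptMap (inA B') ≫ τ) _ = _
        rw [chi_ptMap]
        show algebraMap B' D (InvRing21.ptHom B' (C.ch τ (Multiplicative.ofAdd e₀))) = _
        rw [← hαe]
        rfl
      rw [hc]
      simp [bcA, scA, LieS.bcHom, LieS.scaleHom]
      rfl
    · rw [if_neg ht]
      simp

end Coord

end Groth.Agent.RankOne21
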