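import Groth.Agent.Lib.CartanRel21.Basic

/-!
# Normalisers commute with base change
-/

set_option autoImplicit false
set_option linter.style.haveILetI false
set_option linter.unusedSectionVars false
set_option backward.isDefEq.respectTransparency.types false

universe u

open CategoryTheory Limits MonoidalCategory CartesianMonoidalCategory MonObj GrpObj AlgebraicGeometry

noncomputable section

namespace Groth.Agent.RankOne21

open DiagGL MTRigid29

variable {S : Scheme.{u}} {G H Z : Over S} [GrpObj G] [GrpObj H] [GrpObj Z]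

theorem fl_inv' {S' : Scheme.{u}} (f : S' ⟶ S) (G : Over S) [GrpObj G] {X : Over S'} (x : X ⟶ Red.bc f G) :
    fl f G x⁻¹ = (fl f G x)⁻¹ :=
  eq_inv_of_mul_eq_one_left (by rw [← fl_mul, inv_mul_cancel, fl_one])

/-- Normalisers commute with base change. -/
theorem isNormalizerOf_bc {u : H ⟶ G} {j : Z ⟶ G} (h : Red.IsNormalizerOf u j) {S' : Scheme.{u}} (f : S' ⟶ S) :
    Red.IsNormalizerOf ((Over.pullback f).map u) ((Over.pullback f).map j) := by
  obtain ⟨hm, hmono, hiff⟩ := h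
  haveI := hm
  haveI := hmono
  refine ⟨isMonHom_map j f, Functor.map_mono _ _, fun X g => ⟨?_, fun hg => ?_⟩⟩
  · rintro ⟨z, rfl⟩ X' x a
    obtain ⟨⟨b₁, hb₁⟩, ⟨b₂, hb₂⟩⟩ := (hiff _ (fl f Z (x ≫ z) ≫ j)).1 ⟨_, rfl⟩ _ (𝟙 _) (fl f H a)
    obtain ⟨c₁, rfl⟩ := fl_surjective f H b₁
    obtain ⟨c₂, rfl⟩ := fl_surjective f H b₂
    rw [Category.id_comp] at hb₁ hb₂
    refine ⟨⟨c₁, fl_injective f G ?_⟩, ⟨c₂, fl_injective f G ?_⟩⟩
    · rw [fl_mul, fl_mul, fl_inv', fl_comp_map, fl_comp_map, ← Category.assoc x z, fl_comp_map]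
      exact hb₁
    · rw [fl_mul, fl_mul, fl_inv', fl_comp_map, fl_comp_map, ← Category.assoc x z, fl_comp_map]
      exact hb₂
  · obtain ⟨z, hz⟩ := (hiff _ (fl f G g)).2 fun X' s a => by
      let X₁ : Over S' := Over.mk (s.left ≫ X.hom)
      let x : X₁ ⟶ X := Over.homMk s.left rfl
      let i : (Over.map f).obj X₁ ≅ X' := Over.isoMk (Iso.refl _) (by
        show 𝟙 _ ≫ X'.hom = (s.left ≫ X.hom) ≫ f
        rw [Category.id_comp, Category.assoc]
        exact (Over.w s).symm)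
      obtain ⟨a₁, ha₁⟩ := fl_surjective f H (i.hom ≫ a)
      have hs : (Over.map f).map x = i.hom ≫ s := Over.OverMorphism.ext (Category.id_comp _).symm
      obtain ⟨⟨b₁, hb₁⟩, ⟨b₂, hb₂⟩⟩ := hg X₁ x a₁
      have h1 := congrArg (fl f G) hb₁
      have h2 := congrArg (fl f G) hb₂
      rw [fl_mul, fl_mul, fl_inv', fl_comp_map, fl_comp_map, ha₁, fl_comp, hs] at h1 h2
      refine ⟨⟨i.inv ≫ fl f H b₁, ?_⟩, ⟨i.inv ≫ fl f H b₂, ?_⟩⟩
      · rw [Category.assoc, ← h1]
        simp only [MonObj.comp_mul, GrpObj.comp_inv, Category.assoc, Iso.inv_hom_id_assoc]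
      · rw [Category.assoc, ← h2]
        simp only [MonObj.comp_mul, GrpObj.comp_inv, Category.assoc, Iso.inv_hom_id_assoc]
    obtain ⟨z', rfl⟩ := fl_surjective f Z z
    exact ⟨z', fl_injective f G (by rw [fl_comp_map, hz])⟩

end Groth.Agent.RankOne21
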