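import Groth.Agent.Lib.RankOne21.Field
import Groth.Agent.Lib.RankOne21.Norm
import Groth.Agent.Lib.RankOne21.Line
import Groth.Agent.Lib.RankOne21.Grade
import Groth.Agent.Lib.CartanNhd21.Main
import Groth.Agent.Lib.CentMT21.Cartan
import Groth.Agent.Lib.CartanT21.Iso
import Groth.Agent.Lib.TorusLift21.Nhd
import Groth.Agent.Lib.AttrBorel21.MaxTori
import Groth.Agent.Lib.TorPts21.MaximalTorusClosed
import Groth.Agent.Lib.TorPts21.WeylFixed
import Groth.Agent.Lib.UInvFG21.Torus

/-!
# Openness of reductivity for a group with a split torus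
-/

set_option autoImplicit false
set_option linter.style.haveILetI false
set_option linter.unusedSectionVars false
set_option backward.isDefEq.respectTransparency.types false

universe u

open CategoryTheory Limits MonoidalCategory CartesianMonoidalCategory MonObj GrpObj AlgebraicGeometry

noncomputable section

namespace Groth.Agent.RankOne21

set_option maxHeartbeats 1600000 in
/-- Reductivity spreads from a fibre at most two dimensions bigger than its maximal torus. -/
theorem exists_nhd_rankOne {S : Scheme.{u}} (G T : Over S) [GrpObj G] [GrpObj T] [IsAffineHom G.hom] [Smooth G.hom]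
    (hconn : ∀ s : S, _root_.IsConnected (G.hom.base ⁻¹' {s})) (i : T ⟶ G) [IsMonHom i] (hi : IsClosedImmersion i.left)
    (hT : Red.IsTorus T) (s : S) (hred : Red.IsReductiveOver (AlgebraicClosure (S.residueField s)) (Red.geomFibre s G))
    (hmax : Red.IsMaximalTorus ((Over.pullback (Red.geomPt s)).map i))
    (hne : topologicalKrullDim ↥(Red.geomFibre s G).left ≠ topologicalKrullDim ↥(Red.geomFibre s T).left)
    (hdim : topologicalKrullDim ↥(Red.geomFibre s G).left ≤ topologicalKrullDim ↥(Red.geomFibre s T).left + 2) :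
    ∃ U : Set S, IsOpen U ∧ s ∈ U ∧
      ∀ t ∈ U, Red.IsReductiveOver (AlgebraicClosure (S.residueField t)) (Red.geomFibre t G) := by
  haveI := hi
  haveI : Mono i := Over.mono_of_mono_left i
  haveI : IsSeparated G.hom := inferInstance
  haveI : QuasiCompact G.hom := inferInstance
  have hTft := TorPts21.isMultTypeFT_of_isTorus hT
  haveI : Smooth T.hom := CartanT21.smooth_of_torus hT
  obtain ⟨Z, _, z, hz, hzc, hzs⟩ := TorusCentr19.exists_centralizer' (MTRigid29.isMT_of_ft hTft) ‹Smooth G.hom› i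
  obtain ⟨N, _, nn, hN, hNc, hNs⟩ := TorusCentr19.exists_normalizer' hTft ‹Smooth G.hom› i
  haveI := hz.1
  haveI := hz.2.1
  haveI := hzc
  haveI := hzs
  haveI := hN.1
  haveI := hN.2.1
  haveI := hNc
  haveI := hNs
  obtain ⟨f, hf⟩ := (hz.2.2 T i).2 fun X x t => by
    rw [← MonObj.mul_comp, MTRigid29.commute_of_isMultTypeFT hTft, MonObj.mul_comp]
  obtain ⟨g, hg⟩ := (hN.2.2 T i).2 fun X x t => by
    refine ⟨⟨t, ?_⟩, ⟨t, ?_⟩⟩
    · rw [← MonObj.mul_comp, ← GrpObj.inv_comp, ← MonObj.mul_comp]
      congr 1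
      rw [MTRigid29.commute_of_isMultTypeFT hTft x t, mul_inv_cancel_right]
    · rw [← GrpObj.inv_comp, ← MonObj.mul_comp, ← MonObj.mul_comp]
      congr 1
      rw [_root_.mul_assoc, MTRigid29.commute_of_isMultTypeFT hTft t x, inv_mul_cancel_left]
  haveI : Mono (f ≫ z) := by rw [hf]; infer_instance
  haveI : Mono f := mono_of_mono f z
  haveI : IsMonHom f := MTExt21.isMonHom_of_comp' z f (by rw [hf]; infer_instance)
  haveI : IsClosedImmersion f.left := by
    haveI : IsClosedImmersion (f.left ≫ z.left) := by rw [← Over.comp_left, hf]; infer_instance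
    exact IsClosedImmersion.of_comp f.left z.left
  haveI : IsClosedImmersion g.left := by
    haveI : IsClosedImmersion (g.left ≫ nn.left) := by rw [← Over.comp_left, hg]; infer_instance
    exact IsClosedImmersion.of_comp g.left nn.left
  haveI : IsSeparated Z.hom := by rw [← Over.w z]; infer_instance
  haveI : LocallyOfFinitePresentation f.left := by
    haveI : LocallyOfFinitePresentation (f.left ≫ Z.hom) := by rw [Over.w f]; infer_instance
    exact SchBasic.locallyOfFinitePresentation_of_comp f.left Z.hom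
  have hW : IsOpen (N.hom '' (Set.range g.left)ᶜ) :=
    N.hom.isOpenMap _ g.left.isClosedEmbedding.isClosed_range.isOpen_compl
  let P := fun t : S => Over.pullback (Red.geomPt t)
  have hfib : ∀ t : S, Smooth (Red.geomFibre t G).hom ∧ IsAffine (Red.geomFibre t G).left ∧
      ConnectedSpace ↥(Red.geomFibre t G).left ∧ IsAffine (Red.geomFibre t N).left ∧ Smooth (Red.geomFibre t N).hom ∧
      IsClosedImmersion ((P t).map nn).left ∧ IsClosedImmersion ((P t).map g).left := fun t => by
    haveI : IsAffineHom (Red.geomFibre t G).hom :=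
      inferInstanceAs (IsAffineHom (Limits.pullback.snd G.hom (Red.geomPt t)))
    haveI h : IsClosedImmersion ((P t).map nn).left :=
      MorphismProperty.of_isPullback (MTRigid29.isPullback_map_left (Red.geomPt t) nn) hNc
    haveI hG' : IsAffine (Red.geomFibre t G).left := isAffine_of_isAffineHom (Red.geomFibre t G).hom
    refine ⟨inferInstanceAs (Smooth (Limits.pullback.snd G.hom (Red.geomPt t))), hG',
      CentMT21.connectedSpace_geomFibre G hconn t, ?_, inferInstanceAs (Smooth (Limits.pullback.snd N.hom (Red.geomPt t))),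
      h, MorphismProperty.of_isPullback (MTRigid29.isPullback_map_left (Red.geomPt t) g) inferInstance⟩
    exact isAffine_of_isAffineHom ((P t).map nn).left
  have hout : ∀ (t : S) (p : ↥(Red.geomFibre t T).left),
      Limits.pullback.fst N.hom (Red.geomPt t) (((P t).map g).left p) = g.left (Limits.pullback.fst T.hom (Red.geomPt t) p) :=
    fun t p => by
      rw [← Scheme.Hom.comp_apply, ← (MTRigid29.isPullback_map_left (Red.geomPt t) g).w, Scheme.Hom.comp_apply]
  have hdimpt : ∀ (X : Over S) [LocallyOfFiniteType X.hom] (t : S),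
      topologicalKrullDim ↥(Red.geomFibre t X).left = topologicalKrullDim ↥(X.hom ⁻¹' {t}) := fun X _ t =>
    TorusLift21.dim_bc_point X (Red.geomPt t) t (CentMT21.geomPt_apply t)
  obtain ⟨U₁, hs₁, hU₁⟩ := SemiNhd19.exists_nhd_dim_eq G s
  obtain ⟨U₂, hs₂, hU₂⟩ := SemiNhd19.exists_nhd_dim_eq T s
  refine ⟨CartanNhd21.unitFlatLocus f ∩ ((U₁ : Set S) ∩ (U₂ : Set S)) ∩ N.hom '' (Set.range g.left)ᶜ,
    ((CartanNhd21.isOpen_unitFlatLocus f).inter (U₁.2.inter U₂.2)).inter hW, ⟨⟨?_, hs₁, hs₂⟩, ?_⟩, ?_⟩
  rotate_left 2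
  · rintro t ⟨⟨htf, ht₁, ht₂⟩, x, hx, hxt⟩
    obtain ⟨hGs, hGa, hGc, hNa, hNsm, hnc, hgc⟩ := hfib t
    haveI := hGs; haveI := hGa; haveI := hGc; haveI := hNa; haveI := hNsm; haveI := hnc
    haveI := MTRigid29.isMonHom_map i (Red.geomPt t)
    haveI := CartanNhd21.isIso_of_mem_unitFlatLocus f (CentMT21.connectedSpace_geomFibre Z
      (fun y => CentMT21.isConnected_fibre_centralizer hconn hT hz y) t) htf
    have hzt := CartanRel21.isCentralizerOf_bc hz (Red.geomPt t)
    have hfz : (P t).map f ≫ (P t).map z = (P t).map i := by rw [← Functor.map_comp, hf]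
    have hct : Red.IsCentralizerOf ((P t).map i) ((P t).map i) := by
      refine ⟨inferInstance, Functor.map_mono _ _, fun X q => ⟨fun ⟨w, hw⟩ => ?_, fun h => ?_⟩⟩
      · exact (hzt.2.2 X q).1 ⟨w ≫ (P t).map f, by rw [Category.assoc, hfz, hw]⟩
      · obtain ⟨w, hw⟩ := (hzt.2.2 X q).2 h
        exact ⟨w ≫ inv ((P t).map f), by rw [← hfz, Category.assoc, IsIso.inv_hom_id_assoc, hw]⟩
    have hTt := TorusHom19.isTorus_bc hT (Red.geomPt t)
    have hdt : topologicalKrullDim ↥(Red.geomFibre t G).left ≤ topologicalKrullDim ↥(Red.geomFibre t T).left + 2 := by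
      rw [hdimpt G t, hdimpt T t, hU₁ t ht₁, hU₂ t ht₂, ← hdimpt G s, ← hdimpt T s]
      exact hdim
    obtain ⟨p, hp, -⟩ := Scheme.Pullback.exists_preimage_pullback (f := N.hom) (g := Red.geomPt t) x
      (IsLocalRing.closedPoint _) (hxt.trans (CentMT21.geomPt_apply t).symm)
    obtain ⟨y, hy⟩ := BorelFix21.exists_pt_mem (G := Red.geomFibre t N)
      (Z := Limits.pullback.fst N.hom (Red.geomPt t) ⁻¹' (Set.range g.left)ᶜ)
      (g.left.isClosedEmbedding.isClosed_range.isOpen_compl.preimage
        (Limits.pullback.fst N.hom (Red.geomPt t)).continuous).isLocallyClosed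
      ⟨p, show Limits.pullback.fst N.hom (Red.geomPt t) p ∈ (Set.range g.left)ᶜ from hp.symm ▸ hx⟩
    let K := AlgebraicClosure (S.residueField t)
    let e : 𝟙_ (Over (Spec (CommRingCat.of K))) ⟶ VecGrp.pt K K := Over.homMk (𝟙 _) (by
      show 𝟙 _ ≫ Spec.map (CommRingCat.ofHom (algebraMap K K)) = 𝟙 _
      rw [show CommRingCat.ofHom (algebraMap K K) = 𝟙 _ from rfl, Spec.map_id, Category.id_comp])
    haveI : Mono ((P t).map nn) := Functor.map_mono _ _
    refine RankOne21.isReductiveOver hTt hct (e ≫ y ≫ (P t).map nn)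
      (TorPts21.normalizesSub_comp e (((RankOne21.isNormalizerOf_bc hN (Red.geomPt t)).2.2 _ _).1 ⟨y, rfl⟩))
      (fun τ hτ => ?_) hdt
    apply hy
    have h1 : toUnit (VecGrp.pt K K) ≫ e = 𝟙 _ := TorPts21.pt_end_eq_id _
    have h2 : (toUnit (VecGrp.pt K K) ≫ τ) ≫ (P t).map g = y := by
      rw [← cancel_mono ((P t).map nn), Category.assoc, ← Functor.map_comp, hg, Category.assoc, hτ, ← Category.assoc, h1,
        Category.id_comp]
    refine ⟨Limits.pullback.fst T.hom (Red.geomPt t) (InvRing21.img (toUnit (VecGrp.pt K K) ≫ τ)), ?_⟩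
    rw [← hout]
    conv_rhs => rw [← h2]
    rfl
  · obtain ⟨hGs, hGa, hGc, -⟩ := hfib s
    haveI := MTRigid29.isMonHom_map i (Red.geomPt s)
    obtain ⟨l, hl⟩ := TorPts21.exists_lift_cartan_reductive hred (TorPts21.isMaxTorus_of_isMaximalTorus hmax)
      (CartanRel21.isCentralizerOf_bc hz (Red.geomPt s))
    refine CartanNhd21.mem_unitFlatLocus f ?_
    have h1 : (P s).map f ≫ (P s).map z = (P s).map i := by rw [← Functor.map_comp, hf]
    haveI : Mono ((P s).map i) := Functor.map_mono _ _
    haveI : Mono ((P s).map z) := Functor.map_mono _ _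
    refine ⟨l, ?_, ?_⟩
    · rw [← cancel_mono ((P s).map i), Category.assoc, hl, h1, Category.id_comp]
    · rw [← cancel_mono ((P s).map z), Category.assoc, h1, hl, Category.id_comp]
  · obtain ⟨hGs, hGa, hGc, hNa, hNsm, hnc, hgc⟩ := hfib s
    haveI := hGs; haveI := hGa; haveI := hGc; haveI := hNa; haveI := hNsm; haveI := hgc
    haveI : LocallyOfFiniteType (Red.geomFibre s T).hom :=
      inferInstanceAs (LocallyOfFiniteType (Limits.pullback.snd T.hom (Red.geomPt s)))
    haveI : IsSeparated (Red.geomFibre s N).hom := inferInstance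
    obtain ⟨n, hn, hnT⟩ := RankOne21.exists_weyl hred (TorPts21.isMaxTorus_of_isMaximalTorus hmax) hne
    obtain ⟨y, hy⟩ := ((RankOne21.isNormalizerOf_bc hN (Red.geomPt s)).2.2 _ n).2 hn
    refine ⟨Limits.pullback.fst N.hom (Red.geomPt s) (InvRing21.img y), fun hmem => ?_, ?_⟩
    · obtain ⟨a, ha⟩ := hmem
      obtain ⟨q, -, hq⟩ := Scheme.Pullback.exists_preimage_pullback (f := g.left)
        (g := Limits.pullback.fst N.hom (Red.geomPt s)) a (InvRing21.img y) ha
      obtain ⟨p, hp⟩ : ∃ p, ((P s).map g).left p = InvRing21.img y :=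
        ⟨(MTRigid29.isPullback_map_left (Red.geomPt s) g).isoPullback.inv q, by
          rw [← Scheme.Hom.comp_apply, (MTRigid29.isPullback_map_left (Red.geomPt s) g).isoPullback_inv_snd, hq]⟩
      obtain ⟨τ, hτ⟩ := RankOne21.exists_pt_of_img_mem ((P s).map g) y ⟨p, hp⟩ (RankOne21.isClosed_img y)
      exact hnT τ (by rw [← hy, ← hτ, Category.assoc, ← Functor.map_comp, hg])
    · rw [← Scheme.Hom.comp_apply, Limits.pullback.condition, Scheme.Hom.comp_apply]
      show Red.geomPt s _ = s
      rw [Subsingleton.elim (α := Spec (CommRingCat.of (AlgebraicClosure (S.residueField s))))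
        (Limits.pullback.snd N.hom (Red.geomPt s) (InvRing21.img y)) (IsLocalRing.closedPoint _)]
      exact CentMT21.geomPt_apply s

end Groth.Agent.RankOne21
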