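import Groth.Agent.Lib.RankOne21.RootKernel
import Groth.Agent.Lib.RankOne21.Elliptic
import Groth.Agent.Lib.RankOne21.Field

/-!
# Opposite weights in rank one
-/

set_option autoImplicit false
set_option linter.style.haveILetI false
set_option linter.unusedSectionVars false
set_option backward.isDefEq.respectTransparency.types false

universe u

open CategoryTheory Limits MonoidalCategory CartesianMonoidalCategory MonObj AlgebraicGeometry Polynomial

noncomputable section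

namespace Groth.Agent.RankOne21

open InvRing21 DiagGL TorPts21 BigCell21 BorelLam21 AttrBorel21

attribute [local instance] InvRing21.gamAlg BorelFix21.ptsTop

variable {k : Type u} [Field k] [IsAlgClosed k] {n d : ℕ} {G T : Over (Spec (CommRingCat.of k))}
  [GrpObj G] [GrpObj T] [IsAffine G.left] [Smooth G.hom]
  {iT : T ⟶ G} [IsMonHom iT] (C : Chars (Fin d → ℤ) T) {r : G ⟶ GLs k n} [IsMonHom r]
  [IsClosedImmersion r.left] {a : Fin n → Fin d → ℤ}
  (hdiag : ∀ (X : Over (Spec (CommRingCat.of k))) (x : X ⟶ T),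
    mat ((x ≫ iT) ≫ r) = Matrix.diagonal fun j => C.ch x (Multiplicative.ofAdd (a j)))

/-- The point of a curve at a parameter. -/
def cev (qX : VecGrp.pt k k[X] ⟶ G) (s : k) : VecGrp.pt k k ⟶ G := VecGrp.ptMap (Polynomial.aeval s) ≫ qX

/-- A curve on which the torus acts through a character. -/
def IsWtCurve (iT : T ⟶ G) (C : Chars (Fin d → ℤ) T) (e : Fin d → ℤ) (qX : VecGrp.pt k k[X] ⟶ G) : Prop :=
  ∀ (τ : VecGrp.pt k k ⟶ T) (s : k),
    (τ ≫ iT) * cev qX s * (τ ≫ iT)⁻¹ = cev qX (ptChr C τ (Multiplicative.ofAdd e) * s)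

theorem cev_entry (qX : VecGrp.pt k k[X] ⟶ G) (s : k) (i j : Fin n) :
    pmat r (cev qX s) i j = (pmat r qX i j).eval s := by
  rw [cev, pmat_comp_ptMap, Matrix.map_apply, Polynomial.coe_aeval_eq_eval]

include hdiag in
/-- Nonzero entries of a weight curve have weights a multiple of the weight of the curve. -/
theorem exists_nat_of_entry {e : Fin d → ℤ} {qX : VecGrp.pt k k[X] ⟶ G} (hq : IsWtCurve iT C e qX) {s : k}
    {i j : Fin n} (hne : pmat r (cev qX s) i j ≠ 0) : ∃ l : ℕ, a i - a j = (l : ℤ) • e := by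
  set P := pmat r qX i j with hP
  have hP0 : P ≠ 0 := fun h => hne (by rw [cev_entry, ← hP, h, Polynomial.eval_zero])
  obtain ⟨l, hl⟩ : ∃ l, P.coeff l ≠ 0 := by
    by_contra! h
    exact hP0 (Polynomial.ext fun m => by rw [h, Polynomial.coeff_zero])
  refine ⟨l, eq_sub_iff_add_eq.2 ?_ |>.symm⟩
  refine eq_of_ptChr_mul_eq (C := C) hl fun τ => ?_
  have h1 : Polynomial.C (ptChr C τ (Multiplicative.ofAdd (a j))) *
      P.comp (Polynomial.C (ptChr C τ (Multiplicative.ofAdd e)) * Polynomial.X) =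
      Polynomial.C (ptChr C τ (Multiplicative.ofAdd (a i))) * P := Polynomial.funext fun v => by
    have h2 := entry_conj C hdiag τ (cev qX v) (cev qX (ptChr C τ (Multiplicative.ofAdd e) * v))
      (by rw [← hq τ v, inv_mul_cancel_right]) i j
    rw [cev_entry, cev_entry] at h2
    rw [Polynomial.eval_mul, Polynomial.eval_mul, Polynomial.eval_comp, Polynomial.eval_C, Polynomial.eval_C,
      Polynomial.eval_mul, Polynomial.eval_C, Polynomial.eval_X, mul_comm, h2]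
  have h3 := congrArg (fun q => Polynomial.coeff q l) h1
  simp only [Polynomial.coeff_C_mul, Polynomial.comp_C_mul_X_coeff] at h3
  rw [ofAdd_add, map_mul, natCast_zsmul, ofAdd_nsmul, map_pow]
  linear_combination h3

include hdiag in
/-- A weight curve lies in the contracted points of every cocharacter of non-negative pairing. -/
theorem cev_mem_upPts {e : Fin d → ℤ} {qX : VecGrp.pt k k[X] ⟶ G} (hq : IsWtCurve iT C e qX) {b : Fin d → ℤ}
    (hb : 0 ≤ pairing e b) (s : k) : cev qX s ∈ upPts r (wt a b) := fun i j hij => by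
  show (mtxFn r (cev qX s) : Matrix (Fin n) (Fin n) k) i j = 0
  rw [coe_mtxFn_eq_pmat]
  by_contra hne
  obtain ⟨l, hl⟩ := exists_nat_of_entry C hdiag hq hne
  have h := congrArg (fun v => pairing v b) hl
  simp only [pairing_sub', pairing_zsmul'] at h
  have h2 : 0 ≤ (l : ℤ) * pairing e b := mul_nonneg (Int.natCast_nonneg l) hb
  simp only [wt] at hij
  omega

theorem hext_coords {U : Over (Spec (CommRingCat.of k))} [IsAffine U.left] (iU : U ⟶ G) {κ : Type}
    (p : κ → Fin n × Fin n)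
    (hsurj : Function.Surjective (MvPolynomial.aeval fun t => ent r iU (p t) : MvPolynomial κ k →ₐ[k] Γ(U.left, ⊤)))
    (x y : VecGrp.pt k k ⟶ U)
    (h : ∀ t, pmat r (x ≫ iU) (p t).1 (p t).2 = pmat r (y ≫ iU) (p t).1 (p t).2) : x = y := by
  have h1 : (val x).comp (MvPolynomial.aeval fun t => ent r iU (p t)) =
      (val y).comp (MvPolynomial.aeval fun t => ent r iU (p t)) := MvPolynomial.algHom_ext fun t => by
    simp only [AlgHom.comp_apply, MvPolynomial.aeval_X, val_ent]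
    exact h t
  refine Over.OverMorphism.ext (ext_of_isAffine (CommRingCat.hom_ext (RingHom.ext fun F => ?_)))
  refine InvRing21.ptHom_injective (k := k) k ?_
  obtain ⟨P, rfl⟩ := hsurj F
  exact AlgHom.congr_fun h1 P

include hdiag in
/-- The curve of a coordinate. -/
theorem exists_coord_curve {U : Over (Spec (CommRingCat.of k))} [GrpObj U] [IsAffine U.left] (iU : U ⟶ G)
    [IsMonHom iU] (hst : TStab iT iU) {κ : Type} (p : κ → Fin n × Fin n) (hne : ∀ t, (p t).1 ≠ (p t).2)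
    (hbij : Function.Bijective (MvPolynomial.aeval fun t => ent r iU (p t) :
      MvPolynomial κ k →ₐ[k] Γ(U.left, ⊤))) (t₀ : κ) :
    ∃ qX : VecGrp.pt k k[X] ⟶ G, IsWtCurve iT C (a (p t₀).1 - a (p t₀).2) qX ∧
      (∀ s, pmat r (cev qX s) (p t₀).1 (p t₀).2 = s) ∧ (∀ s, ∃ y, y ≫ iU = cev qX s) ∧
      ∀ y : VecGrp.pt k k ⟶ U, (∀ t, t ≠ t₀ → pmat r (y ≫ iU) (p t).1 (p t).2 = 0) →
        y ≫ iU = cev qX (pmat r (y ≫ iU) (p t₀).1 (p t₀).2) := by
  classical
  let e := AlgEquiv.ofBijective _ hbij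
  have he : ∀ t, e.symm (ent r iU (p t)) = MvPolynomial.X t := fun t => by
    rw [show ent r iU (p t) = e (MvPolynomial.X t) from (MvPolynomial.aeval_X (fun t => ent r iU (p t)) t).symm,
      AlgEquiv.symm_apply_apply]
  let ψ : Γ(U.left, ⊤) →ₐ[k] k[X] :=
    (MvPolynomial.aeval fun t => if t = t₀ then (Polynomial.X : k[X]) else 0).comp e.symm.toAlgHom
  let x₀ : VecGrp.pt k k[X] ⟶ U := VecGrp.ptMap ψ ≫ uPt U
  let yv : k → (VecGrp.pt k k ⟶ U) := fun s => VecGrp.ptMap (Polynomial.aeval s) ≫ x₀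
  have hcev : ∀ s, cev (x₀ ≫ iU) s = yv s ≫ iU := fun s => (Category.assoc _ _ _).symm
  have hyv : ∀ s t, pmat r (yv s ≫ iU) (p t).1 (p t).2 = if t = t₀ then s else 0 := fun s t => by
    rw [← val_ent, val_ptMap, AlgHom.comp_apply]
    have h1 : val x₀ (ent r iU (p t)) = if t = t₀ then (Polynomial.X : k[X]) else 0 := by
      show val (VecGrp.ptMap ψ ≫ uPt U) _ = _
      rw [val_ptMap, val_uPt]
      show MvPolynomial.aeval _ (e.symm (ent r iU (p t))) = _
      rw [he, MvPolynomial.aeval_X]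
    rw [h1]
    split_ifs <;> simp
  refine ⟨x₀ ≫ iU, fun τ s => ?_, fun s => ?_, fun s => ⟨yv s, (hcev s).symm⟩, fun y hy => ?_⟩
  · rw [hcev, hcev]
    obtain ⟨y', hy'⟩ := hst _ τ (yv s)
    rw [← hy']
    refine congrArg (· ≫ iU) (hext_coords iU p hbij.2 _ _ fun t => ?_)
    have h1 := entry_conj C hdiag τ (yv s ≫ iU) (y' ≫ iU) (by rw [hy', inv_mul_cancel_right]) (p t).1 (p t).2
    rw [hyv] at h1
    rw [hyv]
    have h4 : ptChr C τ (Multiplicative.ofAdd (a (p t).2)) ≠ 0 :=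
      ((Group.isUnit (Multiplicative.ofAdd (a (p t).2))).map (ptChr C τ)).ne_zero
    refine mul_right_cancel₀ h4 (h1.trans ?_)
    by_cases ht : t = t₀
    · subst ht
      rw [if_pos rfl, if_pos rfl, mul_right_comm, ← map_mul, ← ofAdd_add, sub_add_cancel]
    · rw [if_neg ht, if_neg ht, MulZeroClass.mul_zero, MulZeroClass.zero_mul]
  · rw [hcev, hyv, if_pos rfl]
  · rw [hcev]
    refine congrArg (· ≫ iU) (hext_coords iU p hbij.2 _ _ fun t => ?_)
    rw [hyv]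
    split_ifs with ht
    · rw [ht]
    · exact hy t ht

variable [ConnectedSpace G.left] (hG : Red.IsReductiveOver k G) (hT : AGF.IsMaxTorus iT)
  (α₀ : Fin d → ℤ) (hline : ∀ i j, mat r i j ≠ 0 → ∃ c : ℤ, a i - a j = c • α₀)

include hdiag hG hT hline in
set_option maxHeartbeats 1600000 in
/-- In rank one the two weights are opposite. -/
theorem exists_opposite_curves (hns : ¬ Red.IsSolvableGrp G) (hfin : topologicalKrullDim ↥G.left ≠ ⊤)
    (b : Fin d → ℤ)
    (hsep : ∀ i j, wt a b i = wt a b j → a i = a j) :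
    ∃ (ε : Fin d → ℤ) (qX qX' : VecGrp.pt k k[X] ⟶ G), 0 < pairing ε b ∧ IsWtCurve iT C ε qX ∧
      IsWtCurve iT C (-ε) qX' ∧ (cev qX' 0 = 1 ∧ ∃ i j, a i - a j = -ε ∧ pmat r (cev qX' 1) i j = 1) ∧
      ∀ x ∈ upPts₁ r (wt a b), x ≠ 1 → ∃ (s : k) (i j : Fin n), x = cev qX s ∧ a i - a j = ε ∧ pmat r x i j ≠ 0 := by
  classical
  haveI := hT.2.1
  obtain ⟨hTa, hTs, hTn, -⟩ := props_of_isTorus hT.2.2.1
  haveI := hTa; haveI := hTs
  haveI := isClosedImmersion_of_torus hT.2.2.1 iT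
  have key : ∀ (b : Fin d → ℤ), (∀ i j, wt a b i = wt a b j → a i = a j) →
      ∃ (ε : Fin d → ℤ) (qX : VecGrp.pt k k[X] ⟶ G) (i₀ j₀ : Fin n), a i₀ - a j₀ = ε ∧ 0 < pairing ε b ∧
        IsWtCurve iT C ε qX ∧ (∀ s, pmat r (cev qX s) i₀ j₀ = s) ∧
        (∀ x ∈ upPts₁ r (wt a b), x = cev qX (pmat r x i₀ j₀)) ∧
        ∀ x ∈ upPts r (wt a b), ∃ (σ : VecGrp.pt k k ⟶ T) (x₁ : VecGrp.pt k k ⟶ G),
          x₁ ∈ upPts₁ r (wt a b) ∧ x = (σ ≫ iT) * x₁ := fun b hsep => by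
    obtain ⟨U, _, iU, hUm, hUc, hUs, hUa, hU⟩ := exists_unip hdiag b (G := G) (r := r)
    haveI := hUm; haveI := hUc; haveI := hUs; haveI := hUa
    obtain ⟨κ, _, p, -, hp, hbij⟩ := exists_entry_coords hdiag b iU 1 (MonObj.one_comp iU)
      ((hU _ _).1 ⟨𝟙 _, Category.id_comp _⟩) (tStab_unip hdiag b iU hU)
    have hsep' : ∀ i j, wt a (-b) i = wt a (-b) j → a i = a j := fun i j h =>
      hsep i j (by rw [BigCell21.wt_neg] at h; exact neg_injective h)
    have hcard := card_le_one C hdiag hG hT α₀ hline (-b) hsep' iU (fun X x => by rw [neg_neg]; exact hU X x) p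
      (fun t => by rw [neg_neg]; exact hp t) hbij
    let Fr := frameOf C hdiag hG hT b hsep
    have hdec : ∀ x ∈ upPts r (wt a b), ∃ (σ : VecGrp.pt k k ⟶ T) (x₁ : VecGrp.pt k k ⟶ G),
        x₁ ∈ upPts₁ r (wt a b) ∧ x = (σ ≫ iT) * x₁ := fun x hx => Fr.exists_torus_mul (x := x) hx
    obtain ⟨t₀⟩ : Nonempty κ := by
      by_contra hκ
      rw [not_nonempty_iff] at hκ
      refine not_le_upPts C hdiag hG hT hns b hsep fun q hq => ?_
      obtain ⟨σ, x₁, hx₁, rfl⟩ := hdec q hq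
      obtain ⟨y, hy⟩ := (hU _ x₁).2 (unp_mat_of_up₁ hx₁)
      rw [← hy, hext_coords iU p hbij.2 y 1 fun t => isEmptyElim t, MonObj.one_comp, _root_.mul_one]
      exact torus_mem_upPts C (diag_pt C hdiag) (-b) σ _ rfl
    obtain ⟨qX, hq1, hq2, -, hq3⟩ := exists_coord_curve C hdiag iU (tStab_unip hdiag b iU hU) p
      (fun t h => (hp t).ne (by rw [h])) hbij t₀
    refine ⟨_, qX, _, _, rfl, ?_, hq1, hq2, fun x hx => ?_, hdec⟩
    · rw [pairing_sub']; exact sub_pos.2 (hp t₀)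
    · obtain ⟨y, hy⟩ := (hU _ x).2 (unp_mat_of_up₁ hx)
      rw [← hy]
      exact hq3 y fun t ht => absurd (Fintype.card_le_one_iff.1 hcard t t₀) ht
  have hsep' : ∀ i j, wt a (-b) i = wt a (-b) j → a i = a j := fun i j h =>
    hsep i j (by rw [BigCell21.wt_neg] at h; exact neg_injective h)
  obtain ⟨εp, qp, ip, jp, hεp, hpp, hqp, hsp, hallp, hdecp⟩ := key b hsep
  obtain ⟨εm, qm, im, jm, hεm, hpm, hqm, hsm, hallm, hdecm⟩ := key (-b) hsep'
  have hnegp : ∀ v : Fin d → ℤ, pairing v (-b) = -pairing v b := fun v => by simp [pairing]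
  rw [hnegp] at hpm
  have hdim : topologicalKrullDim ↥G.left ≠ topologicalKrullDim ↥T.left := fun hdim => by
    have hsurj : ∀ x : VecGrp.pt k k ⟶ G, ∃ y : VecGrp.pt k k ⟶ T, y ≫ iT = x := by
      have hr : Set.range iT.left = Set.univ := by
        by_contra hne
        haveI : IrreducibleSpace G.left := AbRigid.irreducibleSpace_of_isAlgClosed G
        have h1 := TopDimLib.dim_lt_of_closed_ssubset (X := ↥G.left) hfin _
          iT.left.isClosedEmbedding.isClosed_range hne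
        have h2 := (iT.left.isClosedEmbedding.isEmbedding.toHomeomorph).isInducing.topologicalKrullDim_le
        rw [hdim] at h1
        exact lt_irrefl _ (h1.trans_le h2)
      intro x
      haveI : IsSeparated G.hom := AbRigid.isSeparated_of_grpObj G
      haveI : LocallyOfFiniteType T.hom := inferInstance
      exact exists_pt_of_img_mem iT x (by rw [hr]; trivial) (isClosed_img _)
    obtain ⟨σ, hσ⟩ := hsurj (cev qp 1)
    have := hsp 1
    rw [← hσ, ← coe_mtxFn_eq_pmat, diag_pt C hdiag, Matrix.diagonal_apply_ne _ fun e => by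
      rw [← hεp, e, sub_self] at hpp; simp [pairing] at hpp] at this
    exact zero_ne_one this
  obtain ⟨w, hw, hwT⟩ := exists_weyl hG hT hdim
  have hwn : ∀ τ : VecGrp.pt k k ⟶ T, ∃ τ', w * (τ ≫ iT) * w⁻¹ = τ' ≫ iT ∧ True := fun τ => by
    obtain ⟨⟨τ', h⟩, -⟩ := hw _ (𝟙 _) τ
    exact ⟨τ', by rwa [Category.id_comp] at h, trivial⟩
  have hwn' : ∀ τ : VecGrp.pt k k ⟶ T, ∃ τ', w⁻¹ * (τ ≫ iT) * (w⁻¹)⁻¹ = τ' ≫ iT := fun τ => by
    obtain ⟨-, τ', h⟩ := hw _ (𝟙 _) τ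
    exact ⟨τ', by rw [inv_inv]; rwa [Category.id_comp] at h⟩
  obtain ⟨A, hA⟩ := exists_tAct iT C hT.2.2.1 w fun τ => ⟨_, (hwn τ).choose_spec.1⟩
  obtain ⟨A', hA'⟩ := exists_tAct iT C hT.2.2.1 w⁻¹ hwn'
  -- conjugates of curves
  let conj : (VecGrp.pt k k ⟶ G) → (VecGrp.pt k k[X] ⟶ G) → (VecGrp.pt k k[X] ⟶ G) := fun g qX =>
    (InvRing21.toPt (VecGrp.pt k k[X]) ≫ g) * qX * (InvRing21.toPt (VecGrp.pt k k[X]) ≫ g)⁻¹
  have hconj : ∀ g qX s, cev (conj g qX) s = g * cev qX s * g⁻¹ := fun g qX s => by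
    simp only [cev, conj, MonObj.comp_mul, GrpObj.comp_inv, ← Category.assoc, InvRing21.comp_toPt,
      InvRing21.toPt_pt, Category.id_comp]
  have hwt : ∀ {g : VecGrp.pt k k ⟶ G} {Ag Bg : (Fin d → ℤ) →+ (Fin d → ℤ)} {ε qX}, TAct iT C g Ag →
      TAct iT C g⁻¹ Bg → IsWtCurve iT C ε qX → IsWtCurve iT C (Bg ε) (conj g qX) :=
    fun {g Ag Bg ε qX} hAg hBg hq τ s => by
      obtain ⟨τ', h', he'⟩ := hBg τ
      rw [inv_inv] at h'
      rw [hconj, hconj, ← he', ← hq τ' s, ← h']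
      group
  -- the sign of the image of a positive weight
  have himage : ∀ (w : VecGrp.pt k k ⟶ G) (A A' : (Fin d → ℤ) →+ (Fin d → ℤ)), TAct iT C w A → TAct iT C w⁻¹ A' →
      (∀ y : VecGrp.pt k k ⟶ T, y ≫ iT ≠ w) → ∀ (b : Fin d → ℤ), (∀ i j, wt a b i = wt a b j → a i = a j) →
      ∀ (ε : Fin d → ℤ) (qX : VecGrp.pt k k[X] ⟶ G) (i₀ j₀ : Fin n), 0 < pairing ε b → IsWtCurve iT C ε qX →
        (∀ s, pmat r (cev qX s) i₀ j₀ = s) → (∀ x ∈ upPts₁ r (wt a b), x = cev qX (pmat r x i₀ j₀)) →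
        a i₀ - a j₀ = ε →
        (∀ x ∈ upPts r (wt a b), ∃ (σ : VecGrp.pt k k ⟶ T) (x₁ : VecGrp.pt k k ⟶ G),
          x₁ ∈ upPts₁ r (wt a b) ∧ x = (σ ≫ iT) * x₁) →
        pairing (A' ε) b < 0 := by
    intro w A A' hA hA' hwT b hsep ε qX i₀ j₀ hpos hq hs hall hε hdec
    have hwn : ∀ τ : VecGrp.pt k k ⟶ T, ∃ τ', w * (τ ≫ iT) * w⁻¹ = τ' ≫ iT ∧ True := fun τ => by
      obtain ⟨τ', h, -⟩ := hA τ
      exact ⟨τ', h, trivial⟩
    have hwn' : ∀ τ : VecGrp.pt k k ⟶ T, ∃ τ', w⁻¹ * (τ ≫ iT) * (w⁻¹)⁻¹ = τ' ≫ iT := fun τ => by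
      obtain ⟨τ', h, -⟩ := hA' τ
      exact ⟨τ', h⟩
    by_contra hle
    obtain ⟨B, _, iB, hB, hBp⟩ := exists_upBorel C hG hT (diag_pt C hdiag) hsep
    obtain ⟨y, hy⟩ := exists_pt_borel_of_normalize hB w fun z => by
      obtain ⟨σ, x₁, hx₁, hz⟩ := hdec _ ((hBp _).1 ⟨z, rfl⟩)
      obtain ⟨σ', hσ', -⟩ := hwn σ
      obtain ⟨z', hz'⟩ := (hBp (w * (z ≫ iB) * w⁻¹)).2 (by
        rw [hz, show w * ((σ ≫ iT) * x₁) * w⁻¹ = (w * (σ ≫ iT) * w⁻¹) * (w * x₁ * w⁻¹) by group, hσ']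
        refine mul_mem (torus_mem_upPts C (diag_pt C hdiag) b σ' _ rfl) ?_
        rw [hall _ hx₁, ← hconj]
        exact cev_mem_upPts C hdiag (hwt hA hA' hq) (not_lt.1 hle) _)
      exact ⟨z', hz'.symm⟩
    obtain ⟨σ, x₁, hx₁, hx⟩ := hdec w ((hBp w).1 ⟨y, hy⟩)
    -- the unipotent part normalises the torus, hence is trivial
    have hx1 : pmat r x₁ i₀ j₀ = 0 := by
      by_contra hne
      have hpair : ε ≠ 0 := fun e => by rw [e] at hpos; simp [pairing] at hpos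
      obtain ⟨p₀, hp₀⟩ : ∃ p₀, ε p₀ ≠ 0 := by
        by_contra! h
        exact hpair (funext h)
      refine hp₀ (BorelLam21.eq_zero_of_zpow (k := k) fun u => ?_)
      obtain ⟨τ, hτ⟩ := exists_cochar_pt C (Pi.single p₀ 1) u
      obtain ⟨τ', hτ'⟩ : ∃ τ', x₁⁻¹ * (τ ≫ iT) * x₁ = τ' ≫ iT := by
        obtain ⟨τ₁, h1⟩ := hwn' ((σ * τ) * σ⁻¹)
        refine ⟨τ₁, ?_⟩
        rw [← h1, hx, MonObj.mul_comp, MonObj.mul_comp, GrpObj.inv_comp]
        group
      have hτ2 : τ' = τ := by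
        refine (cancel_mono iT).1 (mtxFn_injective r (Units.ext ?_))
        rw [diag_pt C hdiag, diag_pt C hdiag]
        refine congrArg Matrix.diagonal (funext fun l => ?_)
        have h2 : x₁ * (τ' ≫ iT) = (τ ≫ iT) * x₁ := by rw [← hτ']; group
        have h3 := congrArg (pmat r) h2
        rw [pmat_mul, pmat_mul, ← coe_mtxFn_eq_pmat r (τ' ≫ iT), ← coe_mtxFn_eq_pmat r (τ ≫ iT), diag_pt C hdiag,
          diag_pt C hdiag] at h3
        have h4 := congrFun (congrFun h3 l) l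
        rw [Matrix.mul_diagonal, Matrix.diagonal_mul, ← coe_mtxFn_eq_pmat,
          show (mtxFn r x₁ : Matrix (Fin n) (Fin n) k) l l = 1 by rw [hx₁.2 l l rfl, Matrix.one_apply_eq],
          _root_.one_mul, _root_.mul_one] at h4
        exact h4
      rw [hτ2] at hτ'
      have h5 := entry_conj C hdiag τ x₁ x₁ (by
        calc x₁ * (τ ≫ iT) = x₁ * (x₁⁻¹ * (τ ≫ iT) * x₁) := by rw [hτ']
          _ = _ := by group) i₀ j₀
      rw [mul_comm] at h5
      have h6 := mul_right_cancel₀ hne h5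
      rw [show a i₀ = ε + a j₀ by rw [← hε, sub_add_cancel], ofAdd_add, map_mul] at h6
      have h7 : ptChr C τ (Multiplicative.ofAdd ε) = 1 := by
        refine mul_right_cancel₀ ((Group.isUnit (Multiplicative.ofAdd (a j₀))).map (ptChr C τ)).ne_zero ?_
        rw [_root_.one_mul, ← h6]
      rw [hτ] at h7
      refine Units.ext ?_
      rw [Units.val_one, ← h7]
      simp [pairing, Pi.single_apply]
    have hw1 : x₁ = 1 := by
      have h := hall 1 (one_mem _)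
      rw [pmat_one, Matrix.one_apply_ne fun e => by rw [← hε, e, sub_self] at hpos; simp [pairing] at hpos] at h
      rw [hall x₁ hx₁, hx1]
      exact h.symm
    exact hwT σ (by rw [hx, hw1, _root_.mul_one])
  have hwT' : ∀ y : VecGrp.pt k k ⟶ T, y ≫ iT ≠ w⁻¹ := fun y e => hwT y⁻¹ (by rw [GrpObj.inv_comp, e, inv_inv])
  have hA2 : TAct iT C (w⁻¹)⁻¹ A := by rw [inv_inv]; exact hA
  have hAp : pairing (A' εp) b < 0 := himage w A A' hA hA' hwT b hsep εp qp ip jp hpp hqp hsp hallp hεp hdecp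
  have hAm : pairing (A εm) (-b) < 0 :=
    himage w⁻¹ A' A hA' hA2 hwT' (-b) hsep' εm qm im jm (by rw [hnegp]; exact hpm) hqm hsm hallm hεm hdecm
  rw [hnegp] at hAm
  -- a conjugate curve meets the coordinate of the other side
  have hmeet : ∀ (w : VecGrp.pt k k ⟶ G) (A A' : (Fin d → ℤ) →+ (Fin d → ℤ)), TAct iT C w A → TAct iT C w⁻¹ A' →
      ∀ (b : Fin d → ℤ) (ε₁ : Fin d → ℤ) (q₁ : VecGrp.pt k k[X] ⟶ G) (i₁ j₁ : Fin n) (ε₂ : Fin d → ℤ)
      (q₂ : VecGrp.pt k k[X] ⟶ G) (i₂ j₂ : Fin n), IsWtCurve iT C ε₁ q₁ → (∀ s, pmat r (cev q₁ s) i₁ j₁ = s) →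
      a i₁ - a j₁ = ε₁ → a i₂ - a j₂ = ε₂ → ε₁ ≠ 0 →
      (∀ x ∈ upPts₁ r (wt a b), x = cev q₂ (pmat r x i₂ j₂)) → (∀ s, pmat r (cev q₂ s) i₂ j₂ = s) →
      (∀ x ∈ upPts r (wt a b), ∃ (σ : VecGrp.pt k k ⟶ T) (x₁ : VecGrp.pt k k ⟶ G),
          x₁ ∈ upPts₁ r (wt a b) ∧ x = (σ ≫ iT) * x₁) →
      0 ≤ pairing (A' ε₁) b → ∃ l : ℕ, ε₂ = (l : ℤ) • A' ε₁ := by
    intro w A A' hA hA' b ε₁ q₁ i₁ j₁ ε₂ q₂ i₂ j₂ hq hs1 he1 he2 hne hall hs2 hdec hpos
    obtain ⟨σ, x₁, hx₁, hx⟩ := hdec _ (cev_mem_upPts C hdiag (hwt hA hA' hq) hpos 1)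
    have hx1 : pmat r x₁ i₂ j₂ ≠ 0 := fun h0 => by
      have h1 : x₁ = 1 := by
        rw [hall x₁ hx₁, h0]
        have := hall 1 (one_mem _)
        rw [pmat_one] at this
        by_cases e : i₂ = j₂
        · have h3 := congrArg (fun M => M i₂ j₂) (show pmat r x₁ = pmat r x₁ from rfl)
          rw [e] at h0
          rw [← coe_mtxFn_eq_pmat, hx₁.2 j₂ j₂ rfl, Matrix.one_apply_eq] at h0
          exact absurd h0 one_ne_zero
        · rw [Matrix.one_apply_ne e] at this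
          exact this.symm
      rw [h1, _root_.mul_one, hconj] at hx
      obtain ⟨σ', hσ', -⟩ := hA' σ
      have h2 : cev q₁ 1 = σ' ≫ iT := by
        rw [← hσ', ← hx]
        group
      have h3 := hs1 1
      rw [h2, ← coe_mtxFn_eq_pmat, diag_pt C hdiag, Matrix.diagonal_apply_ne _ fun e => hne (by
        rw [← he1, e, sub_self])] at h3
      exact zero_ne_one h3
    have h2 : pmat r (cev (conj w q₁) 1) i₂ j₂ ≠ 0 := by
      rw [hx, pmat_mul, ← coe_mtxFn_eq_pmat r (σ ≫ iT), diag_pt C hdiag, Matrix.diagonal_mul]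
      exact mul_ne_zero ((Group.isUnit (Multiplicative.ofAdd (a i₂))).map (ptChr C σ)).ne_zero hx1
    obtain ⟨l, hl⟩ := exists_nat_of_entry C hdiag (hwt hA hA' hq) h2
    exact ⟨l, he2.symm.trans hl⟩
  have hne_p : εp ≠ 0 := fun e => by rw [e] at hpp; simp [pairing] at hpp
  have hne_m : εm ≠ 0 := fun e => by rw [e] at hpm; simp [pairing] at hpm
  obtain ⟨l, hl⟩ := hmeet w A A' hA hA' (-b) εp qp ip jp εm qm im jm hqp hsp hεp hεm hne_p hallm hsm hdecm
    (by rw [hnegp]; omega)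
  obtain ⟨l', hl'⟩ := hmeet w⁻¹ A' A hA' hA2 b εm qm im jm εp qp ip jp hqm hsm hεm hεp hne_m hallp hsp hdecp (by omega)
  have hinv : ∀ z, A' (A z) = z := fun z => by
    have h1 := hA.mul iT C hA'
    rw [mul_inv_cancel] at h1
    exact DFunLike.congr_fun (h1.unique iT C (tAct_one iT C)) z
  have hl1 : (l : ℤ) = 1 := by
    have h1 : εm = ((l : ℤ) * (l' : ℤ)) • εm := by
      conv_lhs => rw [hl, hl', map_zsmul, hinv, smul_smul]
    obtain ⟨p₀, hp₀⟩ : ∃ p₀, εm p₀ ≠ 0 := by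
      by_contra! h
      exact hne_m (funext h)
    have h2 := congrFun h1 p₀
    simp only [Pi.smul_apply, smul_eq_mul] at h2
    have h3 : (l : ℤ) * (l' : ℤ) = 1 := (mul_right_cancel₀ hp₀ (h2.symm.trans (_root_.one_mul _).symm))
    exact Int.eq_one_of_mul_eq_one_right (Int.natCast_nonneg _) h3
  have hl'1 : (l' : ℤ) = 1 := by
    have h1 : εp = ((l' : ℤ) * (l : ℤ)) • εp := by
      have hinv' : ∀ z, A (A' z) = z := fun z => by
        have h1 := hA'.mul iT C hA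
        rw [inv_mul_cancel] at h1
        exact DFunLike.congr_fun (h1.unique iT C (tAct_one iT C)) z
      conv_lhs => rw [hl', hl, map_zsmul, hinv', smul_smul]
    rw [hl1, _root_.mul_one] at h1
    obtain ⟨p₀, hp₀⟩ : ∃ p₀, εp p₀ ≠ 0 := by
      by_contra! h
      exact hne_p (funext h)
    have h2 := congrFun h1 p₀
    simp only [Pi.smul_apply, smul_eq_mul] at h2
    exact mul_right_cancel₀ hp₀ (h2.symm.trans (_root_.one_mul _).symm)
  rw [hl1, one_smul] at hl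
  rw [hl'1, one_smul] at hl'
  obtain ⟨c₁, hc₁⟩ := hline ip jp fun h0 => by
    have := hsp 1
    rw [pmat_apply, h0, map_zero] at this
    exact zero_ne_one this
  obtain ⟨c₂, hc₂⟩ := hline im jm fun h0 => by
    have := hsm 1
    rw [pmat_apply, h0, map_zero] at this
    exact zero_ne_one this
  rw [hεp] at hc₁
  rw [hεm] at hc₂
  obtain ⟨p₀, hp₀⟩ : ∃ p₀, α₀ p₀ ≠ 0 := by
    by_contra! h
    exact hne_p (by rw [hc₁, funext h]; exact smul_zero _)
  have hAm' : pairing (A' εm) (-b) < 0 :=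
    himage w A A' hA hA' hwT (-b) hsep' εm qm im jm (by rw [hnegp]; exact hpm) hqm hsm hallm hεm hdecm
  have hAp' : pairing (A εp) b < 0 := himage w⁻¹ A' A hA' hA2 hwT' b hsep εp qp ip jp hpp hqp hsp hallp hεp hdecp
  rw [hnegp] at hAm'
  obtain ⟨m, hm⟩ := hmeet w A A' hA hA' b εm qm im jm εp qp ip jp hqm hsm hεm hεp hne_m hallp hsp hdecp (by omega)
  obtain ⟨m', hm'⟩ := hmeet w⁻¹ A' A hA' hA2 (-b) εp qp ip jp εm qm im jm hqp hsp hεp hεm hne_p hallm hsm hdecm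
    (by rw [hnegp]; omega)
  have hc : c₁ • εm = c₂ • εp := by rw [hc₁, hc₂, smul_comm]
  have hm1 : (c₁ * c₁ : ℤ) = (m : ℤ) * (c₂ * c₂) := by
    have h2 := congrArg (fun z => (m : ℤ) • A' z) hc
    simp only [map_zsmul, ← hl] at h2
    rw [smul_comm, ← hm, hc₁, hc₂, smul_smul, smul_smul, smul_smul] at h2
    have h5 := congrFun h2 p₀
    simp only [Pi.smul_apply, smul_eq_mul] at h5
    exact mul_right_cancel₀ hp₀ (by linear_combination h5)
  have hm2 : (c₂ * c₂ : ℤ) = (m' : ℤ) * (c₁ * c₁) := by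
    have h2 := congrArg (fun z => (m' : ℤ) • A z) hc.symm
    simp only [map_zsmul, ← hl'] at h2
    rw [smul_comm, ← hm', hc₁, hc₂, smul_smul, smul_smul, smul_smul] at h2
    have h5 := congrFun h2 p₀
    simp only [Pi.smul_apply, smul_eq_mul] at h5
    exact mul_right_cancel₀ hp₀ (by linear_combination h5)
  have hc₁0 : c₁ ≠ 0 := fun e => hne_p (by rw [hc₁, e]; exact zero_smul _ _)
  have h3 : c₁ * c₁ = c₂ * c₂ := by
    have h4 : ((m : ℤ) * m') = 1 := mul_right_cancel₀ (mul_ne_zero hc₁0 hc₁0) (by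
      rw [_root_.one_mul, _root_.mul_assoc, ← hm2, ← hm1])
    rw [hm1, Int.eq_one_of_mul_eq_one_right (Int.natCast_nonneg _) h4, _root_.one_mul]
  have hεneg : -εp = εm := by
    rcases mul_self_eq_mul_self_iff.1 h3 with h | h
    · exfalso
      rw [hc₁, pairing_zsmul', h] at hpp
      rw [hc₂, pairing_zsmul'] at hpm
      omega
    · rw [hc₁, hc₂, h, neg_smul, neg_neg]
  refine ⟨εp, qp, qm, hpp, hqp, hεneg ▸ hqm, ⟨?_, im, jm, hεm.trans hεneg.symm, hsm 1⟩, fun x hx hx1 => ?_⟩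
  · have := hallm 1 (one_mem _)
    rw [pmat_one, Matrix.one_apply_ne fun e => hne_m (by rw [← hεm, e, sub_self])] at this
    exact this.symm
  · refine ⟨pmat r x ip jp, ip, jp, hallp x hx, hεp, fun h0 => hx1 ?_⟩
    rw [hallp x hx, h0]
    have := hallp 1 (one_mem _)
    rw [pmat_one, Matrix.one_apply_ne fun e => hne_p (by rw [← hεp, e, sub_self])] at this
    exact this.symm

end Groth.Agent.RankOne21
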