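import Groth.Agent.Lib.RankOne21.TwoBorels
import Groth.Agent.Lib.AttrBorel21.SplitData
import Groth.Agent.Lib.AttrBorel21.GeomBC
import Groth.Agent.Lib.MTRigid29.SplitHom

/-!
# Roots of a split maximal torus
-/

set_option autoImplicit false
set_option linter.style.haveILetI false
set_option linter.unusedSectionVars false
set_option backward.isDefEq.respectTransparency.types false

universe u

open CategoryTheory Limits MonoidalCategory CartesianMonoidalCategory MonObj AlgebraicGeometry

noncomputable section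

namespace Groth.Agent.RankOne21

open InvRing21 DiagGL TorPts21 BigCell21 BorelLam21 AttrBorel21

attribute [local instance] InvRing21.gamAlg BorelFix21.ptsTop

variable {k : Type u} [Field k]

/-- Character coordinates of a split torus which becomes a torus over an algebraically closed field. -/
theorem exists_chars_of_split (K : Type u) [Field K] [IsAlgClosed K] [Algebra k K]
    {T : Over (Spec (CommRingCat.of k))} [GrpObj T] {M : Type} [AddCommGroup M]
    (hM : Red.IsSplitTorusWith M T) (hTK : Red.IsTorus (bcK K T)) :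
    ∃ d : ℕ, Nonempty (Chars (Fin d → ℤ) T) := by
  obtain ⟨E⟩ := hM
  let C₀ : Chars M T := (charsDS (Spec (CommRingCat.of k)) M).transport E
  obtain ⟨d, ⟨CN⟩⟩ := exists_chars hTK
  let CM : Chars M (bcK K T) := C₀.baseChange (DiagGL.ext' (k := k) K) T
  haveI : AddGroup.FG (Fin d → ℤ) := inferInstance
  obtain ⟨f, hf, φ, hφ⟩ := MTRigid29.exists_local_mapChar (R := K) CM CN (u := 𝟙 (bcK K T))
    (IsLocalRing.closedPoint K)
  have hu : IsUnit f := by
    by_contra h
    exact hf ((IsLocalRing.mem_maximalIdeal f).2 h)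
  have hid : MTRigid29.mapChar CM CN φ = 𝟙 (bcK K T) := by
    have h := hφ (bcK K T) (hu.map _) (𝟙 _)
    rw [Category.id_comp, Category.id_comp] at h
    exact h.symm
  haveI : Mono (MTRigid29.mapChar CM CN φ) := hid.symm ▸ inferInstance
  haveI : Epi (MTRigid29.mapChar CM CN φ) := hid.symm ▸ inferInstance
  let e : (Fin d → ℤ) ≃+ M := AddEquiv.ofBijective φ
    ⟨MTRigid29.injective_of_epi CM CN, MTRigid29.surjective_of_mono CM CN⟩
  exact ⟨d, ⟨{
    ch := fun x => (C₀.ch x).comp (AddMonoidHom.toMultiplicative e.toAddMonoidHom)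
    nat := fun t x m => C₀.nat t x _
    mul := fun x y m => C₀.mul x y _
    inj := fun {X x y} h => C₀.inj fun m => by
      have h1 := h (Multiplicative.ofAdd (e.symm m.toAdd))
      simp only [MonoidHom.comp_apply] at h1
      simpa using h1
    surj := fun {X} c => by
      obtain ⟨x, hx⟩ := C₀.surj (T := X) (c.comp (AddMonoidHom.toMultiplicative e.symm.toAddMonoidHom))
      refine ⟨x, MonoidHom.ext fun m => ?_⟩
      simp [hx] }⟩⟩

/-- A split maximal torus of a non-solvable reductive group has a root. -/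
theorem exists_root (K : Type u) [Field K] [IsAlgClosed K] [Algebra k K] {d : ℕ}
    {G T : Over (Spec (CommRingCat.of k))} [GrpObj G] [GrpObj T] [IsAffine G.left] [Smooth G.hom]
    (iT : T ⟶ G) [IsMonHom iT] (C : Chars (Fin d → ℤ) T) (hns : ¬ Red.IsSolvableGrp G)
    (hG : Red.IsReductiveOver K (bcK K G)) (hT : AGF.IsMaxTorus (bcMap K iT)) :
    ∃ α : T ⟶ Red.Gm (Spec (CommRingCat.of k)), LieWt.IsRoot iT α := by
  classical
  obtain ⟨n, r, hr, hrc, a, hdiag⟩ := exists_diagRep C iT
  haveI := hr
  haveI := hrc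
  obtain ⟨b, hb⟩ := exists_pairing_ne_zero
    ((Finset.univ.image fun p : Fin n × Fin n => a p.1 - a p.2).filter (· ≠ 0)) fun v hv => (Finset.mem_filter.1 hv).2
  have hsep : ∀ p q, wt a b p = wt a b q → a p = a q := fun p q h => by
    by_contra hne
    refine hb (a p - a q) (Finset.mem_filter.2 ⟨Finset.mem_image.2 ⟨(p, q), Finset.mem_univ _, rfl⟩,
      sub_ne_zero.2 hne⟩) ?_
    rw [pairing_sub']
    exact sub_eq_zero.2 h
  obtain ⟨U, _, iU, hUm, hUc, hUs, hUa, hU⟩ := exists_unip hdiag b (G := G) (r := r)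
  haveI := hUm; haveI := hUc; haveI := hUs; haveI := hUa
  obtain ⟨κ, _, p, -, hp, hbij⟩ := exists_entry_coords hdiag b iU 1 (MonObj.one_comp iU)
    ((hU _ _).1 ⟨𝟙 _, Category.id_comp _⟩) (tStab_unip hdiag b iU hU)
  rcases isEmpty_or_nonempty κ with hκ | ⟨⟨t⟩⟩
  swap
  · obtain ⟨α, hα, -⟩ := exists_isRoot_of_coord C hdiag iU (tStab_unip hdiag b iU hU) p
      (fun t h => (hp t).ne (by rw [h])) hbij t fun h0 => by
        have := hp t
        simp only [wt, sub_eq_zero.1 h0] at this
        exact lt_irrefl _ this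
    exact ⟨α, hα⟩
  · exfalso
    have hU1 : ∀ (y : VecGrp.pt k K ⟶ U), y = 1 := fun y => by
      have h1 : (val y).comp (MvPolynomial.aeval fun t => ent r iU (p t)) =
          (val (1 : VecGrp.pt k K ⟶ U)).comp (MvPolynomial.aeval fun t => ent r iU (p t)) :=
        MvPolynomial.algHom_ext fun t => isEmptyElim t
      refine Over.OverMorphism.ext (ext_of_isAffine (CommRingCat.hom_ext (RingHom.ext fun F => ?_)))
      refine InvRing21.ptHom_injective (k := k) K ?_
      obtain ⟨P, rfl⟩ := hbij.2 F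
      exact AlgHom.congr_fun h1 P
    haveI : IsAffine (bcK K G).left := hG.1
    haveI : Smooth (bcK K G).hom := hG.2.1
    haveI : ConnectedSpace (bcK K G).left := hG.2.2.1
    haveI := hT.1
    obtain ⟨rK, hrKm, hrKc, hrK⟩ := exists_bcRep (K := K) r
    haveI := hrKm
    haveI := hrKc
    let CK := C.baseChange (DiagGL.ext' (k := k) K) T
    have hdiagK : ∀ (X : Over (Spec (CommRingCat.of K))) (x : X ⟶ bcK K T),
        mat ((x ≫ bcMap K iT) ≫ rK) = Matrix.diagonal fun j => CK.ch x (Multiplicative.ofAdd (a j)) := fun X x => by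
      rw [hrK, DiagGL.fl_comp_map, hdiag]
      rfl
    refine not_le_upPts CK hdiagK hG hT (fun h => hns (AttrBorel21.isSolvableGrp_of_bc _ h)) b hsep fun q hq => ?_
    obtain ⟨σ, x₁, hx₁, e⟩ := (frameOf CK hdiagK hG hT b hsep).exists_torus_mul (x := q) hq
    obtain ⟨v, rfl⟩ := exists_toK x₁
    have h2 : Unp (wt a b) (mat (toK v ≫ rK)) := unp_mat_of_up₁ (r := rK) (w := wt a b) hx₁
    have hmat : mat (toK v ≫ rK) = (mat (v ≫ r)).map (ptIso (k := k) K).hom.left.appTop := by
      rw [hrK, fl_toK, Category.assoc, mat_comp]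
    have hinj : Function.Injective (ptIso (k := k) K).hom.left.appTop := by
      intro p' q' h
      simpa [ptIso] using h
    rw [hmat] at h2
    have hv : Unp (wt a b) (mat (v ≫ r)) := by
      refine ⟨fun i j hij => hinj ?_, Matrix.map_injective hinj ?_⟩
      · rw [map_zero, ← h2.1 i j hij, Matrix.map_apply]
      · beta_reduce
        rw [← blkDiag_map, h2.2, Matrix.map_one _ (map_zero _) (map_one _)]
    obtain ⟨y, hy⟩ := (hU _ v).2 hv
    rw [hU1 y, MonObj.one_comp, ← MonObj.one_comp iT] at hy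
    have e' : q = (σ ≫ bcMap K iT) * (toK (1 : VecGrp.pt k K ⟶ T) ≫ bcMap K iT) := by
      rw [← toK_comp, hy]
      exact e
    rw [e']
    exact mul_mem (torus_mem_upPts CK (diag_pt CK hdiagK) (-b) σ _ rfl)
      (torus_mem_upPts CK (diag_pt CK hdiagK) (-b) (toK (1 : VecGrp.pt k K ⟶ T)) _ rfl)

end Groth.Agent.RankOne21
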