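import Groth.Agent.Lib.RankOne21.Opp
import Groth.Agent.Lib.RankOne21.SplitRoot
import Groth.Agent.Lib.TorPts21.GeomIso
import Groth.Agent.Lib.TorPts21.FieldDescent

/-!
# Proportional weights of a reductive group
-/

set_option autoImplicit false
set_option linter.style.haveILetI false
set_option linter.unusedSectionVars false
set_option backward.isDefEq.respectTransparency.types false

universe u

open CategoryTheory Limits MonoidalCategory CartesianMonoidalCategory MonObj AlgebraicGeometry Polynomial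

noncomputable section

namespace Groth.Agent.RankOne21

open InvRing21 DiagGL TorPts21 BigCell21 BorelLam21 AttrBorel21

attribute [local instance] InvRing21.gamAlg BorelFix21.ptsTop

variable {k : Type u} [Field k] [IsAlgClosed k] {n d : ℕ} {G T : Over (Spec (CommRingCat.of k))}
  [GrpObj G] [GrpObj T] [IsAffine G.left] [Smooth G.hom]
  {iT : T ⟶ G} [IsMonHom iT] (C : Chars (Fin d → ℤ) T) {r : G ⟶ GLs k n} [IsMonHom r]
  [IsClosedImmersion r.left] {a : Fin n → Fin d → ℤ}
  (hdiag : ∀ (X : Over (Spec (CommRingCat.of k))) (x : X ⟶ T),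
    mat ((x ≫ iT) ≫ r) = Matrix.diagonal fun j => C.ch x (Multiplicative.ofAdd (a j)))

/-- A polynomial family of points on which the torus acts through a character. -/
structure IsWtFam (iT : T ⟶ G) (C : Chars (Fin d → ℤ) T) (r : G ⟶ GLs k n) (e : Fin d → ℤ)
    (x : k → (VecGrp.pt k k ⟶ G)) (P : Fin n → Fin n → k[X]) : Prop where
  eval : ∀ s i j, pmat r (x s) i j = (P i j).eval s
  zero : x 0 = 1
  act : ∀ (τ : VecGrp.pt k k ⟶ T) (s : k),
    (τ ≫ iT) * x s * (τ ≫ iT)⁻¹ = x (ptChr C τ (Multiplicative.ofAdd e) * s)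

include hdiag in
theorem IsWtFam.weight_coeff {e : Fin d → ℤ} {x : k → (VecGrp.pt k k ⟶ G)} {P : Fin n → Fin n → k[X]}
    (h : IsWtFam iT C r e x P) {i j : Fin n} {l : ℕ} (hl : (P i j).coeff l ≠ 0) :
    a i - a j = (l : ℤ) • e := by
  refine (eq_sub_iff_add_eq.2 ?_).symm
  refine eq_of_ptChr_mul_eq (C := C) hl fun τ => ?_
  have h1 : Polynomial.C (ptChr C τ (Multiplicative.ofAdd (a j))) *
      (P i j).comp (Polynomial.C (ptChr C τ (Multiplicative.ofAdd e)) * Polynomial.X) =
      Polynomial.C (ptChr C τ (Multiplicative.ofAdd (a i))) * P i j := Polynomial.funext fun v => by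
    have h2 := entry_conj C hdiag τ (x v) (x (ptChr C τ (Multiplicative.ofAdd e) * v))
      (by rw [← h.act τ v, inv_mul_cancel_right]) i j
    rw [h.eval, h.eval] at h2
    rw [Polynomial.eval_mul, Polynomial.eval_mul, Polynomial.eval_comp, Polynomial.eval_C, Polynomial.eval_C,
      Polynomial.eval_mul, Polynomial.eval_C, Polynomial.eval_X, mul_comm, h2]
  have h3 := congrArg (fun q => Polynomial.coeff q l) h1
  simp only [Polynomial.coeff_C_mul, Polynomial.comp_C_mul_X_coeff] at h3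
  rw [ofAdd_add, map_mul, natCast_zsmul, ofAdd_nsmul, map_pow]
  linear_combination h3

include hdiag in
theorem coeff_weight {e : Fin d → ℤ} {qX : VecGrp.pt k k[X] ⟶ G} (hq : IsWtCurve iT C e qX) {i j : Fin n} {l : ℕ}
    (hl : (pmat r qX i j).coeff l ≠ 0) : a i - a j = (l : ℤ) • e := by
  refine (eq_sub_iff_add_eq.2 ?_).symm
  refine eq_of_ptChr_mul_eq (C := C) hl fun τ => ?_
  have h1 : Polynomial.C (ptChr C τ (Multiplicative.ofAdd (a j))) *
      (pmat r qX i j).comp (Polynomial.C (ptChr C τ (Multiplicative.ofAdd e)) * Polynomial.X) =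
      Polynomial.C (ptChr C τ (Multiplicative.ofAdd (a i))) * pmat r qX i j := Polynomial.funext fun v => by
    have h2 := entry_conj C hdiag τ (cev qX v) (cev qX (ptChr C τ (Multiplicative.ofAdd e) * v))
      (by rw [← hq τ v, inv_mul_cancel_right]) i j
    rw [cev_entry, cev_entry] at h2
    rw [Polynomial.eval_mul, Polynomial.eval_mul, Polynomial.eval_comp, Polynomial.eval_C, Polynomial.eval_C,
      Polynomial.eval_mul, Polynomial.eval_C, Polynomial.eval_X, mul_comm, h2]
  have h3 := congrArg (fun q => Polynomial.coeff q l) h1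
  simp only [Polynomial.coeff_C_mul, Polynomial.comp_C_mul_X_coeff] at h3
  rw [ofAdd_add, map_mul, natCast_zsmul, ofAdd_nsmul, map_pow]
  linear_combination h3

include hdiag in
theorem IsWtFam.exists_nat {e : Fin d → ℤ} {x : k → (VecGrp.pt k k ⟶ G)} {P : Fin n → Fin n → k[X]}
    (h : IsWtFam iT C r e x P) {s : k} {i j : Fin n} (hne : pmat r (x s) i j ≠ 0) :
    ∃ l : ℕ, a i - a j = (l : ℤ) • e := by
  obtain ⟨l, hl⟩ : ∃ l, (P i j).coeff l ≠ 0 := by
    by_contra! h0
    have hP : P i j = 0 := Polynomial.ext fun m => by rw [h0, Polynomial.coeff_zero]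
    exact hne (by rw [h.eval, hP, Polynomial.eval_zero])
  exact ⟨l, h.weight_coeff C hdiag hl⟩

include hdiag in
theorem IsWtFam.mem_up₁ {e : Fin d → ℤ} {x : k → (VecGrp.pt k k ⟶ G)} {P : Fin n → Fin n → k[X]}
    (h : IsWtFam iT C r e x P) {b : Fin d → ℤ} (hb : 0 < pairing e b)
    (hsep : ∀ i j, wt a b i = wt a b j → a i = a j) (s : k) : x s ∈ upPts₁ r (wt a b) := by
  refine ⟨fun i j hij => ?_, fun i j hij => ?_⟩
  · rw [coe_mtxFn_eq_pmat]
    by_contra hne
    obtain ⟨l, hl⟩ := h.exists_nat C hdiag hne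
    have h1 := congrArg (fun v => pairing v b) hl
    simp only [pairing_sub', pairing_zsmul'] at h1
    have h2 : 0 ≤ (l : ℤ) * pairing e b := mul_nonneg (Int.natCast_nonneg l) hb.le
    simp only [wt] at hij
    omega
  · have he : e ≠ 0 := fun h0 => by rw [h0] at hb; simp [pairing] at hb
    have hc : ∀ l, l ≠ 0 → (P i j).coeff l = 0 := fun l hl0 => by
      by_contra hl
      have h1 := h.weight_coeff C hdiag hl
      rw [hsep i j hij, sub_self] at h1
      rcases smul_eq_zero.1 h1.symm with h2 | h2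
      · exact hl0 (Int.natCast_eq_zero.1 h2)
      · exact he h2
    have hP : P i j = Polynomial.C ((P i j).coeff 0) := Polynomial.ext fun m => by
      rcases eq_or_ne m 0 with rfl | hm
      · rw [Polynomial.coeff_C_zero]
      · rw [hc m hm, Polynomial.coeff_C, if_neg hm]
    rw [coe_mtxFn_eq_pmat, h.eval, hP, Polynomial.eval_C]
    have h0 := h.eval 0 i j
    rw [h.zero, pmat_one, hP, Polynomial.eval_C] at h0
    exact h0.symm

variable [ConnectedSpace G.left] (hG : Red.IsReductiveOver k G) (hT : AGF.IsMaxTorus iT)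

include hdiag hG hT in
set_option maxHeartbeats 1600000 in
/-- Two proportional weights are equal or opposite, and the opposite weight occurs. -/
theorem pair_weights {e f : Fin d → ℤ} (he : e ≠ 0) {x y : k → (VecGrp.pt k k ⟶ G)}
    {P Q : Fin n → Fin n → k[X]} (hx : IsWtFam iT C r e x P) (hy : IsWtFam iT C r f y Q) {i₀ j₀ i₁ j₁ : Fin n}
    (hxe : a i₀ - a j₀ = e) (hx1 : pmat r (x 1) i₀ j₀ ≠ 0) (hye : a i₁ - a j₁ = f) (hy1 : pmat r (y 1) i₁ j₁ ≠ 0)
    (hf : f ≠ 0) {c c' : ℤ} (hc : c' ≠ 0) (hcf : c • e = c' • f) :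
    (f = e ∨ f = -e) ∧ (∃ qX' : VecGrp.pt k k[X] ⟶ G, IsWtCurve iT C (-e) qX' ∧ cev qX' 0 = 1 ∧
      cev qX' 1 ≠ 1) ∧ (f = e → ∀ i j i' j', a i - a j = e → a i' - a j' = e →
        pmat r (x 1) i j * pmat r (y 1) i' j' = pmat r (x 1) i' j' * pmat r (y 1) i j) := by
  classical
  haveI := hT.2.1
  obtain ⟨hTa, hTs, hTn, -⟩ := props_of_isTorus hT.2.2.1
  haveI := hTa; haveI := hTs
  haveI := isClosedImmersion_of_torus hT.2.2.1 iT
  have hS := isTorus_ker (Spec (CommRingCat.of k)) e
  obtain ⟨Z, _, z, hz, hzc, hzs⟩ := TorusCentr19.exists_centralizer'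
    (MTRigid29.isMT_of_ft (isMultTypeFT_of_isTorus hS)) ‹Smooth G.hom› (kerInc C e ≫ iT)
  haveI := hz.1
  haveI := hz.2.1
  haveI := hzc
  haveI := hzs
  haveI : IsAffine Z.left := isAffine_of_isAffineHom z.left
  haveI : ConnectedSpace Z.left := connectedSpace_centralizer hS hz
  have hZred := isReductiveOver_centralizer hG (iS := kerInc C e ≫ iT) hS hz
  obtain ⟨fT, hfT⟩ := (hz.2.2 T iT).2 fun X x t => by
    rw [← Category.assoc t, ← MonObj.mul_comp, AttrBorel21.mul_comm_of_isTorus hT.2.2.1, MonObj.mul_comp]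
  haveI : IsMonHom fT := MTExt21.isMonHom_of_comp' z fT (by rw [hfT]; infer_instance)
  haveI : Mono (fT ≫ z) := by rw [hfT]; infer_instance
  haveI : Mono fT := mono_of_mono fT z
  haveI : IsClosedImmersion fT.left := isClosedImmersion_of_torus hT.2.2.1 fT
  haveI : Mono z := hz.2.1
  have hfmax : AGF.IsMaxTorus fT := by
    refine ⟨inferInstance, inferInstance, hT.2.2.1, fun T' _ j _ _ g hT' hg => ?_⟩
    exact hT.2.2.2 T' (j ≫ z) g hT' (by rw [← Category.assoc, hg, hfT])
  haveI : IsClosedImmersion (z ≫ r).left := by rw [Over.comp_left]; infer_instance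
  have hdiagZ : ∀ (X : Over (Spec (CommRingCat.of k))) (x : X ⟶ T),
      mat ((x ≫ fT) ≫ z ≫ r) = Matrix.diagonal fun j => C.ch x (Multiplicative.ofAdd (a j)) := fun X τ => by
    rw [← hdiag X τ, ← hfT]; simp only [Category.assoc]
  have hpz : ∀ w : VecGrp.pt k k ⟶ Z, pmat (z ≫ r) w = pmat r (w ≫ z) := fun w => by
    simp only [pmat, Category.assoc]
  -- lifting points with weights on the line
  have hlift : ∀ (g : VecGrp.pt k k ⟶ G), (∀ i j, pmat r g i j ≠ 0 → proj e (a i - a j) = 0) →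
      ∃ w : VecGrp.pt k k ⟶ Z, w ≫ z = g := fun g hg => by
    obtain ⟨g', hg'⟩ := exists_gpt g
    obtain ⟨w, hw⟩ := exists_lift_centralizer_pt hS hz g' fun σ => by
      rw [hg']
      refine pmat_injective r ?_
      rw [pmat_mul, pmat_mul, ← Category.assoc, ← coe_mtxFn_eq_pmat r ((σ ≫ kerInc C e) ≫ iT), diag_pt C hdiag]
      ext i j
      rw [Matrix.mul_diagonal, Matrix.diagonal_mul]
      by_cases h0 : pmat r g i j = 0
      · rw [h0, MulZeroClass.zero_mul, MulZeroClass.mul_zero]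
      · rw [ptChr_kerInc, ptChr_kerInc, show proj e (a i) = proj e (a j) from sub_eq_zero.1 (by
          rw [← map_sub]; exact hg i j h0), mul_comm]
    exact ⟨gpt w, by rw [← hg', gpt, gpt, Category.assoc, hw]⟩
  have hpe : proj e e = 0 := (proj_eq_zero_iff e e).2 fun p q => mul_comm _ _
  have hpf : proj e f = 0 := (proj_eq_zero_iff e f).2 fun p q => by
    have h1 := congrFun hcf p
    have h2 := congrFun hcf q
    simp only [Pi.smul_apply, smul_eq_mul] at h1 h2
    refine mul_left_cancel₀ hc ?_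
    linear_combination e q * h1 - e p * h2
  -- families in the centraliser
  have hfam : ∀ {g : Fin d → ℤ} {u : k → (VecGrp.pt k k ⟶ G)} {R : Fin n → Fin n → k[X]},
      IsWtFam iT C r g u R → proj e g = 0 →
      ∃ uZ : k → (VecGrp.pt k k ⟶ Z), IsWtFam fT C (z ≫ r) g uZ R ∧ ∀ s, uZ s ≫ z = u s := by
    intro g u R hu hg
    have := fun s => hlift (u s) fun i j hij => by
      obtain ⟨l, hl⟩ := hu.exists_nat C hdiag hij
      rw [hl, map_zsmul, hg, smul_zero]
    choose uZ huZ using this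
    refine ⟨uZ, ⟨fun s i j => by rw [hpz, huZ, hu.eval], (cancel_mono z).1 (by
      rw [huZ, hu.zero, MonObj.one_comp]), fun τ s => (cancel_mono z).1 ?_⟩, huZ⟩
    rw [MonObj.mul_comp, MonObj.mul_comp, GrpObj.inv_comp, huZ, huZ, Category.assoc, hfT, hu.act]
  obtain ⟨xZ, hxZ, hxz⟩ := hfam hx hpe
  obtain ⟨yZ, hyZ, hyz⟩ := hfam hy hpf
  -- the rank one structure
  obtain ⟨α₀, -, hprim⟩ := exists_primitive e he
  have hcZ : ∀ (τ : VecGrp.pt k k ⟶ T) (p q : Fin d) (s : kˣ), (∀ m : Fin d → ℤ,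
      ptChr C τ (Multiplicative.ofAdd m) = ((s ^ (e p * m q - e q * m p) : kˣ) : k)) →
        ∀ w : VecGrp.pt k k ⟶ Z, w * (τ ≫ fT) = (τ ≫ fT) * w := by
    intro τ p q s hτ w
    choose pre hpre using fun l : Fin (rk e) => proj_surjective e (Pi.single l 1)
    let sec : (Fin (rk e) → ℤ) →+ (Fin d → ℤ) := (Fintype.linearCombination ℤ pre).toAddMonoidHom
    have hsec : ∀ v, proj e (sec v) = v := fun v => by
      show proj e (Fintype.linearCombination ℤ pre v) = v
      rw [Fintype.linearCombination_apply, map_sum]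
      simp only [map_zsmul, hpre]
      funext l
      simp [Pi.single_apply]
    obtain ⟨σ, hσ⟩ := exists_ptChr (charsDS (Spec (CommRingCat.of k)) (Fin (rk e) → ℤ))
      ((ptChr C τ).comp sec.toMultiplicative)
    have hτσ : σ ≫ kerInc C e = τ := ptChr_injective C (MonoidHom.ext fun m => by
      obtain ⟨m, rfl⟩ := Multiplicative.ofAdd.surjective m
      rw [ptChr_kerInc, hσ]
      show ptChr C τ (Multiplicative.ofAdd (sec (proj e m))) = _
      have h1 := (proj_eq_zero_iff e (sec (proj e m) - m)).1 (by rw [map_sub, hsec, sub_self]) p q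
      simp only [Pi.sub_apply] at h1
      rw [hτ, hτ, show e p * sec (proj e m) q - e q * sec (proj e m) p = e p * m q - e q * m p by linarith])
    refine (cancel_mono z).1 ?_
    rw [MonObj.mul_comp, MonObj.mul_comp, Category.assoc, hfT, ← hτσ, Category.assoc]
    exact centralizer_comm hz w σ
  have hlineZ : ∀ i j, mat (z ≫ r) i j ≠ 0 → ∃ c : ℤ, a i - a j = c • α₀ := fun i j hij =>
    hprim _ fun p q => line_of_central C hdiagZ e hcZ i j hij p q
  have hfin : topologicalKrullDim ↥Z.left ≠ ⊤ := fun h => by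
    have h1 := dim_le_of_central C hZred hfmax e he hcZ
    rw [h, top_le_iff] at h1
    exact ENat.natCast_ne_top _ (WithBot.coe_injective h1)
  have hij₀ : i₀ ≠ j₀ := fun h => he (by rw [← hxe, h, sub_self])
  have hns : ¬ Red.IsSolvableGrp Z := fun hsol => by
    have hTZ := isTorus_of_solvable_reductive hZred hsol
    haveI : IsIso fT := hT.2.2.2 Z z fT hTZ hfT
    have h1 : x 1 = (xZ 1 ≫ inv fT) ≫ iT := by
      rw [← hfT, Category.assoc, IsIso.inv_hom_id_assoc, hxz]
    rw [h1, ← coe_mtxFn_eq_pmat, diag_pt C hdiag, Matrix.diagonal_apply_ne _ hij₀] at hx1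
    exact hx1 rfl
  -- a separating cocharacter
  obtain ⟨b₀, hb₀⟩ := exists_pairing_ne_zero
    (insert e ((Finset.univ.image fun p : Fin n × Fin n => a p.1 - a p.2).filter (· ≠ 0))) fun v hv => by
      rcases Finset.mem_insert.1 hv with rfl | hv
      exacts [he, (Finset.mem_filter.1 hv).2]
  have hsep₀ : ∀ i j, wt a b₀ i = wt a b₀ j → a i = a j := fun i j h => by
    by_contra hne
    refine hb₀ (a i - a j) (Finset.mem_insert_of_mem (Finset.mem_filter.2
      ⟨Finset.mem_image.2 ⟨(i, j), Finset.mem_univ _, rfl⟩, sub_ne_zero.2 hne⟩)) ?_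
    rw [pairing_sub']
    exact sub_eq_zero.2 h
  have hsepn : ∀ i j, wt a (-b₀) i = wt a (-b₀) j → a i = a j := fun i j h =>
    hsep₀ i j (by rw [BigCell21.wt_neg] at h; exact neg_injective h)
  have hneg : ∀ v b : Fin d → ℤ, pairing v (-b) = -pairing v b := fun v b => by simp [pairing]
  -- the weight of a family on one side
  have hside : ∀ {b ε g : Fin d → ℤ} {qX : VecGrp.pt k k[X] ⟶ Z} {u : k → (VecGrp.pt k k ⟶ Z)}
      {R : Fin n → Fin n → k[X]} {p q : Fin n}, (∀ i j, wt a b i = wt a b j → a i = a j) →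
      IsWtCurve fT C ε qX →
      (∀ w ∈ upPts₁ (z ≫ r) (wt a b), w ≠ 1 → ∃ (s : k) (i j : Fin n),
        w = cev qX s ∧ a i - a j = ε ∧ pmat (z ≫ r) w i j ≠ 0) →
      IsWtFam fT C (z ≫ r) g u R → 0 < pairing g b → a p - a q = g → pmat (z ≫ r) (u 1) p q ≠ 0 → ε = g := by
    intro b ε g qX u R p q hsep hq hall hu hgb hpq hne
    have hg0 : g ≠ 0 := fun h0 => by rw [h0] at hgb; simp [pairing] at hgb
    have hu1 : u 1 ≠ 1 := fun h => by
      rw [h, pmat_one, Matrix.one_apply_ne fun h0 => hg0 (by rw [← hpq, h0, sub_self])] at hne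
      exact hne rfl
    obtain ⟨s, i, j, hs, hij, hne'⟩ := hall _ (hu.mem_up₁ C hdiagZ hgb hsep 1) hu1
    obtain ⟨l, hl⟩ := hu.exists_nat C hdiagZ hne'
    rw [hs] at hne
    obtain ⟨m, hm⟩ := exists_nat_of_entry C hdiagZ hq hne
    rw [hij] at hl
    rw [hpq] at hm
    obtain ⟨p₀, hp₀⟩ : ∃ p₀, g p₀ ≠ 0 := by
      by_contra! h
      exact hg0 (funext h)
    have h2 := congrFun hm p₀
    rw [hl, smul_smul] at h2
    simp only [Pi.smul_apply, smul_eq_mul] at h2
    have h3 : (m : ℤ) * (l : ℤ) = 1 := mul_right_cancel₀ hp₀ (h2.symm.trans (_root_.one_mul _).symm)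
    have h4 : (l : ℤ) = 1 := Int.eq_one_of_mul_eq_one_left (Int.natCast_nonneg _) h3
    rw [hl, h4, one_smul]
  obtain ⟨b, hsep, hsep', heb⟩ : ∃ b, (∀ i j, wt a b i = wt a b j → a i = a j) ∧
      (∀ i j, wt a (-b) i = wt a (-b) j → a i = a j) ∧ 0 < pairing e b := by
    rcases lt_or_gt_of_ne (hb₀ e (Finset.mem_insert_self _ _)) with h | h
    · exact ⟨-b₀, hsepn, by rw [neg_neg]; exact hsep₀, by rw [hneg]; omega⟩
    · exact ⟨b₀, hsep₀, hsepn, h⟩
  obtain ⟨ε, qX, qX', hεb, hq, hq', ⟨hq0, i', j', hij', hne'⟩, hall⟩ :=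
    exists_opposite_curves C hdiagZ α₀ hlineZ hns hfin b hsep (hG := hZred) (hT := hfmax)
  have hεe : ε = e := hside hsep hq hall hxZ heb hxe (by rw [hpz, hxz]; exact hx1)
  have hfb : pairing f b ≠ 0 := fun h0 => by
    have h1 := congrArg (fun v => pairing v b) hcf
    simp only [pairing_zsmul', h0, MulZeroClass.mul_zero, mul_eq_zero] at h1
    rcases h1 with h1 | h1
    · rw [h1, zero_smul] at hcf
      rcases smul_eq_zero.1 hcf.symm with h2 | h2
      exacts [hc h2, hf h2]
    · omega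
  subst hεe
  refine ⟨?_, ⟨qX' ≫ z, fun τ s => ?_, ?_, fun h => ?_⟩, fun hfe i j p' q' hij hpq => ?_⟩
  · rcases lt_or_gt_of_ne hfb with h | h
    · right
      obtain ⟨ε₂, q₂, q₂', -, hq₂, hq₂', ⟨hq₂0, i₂, j₂, hij₂, hne₂⟩, hall₂⟩ :=
        exists_opposite_curves C hdiagZ α₀ hlineZ hns hfin (-b) hsep' (hG := hZred) (hT := hfmax)
      have h2 : ε₂ = f := hside hsep' hq₂ hall₂ hyZ (by rw [hneg]; omega) hye (by rw [hpz, hyz]; exact hy1)
      subst h2
      have h3 : IsWtFam fT C (z ≫ r) (-ε₂) (cev q₂') fun i j => pmat (z ≫ r) q₂' i j :=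
        ⟨fun s i j => cev_entry q₂' s i j, hq₂0, hq₂'⟩
      have h4 := hside hsep hq hall h3 (by simp only [pairing, Pi.neg_apply, neg_mul, Finset.sum_neg_distrib] at h ⊢; omega)
        hij₂ (by rw [hne₂]; exact one_ne_zero)
      rw [h4, neg_neg]
    · exact Or.inl (hside hsep hq hall hyZ h hye (by rw [hpz, hyz]; exact hy1)).symm
  · have h1 := congrArg (· ≫ z) (hq' τ s)
    simp only [MonObj.mul_comp, GrpObj.inv_comp, Category.assoc, hfT] at h1
    simpa only [cev, Category.assoc] using h1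
  · have h1 := congrArg (· ≫ z) hq0
    simp only [cev, MonObj.one_comp, Category.assoc] at h1 ⊢
    exact h1
  · have h1 : cev qX' 1 = 1 := (cancel_mono z).1 (by
      rw [MonObj.one_comp, ← h]; simp only [cev, Category.assoc])
    rw [h1, pmat_one, Matrix.one_apply_ne fun h0 => he (by rw [← neg_eq_zero, ← hij', h0, sub_self])] at hne'
    exact zero_ne_one hne'
  · subst hfe
    have hlin : ∀ (s : k) (u v : Fin n), a u - a v = f →
        pmat (z ≫ r) (cev qX s) u v = s * (pmat (z ≫ r) qX u v).coeff 1 := fun s u v huv => by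
      have hP : pmat (z ≫ r) qX u v = Polynomial.C ((pmat (z ≫ r) qX u v).coeff 1) * Polynomial.X :=
        Polynomial.ext fun m => by
          rw [Polynomial.coeff_C_mul, Polynomial.coeff_X]
          split_ifs with hm
          · subst hm; rw [_root_.mul_one]
          · rw [MulZeroClass.mul_zero]
            by_contra hne
            refine hne ?_
            have h1 : ∀ l : ℕ, (pmat (z ≫ r) qX u v).coeff l ≠ 0 → l = 1 := fun l hl => by
              have h4 := coeff_weight C hdiagZ hq hl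
              rw [huv] at h4
              obtain ⟨p₀, hp₀⟩ : ∃ p₀, f p₀ ≠ 0 := by
                by_contra! h
                exact hf (funext h)
              have h5 := congrFun h4 p₀
              simp only [Pi.smul_apply, smul_eq_mul] at h5
              have h6 : (l : ℤ) = 1 := mul_right_cancel₀ hp₀ (h5.symm.trans (_root_.one_mul _).symm)
              omega
            by_contra hne'
            exact hm (h1 m hne').symm
      rw [cev_entry]
      conv_lhs => rw [hP]
      rw [Polynomial.eval_mul, Polynomial.eval_C, Polynomial.eval_X, mul_comm]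
    have hmem : ∀ {u : k → (VecGrp.pt k k ⟶ G)} {uZ : k → (VecGrp.pt k k ⟶ Z)} {R : Fin n → Fin n → k[X]}
        {p q : Fin n}, IsWtFam fT C (z ≫ r) f uZ R → (∀ s, uZ s ≫ z = u s) → a p - a q = f →
        pmat r (u 1) p q ≠ 0 → ∃ s, uZ 1 = cev qX s := by
      intro u uZ R p q hu huz hpq hne
      obtain ⟨s, _, _, hs, -⟩ := hall _ (hu.mem_up₁ C hdiagZ heb hsep 1) fun h => by
        rw [← huz, h, MonObj.one_comp, pmat_one,
          Matrix.one_apply_ne fun h0 => hf (by rw [← hpq, h0, sub_self])] at hne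
        exact hne rfl
      exact ⟨s, hs⟩
    obtain ⟨s₁, hs₁⟩ := hmem hxZ hxz hxe hx1
    obtain ⟨s₂, hs₂⟩ := hmem hyZ hyz hye hy1
    rw [← hxz, ← hyz, ← hpz, ← hpz, hs₁, hs₂, hlin _ _ _ hij, hlin _ _ _ hpq, hlin _ _ _ hpq,
      hlin _ _ _ hij]
    ring

end Groth.Agent.RankOne21
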