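import Groth.Agent.Lib.RankOne21.Pair

/-!
# Proportional roots of a split maximal torus
-/

set_option autoImplicit false
set_option linter.style.haveILetI false
set_option linter.unusedSectionVars false
set_option backward.isDefEq.respectTransparency.types false

universe u

open CategoryTheory Limits MonoidalCategory CartesianMonoidalCategory MonObj AlgebraicGeometry

noncomputable section

namespace Groth.Agent.RankOne21

open InvRing21 DiagGL TorPts21 BigCell21 BorelLam21 AttrBorel21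

attribute [local instance] InvRing21.gamAlg BorelFix21.ptsTop

theorem scale_dIso₀ {k : Type u} [CommRing k] {B : Type u} [CommRing B] [Algebra k B] (c : B) :
    LieS.scale B (Spec.map (CommRingCat.ofHom (algebraMap k B))) c ≫ (dIso₀ (k := k) B).hom =
      (dIso₀ (k := k) B).hom ≫ VecGrp.ptMap (scA c) := by
  refine Over.OverMorphism.ext ?_
  rw [Over.comp_left, Over.comp_left, dIso₀_hom_left]
  simp only [LieS.scale, VecGrp.ptMap, Over.homMk_left]
  exact (Category.comp_id _).trans (Category.id_comp _).symm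

section Exponent

variable {k : Type u} [Field k] {d : ℕ} {T : Over (Spec (CommRingCat.of k))} [GrpObj T]
  (C : Chars (Fin d → ℤ) T)

theorem gmFn_eq_ch {X : Over (Spec (CommRingCat.of k))} (z : X ⟶ Red.Gm (Spec (CommRingCat.of k))) :
    Red.gmFn z = (charsDS (Spec (CommRingCat.of k)) ℤ).ch z (Multiplicative.ofAdd 1) := by
  have hchi : Red.chi (Spec (CommRingCat.of k)) (1 : ℤ) = 𝟙 _ := (charsDS _ ℤ).inj fun w => by
    obtain ⟨w, rfl⟩ := Multiplicative.ofAdd.surjective w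
    rw [Red.chi]
    have := AttrBorel21.gmFn_DSmap (𝟙 (Red.DS (Spec (CommRingCat.of k)) ℤ)) (zmultiplesHom ℤ (1 : ℤ)) w
    rw [Category.id_comp] at this
    rw [this]
    simp
  rw [← AttrBorel21.gmFn_chi, hchi]
  exact congrArg Red.gmFn (Category.comp_id z).symm

/-- The exponent of a character. -/
theorem exists_exp (α : T ⟶ Red.Gm (Spec (CommRingCat.of k))) [IsMonHom α] :
    ∃ e : Fin d → ℤ, ∀ (X : Over (Spec (CommRingCat.of k))) (x : X ⟶ T),
      Red.gmFn (x ≫ α) = C.ch x (Multiplicative.ofAdd e) := by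
  obtain ⟨f, hf, φ, hφ⟩ := MTRigid29.exists_local_mapChar C (charsDS (Spec (CommRingCat.of k)) ℤ) α
    (IsLocalRing.closedPoint k)
  refine ⟨φ 1, fun X x => ?_⟩
  have hfu : IsUnit f := Ne.isUnit fun h => hf (by rw [h]; exact zero_mem _)
  rw [gmFn_eq_ch, hφ X (hfu.map (alg X)) x, MTRigid29.ch_mapChar]
  rfl

theorem eq_of_forall_chi (K : Type u) [Field K] [Algebra k K] [IsAlgClosed K] {g h : Fin d → ℤ}
    (hgh : ∀ τ : VecGrp.pt k K ⟶ T, chi C τ (Multiplicative.ofAdd g) = chi C τ (Multiplicative.ofAdd h)) : g = h := by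
  classical
  funext q
  refine congrFun (g := fun q => h q) ?_ q
  funext q
  refine BorelLam21.zpow_inj (k := K) fun s => ?_
  obtain ⟨τ, hτ⟩ := exists_chi C (monom (B := K) fun j => if j = q then s else 1)
  have h1 := hgh τ
  rw [hτ, hτ] at h1
  have hv : ∀ m : Fin d → ℤ, monom (B := K) (fun j => if j = q then s else 1) (Multiplicative.ofAdd m) =
      ((s ^ m q : Kˣ) : K) := fun m => by
    show ((∏ j, (if j = q then s else 1) ^ m j : Kˣ) : K) = _
    rw [Finset.prod_eq_single q (fun j _ hj => by rw [if_neg hj, one_zpow]) (fun h => absurd (Finset.mem_univ q) h),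
      if_pos rfl]
  rw [hv, hv] at h1
  exact Units.ext h1

theorem exp_ne_zero {α : T ⟶ Red.Gm (Spec (CommRingCat.of k))} {e : Fin d → ℤ}
    (he : ∀ (X : Over (Spec (CommRingCat.of k))) (x : X ⟶ T), Red.gmFn (x ≫ α) = C.ch x (Multiplicative.ofAdd e))
    (hα : α ≠ 1) : e ≠ 0 := fun h => hα ((charsDS (Spec (CommRingCat.of k)) ℤ).inj fun w => by
  obtain ⟨w, rfl⟩ := Multiplicative.ofAdd.surjective w
  rw [(charsDS (Spec (CommRingCat.of k)) ℤ).one, show w = w • (1 : ℤ) by simp, ofAdd_zsmul]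
  have h1 := he T (𝟙 T)
  rw [Category.id_comp, h, gmFn_eq_ch] at h1
  have h2 : ((charsDS (Spec (CommRingCat.of k)) ℤ).ch α).toHomUnits (Multiplicative.ofAdd 1) = 1 :=
    Units.ext (h1.trans (map_one (C.ch (𝟙 T))))
  have h3 : ((charsDS (Spec (CommRingCat.of k)) ℤ).ch α).toHomUnits (Multiplicative.ofAdd (1 : ℤ) ^ w) = 1 := by
    rw [map_zpow, h2, one_zpow]
  exact congrArg Units.val h3)

theorem eq_of_exp {α β : T ⟶ Red.Gm (Spec (CommRingCat.of k))} {e : Fin d → ℤ}
    (hα : ∀ (X : Over (Spec (CommRingCat.of k))) (x : X ⟶ T), Red.gmFn (x ≫ α) = C.ch x (Multiplicative.ofAdd e))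
    (hβ : ∀ (X : Over (Spec (CommRingCat.of k))) (x : X ⟶ T), Red.gmFn (x ≫ β) = C.ch x (Multiplicative.ofAdd e)) :
    α = β := (charsDS (Spec (CommRingCat.of k)) ℤ).inj fun w => by
  obtain ⟨w, rfl⟩ := Multiplicative.ofAdd.surjective w
  have h0 : ((charsDS (Spec (CommRingCat.of k)) ℤ).ch α).toHomUnits (Multiplicative.ofAdd 1) =
      ((charsDS (Spec (CommRingCat.of k)) ℤ).ch β).toHomUnits (Multiplicative.ofAdd 1) := Units.ext (by
    have h1 := hα T (𝟙 T)
    rw [← hβ T (𝟙 T), gmFn_eq_ch, gmFn_eq_ch, Category.id_comp, Category.id_comp] at h1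
    exact h1)
  rw [show w = w • (1 : ℤ) by simp, ofAdd_zsmul]
  have h3 : ((charsDS (Spec (CommRingCat.of k)) ℤ).ch α).toHomUnits (Multiplicative.ofAdd (1 : ℤ) ^ w) =
      ((charsDS (Spec (CommRingCat.of k)) ℤ).ch β).toHomUnits (Multiplicative.ofAdd (1 : ℤ) ^ w) := by
    rw [map_zpow, map_zpow, h0]
  exact congrArg Units.val h3

theorem exp_inv {α : T ⟶ Red.Gm (Spec (CommRingCat.of k))} {e : Fin d → ℤ}
    (hα : ∀ (X : Over (Spec (CommRingCat.of k))) (x : X ⟶ T), Red.gmFn (x ≫ α) = C.ch x (Multiplicative.ofAdd e))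
    (X : Over (Spec (CommRingCat.of k))) (x : X ⟶ T) :
    Red.gmFn (x ≫ α⁻¹) = C.ch x (Multiplicative.ofAdd (-e)) := by
  have h1 : Red.gmFn (x ≫ α) * Red.gmFn (x ≫ α⁻¹) = 1 := by
    rw [gmFn_eq_ch, gmFn_eq_ch, ← (charsDS (Spec (CommRingCat.of k)) ℤ).mul, ← MonObj.comp_mul, mul_inv_cancel,
      MonObj.comp_one, (charsDS (Spec (CommRingCat.of k)) ℤ).one]
  refine (left_inv_eq_right_inv ?_ h1).symm
  rw [hα, ← map_mul, ← ofAdd_add, neg_add_cancel]
  exact map_one _

end Exponent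

variable {k : Type u} [Field k] {n d : ℕ} {G T : Over (Spec (CommRingCat.of k))}
  [GrpObj G] [GrpObj T] [IsAffine G.left]
  {iT : T ⟶ G} [IsMonHom iT] (C : Chars (Fin d → ℤ) T) {r : G ⟶ GLs k n} [IsMonHom r]
  [IsClosedImmersion r.left] {a : Fin n → Fin d → ℤ}
  (hdiag : ∀ (X : Over (Spec (CommRingCat.of k))) (x : X ⟶ T),
    mat ((x ≫ iT) ≫ r) = Matrix.diagonal fun j => C.ch x (Multiplicative.ofAdd (a j)))
  (K : Type u) [Field K] [IsAlgClosed K] [Algebra k K]

theorem toK_one {X : Over (Spec (CommRingCat.of k))} [GrpObj X] :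
    toK (1 : VecGrp.pt k K ⟶ X) = (1 : VecGrp.pt K K ⟶ bcK K X) := by
  have h := toK_mul (K := K) (1 : VecGrp.pt k K ⟶ X) 1
  rw [_root_.one_mul] at h
  exact mul_eq_left.1 h.symm

include hdiag in
theorem pmat_torus {B : Type u} [CommRing B] [Algebra k B] (w : VecGrp.pt k B ⟶ T) : pmat r (w ≫ iT) =
    Matrix.diagonal fun j => chi C w (Multiplicative.ofAdd (a j)) := by
  rw [pmat, hdiag, Matrix.diagonal_map (map_zero _)]
  rfl

include hdiag K in
set_option maxHeartbeats 1600000 in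
/-- The tangent vectors of a weight. -/
theorem tangent_props {α : T ⟶ Red.Gm (Spec (CommRingCat.of k))} {e : Fin d → ℤ}
    (he : ∀ (X : Over (Spec (CommRingCat.of k))) (x : X ⟶ T), Red.gmFn (x ≫ α) = C.ch x (Multiplicative.ofAdd e))
    (v : LieS.LieR G k) (hv : v ∈ LieWt.weightSpOf iT α k) :
    (∀ i j, TrivSqZeroExt.fst (pmat r ((dIso₀ (k := k) k).inv ≫ v.1) i j) = (1 : Matrix (Fin n) (Fin n) k) i j) ∧
      ∀ i j, TrivSqZeroExt.snd (pmat r ((dIso₀ (k := k) k).inv ≫ v.1) i j) ≠ 0 → a i - a j = e := by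
  classical
  let z : VecGrp.pt k (DualNumber k) ⟶ G := (dIso₀ (k := k) k).inv ≫ v.1
  have hzv : (dIso₀ (k := k) k).hom ≫ z = v.1 := Iso.hom_inv_id_assoc _ _
  show (∀ i j, TrivSqZeroExt.fst (pmat r z i j) = _) ∧ ∀ i j, TrivSqZeroExt.snd (pmat r z i j) ≠ 0 → _
  refine ⟨fun i j => ?_, fun i j hij => ?_⟩
  · have h0 := (LieS.mem_Lie_iff G k _ v.1).1 v.2
    rw [← hzv, ← Category.assoc, zeroSec_dIso₀] at h0
    have h1 := congrArg (pmat r) h0
    rw [pmat_comp_ptMap] at h1
    have h2 := congrFun (congrFun (h1.trans (pmat_one r)) i) j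
    exact h2
  · refine sub_eq_iff_eq_add.2 ?_
    refine eq_of_forall_chi C K fun τ => ?_
    let φ := Algebra.ofId k K
    have h1 := congrArg Subtype.val ((LieWt.mem_weightSp_iff iT _ v).1 hv K φ τ)
    rw [LieWt.Ad_val, LieS.smul_val, LieWt.pull_val, ← hzv] at h1
    have hL : LieS.proj K _ ≫ (VecGrp.ptIso φ).hom ≫ τ ≫ iT = (dIso φ).hom ≫ (VecGrp.ptMap (inA K) ≫ τ) ≫ iT := by
      rw [← Category.assoc, proj_dIso]
      simp only [Category.assoc]
    have hV : LieS.dptMap (Spec.map (CommRingCat.ofHom (algebraMap k k))) φ.toRingHom ≫ (dIso₀ (k := k) k).hom ≫ z =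
        (dIso φ).hom ≫ VecGrp.ptMap (bcA φ) ≫ z := by
      rw [← Category.assoc, dptMap_dIso]
      simp only [Category.assoc]
    rw [hL, hV, ← Category.assoc (LieS.scale K _ _), scale_dIso, Category.assoc, ← GrpObj.comp_inv,
      ← MonObj.comp_mul, ← MonObj.comp_mul] at h1
    rw [Category.assoc] at h1
    have h2 := (mul_inv_eq_iff_eq_mul.1 ((cancel_epi (dIso φ).hom).1 h1))
    rw [← Category.assoc (VecGrp.ptMap (inA K))] at h2
    have h3 := congrArg (pmat r) h2
    rw [pmat_mul, pmat_mul, pmat_torus C hdiag, pmat_comp_ptMap, pmat_comp_ptMap, pmat_comp_ptMap] at h3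
    have h4 := congrArg TrivSqZeroExt.snd (congrFun (congrFun h3 i) j)
    rw [Matrix.mul_diagonal, Matrix.diagonal_mul, chi_ptMap, chi_ptMap] at h4
    have hc : VecGrp.chiVal α τ = chi C τ (Multiplicative.ofAdd e) := by
      show _ = InvRing21.ptHom K (C.ch τ (Multiplicative.ofAdd e))
      rw [← he]
      rfl
    simp [bcA, scA, inA, LieS.bcHom, LieS.scaleHom, TrivSqZeroExt.algebraMap_eq_inl'] at h4
    rw [hc] at h4
    have hφ : φ (TrivSqZeroExt.snd (pmat r z i j)) ≠ 0 := fun h => hij (φ.toRingHom.injective (by rw [map_zero]; exact h))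
    rw [ofAdd_add, map_mul]
    refine mul_right_cancel₀ hφ ?_
    linear_combination h4

theorem hext_ring {U : Over (Spec (CommRingCat.of k))} [IsAffine U.left] (iU : U ⟶ G) {κ : Type}
    (p : κ → Fin n × Fin n)
    (hbij : Function.Bijective (MvPolynomial.aeval fun t => ent r iU (p t) : MvPolynomial κ k →ₐ[k] Γ(U.left, ⊤)))
    {B : Type u} [CommRing B] [Algebra k B] (x y : VecGrp.pt k B ⟶ U)
    (h : ∀ t, pmat r (x ≫ iU) (p t).1 (p t).2 = pmat r (y ≫ iU) (p t).1 (p t).2) : x = y := by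
  have h1 : (val x).comp (MvPolynomial.aeval fun t => ent r iU (p t)) =
      (val y).comp (MvPolynomial.aeval fun t => ent r iU (p t)) := MvPolynomial.algHom_ext fun t => by
    simp only [AlgHom.comp_apply, MvPolynomial.aeval_X, val_ent]
    exact h t
  refine Over.OverMorphism.ext (ext_of_isAffine (CommRingCat.hom_ext (RingHom.ext fun F => ?_)))
  refine InvRing21.ptHom_injective (k := k) B ?_
  obtain ⟨F, rfl⟩ := hbij.2 F
  exact AlgHom.congr_fun h1 F

/-- A tangent vector of a positive weight lies in the contracted subgroup. -/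
theorem tangent_mem {e b : Fin d → ℤ} (heb : 0 < pairing e b) {U : Over (Spec (CommRingCat.of k))} (iU : U ⟶ G)
    (hU : ∀ (X : Over (Spec (CommRingCat.of k))) (x : X ⟶ G), (∃ y, y ≫ iU = x) ↔ Unp (wt a b) (mat (x ≫ r)))
    (z : VecGrp.pt k (DualNumber k) ⟶ G)
    (hzf : ∀ i j, TrivSqZeroExt.fst (pmat r z i j) = (1 : Matrix (Fin n) (Fin n) k) i j)
    (hzs : ∀ i j, TrivSqZeroExt.snd (pmat r z i j) ≠ 0 → a i - a j = e) : ∃ y, y ≫ iU = z := by
  classical
  -- the tangent vector lies in the subgroup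
  have hUnp : Unp (wt a b) (pmat r z) := by
    have hzero : ∀ i j, wt a b i ≤ wt a b j → TrivSqZeroExt.snd (pmat r z i j) = 0 := fun i j hij => by
      by_contra h
      have h1 := congrArg (fun v => pairing v b) (hzs i j h)
      simp only [pairing_sub'] at h1
      simp only [wt] at hij
      omega
    refine ⟨fun i j hij => TrivSqZeroExt.ext (by rw [hzf, Matrix.one_apply_ne fun h => hij.ne (by rw [h])]; rfl)
      (by rw [hzero i j hij.le]; rfl), ?_⟩
    ext i j : 1
    show (if wt a b i = wt a b j then pmat r z i j else 0) = (1 : Matrix (Fin n) (Fin n) (DualNumber k)) i j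
    split_ifs with h
    · refine TrivSqZeroExt.ext ?_ ?_
      · rw [hzf, Matrix.one_apply, Matrix.one_apply]; split_ifs <;> simp
      · rw [hzero i j h.le, Matrix.one_apply]; split_ifs <;> simp
    · rw [Matrix.one_apply_ne fun h0 => h (by rw [h0])]
  exact (hU _ z).2 (by
    refine ⟨fun i j hij => InvRing21.ptHom_injective (DualNumber k) (by
      rw [map_zero]; exact hUnp.1 i j hij), Matrix.map_injective (InvRing21.ptHom_injective (DualNumber k)) ?_⟩
    beta_reduce
    rw [← blkDiag_map, show (mat (z ≫ r)).map (InvRing21.ptHom (DualNumber k)) = pmat r z from rfl, hUnp.2,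
      Matrix.map_one _ (map_zero _) (map_one _)])

include hdiag K in
/-- A root occurs among the coordinates. -/
theorem exists_coord_of_root {α : T ⟶ Red.Gm (Spec (CommRingCat.of k))} (hα : LieWt.IsRoot iT α) {e : Fin d → ℤ}
    (he : ∀ (X : Over (Spec (CommRingCat.of k))) (x : X ⟶ T), Red.gmFn (x ≫ α) = C.ch x (Multiplicative.ofAdd e))
    {b : Fin d → ℤ} (heb : 0 < pairing e b) {U : Over (Spec (CommRingCat.of k))} [GrpObj U] [IsAffine U.left]
    (iU : U ⟶ G) [IsMonHom iU]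
    (hU : ∀ (X : Over (Spec (CommRingCat.of k))) (x : X ⟶ G), (∃ y, y ≫ iU = x) ↔ Unp (wt a b) (mat (x ≫ r)))
    {κ : Type} (p : κ → Fin n × Fin n) (hp : ∀ t, wt a b (p t).2 < wt a b (p t).1)
    (hbij : Function.Bijective (MvPolynomial.aeval fun t => ent r iU (p t) :
      MvPolynomial κ k →ₐ[k] Γ(U.left, ⊤))) : ∃ t, a (p t).1 - a (p t).2 = e := by
  classical
  obtain ⟨⟨v, hv⟩, hv0⟩ := Subgroup.ne_bot_iff_exists_ne_one.1 hα.2.2
  have hv1 : v ≠ 1 := fun h => hv0 (Subtype.ext h)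
  obtain ⟨hzf, hzs⟩ := tangent_props C hdiag K he v hv
  obtain ⟨y₀, hy₀⟩ := tangent_mem heb iU hU _ hzf hzs
  have hne : ∀ t, (p t).1 ≠ (p t).2 := fun t h => (hp t).ne (by rw [h])
  obtain ⟨t₀, ht₀⟩ : ∃ t, TrivSqZeroExt.snd (pmat r ((dIso₀ (k := k) k).inv ≫ v.1) (p t).1 (p t).2) ≠ 0 := by
    by_contra! h
    refine hv1 (Subtype.ext ?_)
    rw [← Iso.hom_inv_id_assoc (dIso₀ (k := k) k) v.1, ← hy₀, hext_ring iU p hbij y₀ 1 fun t => TrivSqZeroExt.ext
      (by rw [hy₀, hzf, MonObj.one_comp, pmat_one, Matrix.one_apply_ne (hne t), Matrix.one_apply_ne (hne t)]; rfl)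
      (by rw [hy₀, h, MonObj.one_comp, pmat_one, Matrix.one_apply_ne (hne t)]; rfl), MonObj.one_comp, MonObj.comp_one]
    rfl
  exact ⟨t₀, hzs _ _ ht₀⟩

include hdiag in
set_option maxHeartbeats 1600000 in
/-- The family of a coordinate. -/
theorem coord_family {e b : Fin d → ℤ} {U : Over (Spec (CommRingCat.of k))} [GrpObj U] [IsAffine U.left] (iU : U ⟶ G)
    [IsMonHom iU] (hst : TStab iT iU) {κ : Type} [DecidableEq κ] (p : κ → Fin n × Fin n)
    (hp : ∀ t, wt a b (p t).2 < wt a b (p t).1)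
    (hbij : Function.Bijective (MvPolynomial.aeval fun t => ent r iU (p t) :
      MvPolynomial κ k →ₐ[k] Γ(U.left, ⊤))) (t₀ : κ) (hwt : a (p t₀).1 - a (p t₀).2 = e)
    {rK : bcK K G ⟶ GLs K n} (hrK : ∀ (X : Over (Spec (CommRingCat.of K))) (x : X ⟶ bcK K G),
        mat (x ≫ rK) = mat (fl _ G x ≫ r)) :
    ∃ (x : K → (VecGrp.pt K K ⟶ bcK K G)) (P : Fin n → Fin n → Polynomial K),
      IsWtFam (bcMap K iT) (C.baseChange (DiagGL.ext' (k := k) K) T) rK e x P ∧
        ∀ t, pmat rK (x 1) (p t).1 (p t).2 = if t = t₀ then 1 else 0 := by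
  let E : MvPolynomial κ k ≃ₐ[k] Γ(U.left, ⊤) := AlgEquiv.ofBijective _ hbij
  have hE : ∀ t, E.symm (ent r iU (p t)) = MvPolynomial.X t := fun t => by
    rw [show ent r iU (p t) = E (MvPolynomial.X t) from (MvPolynomial.aeval_X (fun t => ent r iU (p t)) t).symm,
      AlgEquiv.symm_apply_apply]
  have hext : ∀ {B : Type u} [CommRing B] [Algebra k B] (x y : VecGrp.pt k B ⟶ U),
      (∀ t, val x (ent r iU (p t)) = val y (ent r iU (p t))) → x = y := fun {B} _ _ x y h => by
    have h1 : (val x).comp E.toAlgHom = (val y).comp E.toAlgHom := MvPolynomial.algHom_ext fun t => by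
      show val x (E (MvPolynomial.X t)) = val y (E (MvPolynomial.X t))
      rw [show E (MvPolynomial.X t) = ent r iU (p t) from MvPolynomial.aeval_X (fun t => ent r iU (p t)) t]
      exact h t
    refine Over.OverMorphism.ext (ext_of_isAffine (CommRingCat.hom_ext (RingHom.ext fun F => ?_)))
    refine InvRing21.ptHom_injective (k := k) B ?_
    have h2 := AlgHom.congr_fun h1 (E.symm F)
    change val x (E (E.symm F)) = val y (E (E.symm F)) at h2
    rw [E.apply_symm_apply] at h2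
    exact h2
  have hne : ∀ t, (p t).1 ≠ (p t).2 := fun t h => (hp t).ne (by rw [h])
  have hval1 : ∀ {B : Type u} [CommRing B] [Algebra k B] t,
      val (1 : VecGrp.pt k B ⟶ U) (ent r iU (p t)) = 0 := fun {B} _ _ t => by
    rw [val_ent, MonObj.one_comp, pmat_one, Matrix.one_apply_ne (hne t)]
  -- the family
  let ψ : Γ(U.left, ⊤) →ₐ[k] Polynomial k :=
    (MvPolynomial.aeval fun t => if t = t₀ then (Polynomial.X : Polynomial k) else 0).comp E.symm.toAlgHom
  let Y : VecGrp.pt k (Polynomial k) ⟶ U := VecGrp.ptMap ψ ≫ uPt U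
  let yv : K → (VecGrp.pt k K ⟶ U) := fun s => VecGrp.ptMap (Polynomial.aeval s) ≫ Y
  have hyv : ∀ s t, val (yv s) (ent r iU (p t)) = if t = t₀ then s else 0 := fun s t => by
    have h1 : val Y (ent r iU (p t)) = if t = t₀ then (Polynomial.X : Polynomial k) else 0 := by
      show val (VecGrp.ptMap ψ ≫ uPt U) _ = _
      rw [val_ptMap, val_uPt]
      show MvPolynomial.aeval _ (E.symm (ent r iU (p t))) = _
      rw [hE, MvPolynomial.aeval_X]
    rw [val_ptMap, AlgHom.comp_apply, h1]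
    split_ifs <;> simp
  have hpK : ∀ v : VecGrp.pt k K ⟶ G, pmat rK (toK v) = pmat r v := fun v => by
    rw [pmat, pmat, hrK, fl_toK, Category.assoc, mat_comp, Matrix.map_map]
    rfl
  refine ⟨fun s => toK (yv s ≫ iU), fun i j => (pmat r (Y ≫ iU) i j).map (algebraMap k K),
    ⟨fun s i j => ?_, ?_, fun τ' s => ?_⟩, fun t => ?_⟩
  · rw [hpK, Category.assoc, pmat_comp_ptMap, Matrix.map_apply, Polynomial.eval_map, ← Polynomial.aeval_def]
  · rw [hext (yv 0) 1 fun t => by rw [hyv, hval1]; split_ifs <;> rfl, MonObj.one_comp]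
    exact toK_one K
  · obtain ⟨τ, rfl⟩ := exists_toK τ'
    have hc : ptChr (C.baseChange (DiagGL.ext' (k := k) K) T) (toK τ) (Multiplicative.ofAdd e) =
        chi C τ (Multiplicative.ofAdd e) := by
      show InvRing21.ptHom K (C.ch (fl _ T (toK τ)) _) = _
      rw [fl_toK, C.nat]
      rfl
    rw [hc]
    obtain ⟨h', hh'⟩ := hst _ τ (yv s)
    have h1 : (τ ≫ iT) * (yv s ≫ iU) * (τ ≫ iT)⁻¹ = yv (chi C τ (Multiplicative.ofAdd e) * s) ≫ iU := by
      rw [← hh']
      refine congrArg (· ≫ iU) (hext _ _ fun t => ?_)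
      rw [hyv, val_ent, hh', pmat_mul, pmat_mul, ← GrpObj.inv_comp, pmat_torus C hdiag, pmat_torus C hdiag,
        Matrix.mul_diagonal, Matrix.diagonal_mul, ← val_ent, hyv]
      by_cases ht : t = t₀
      · subst ht
        rw [if_pos rfl, if_pos rfl]
        have hinv : chi C τ⁻¹ (Multiplicative.ofAdd (a (p t).2)) = chi C τ (Multiplicative.ofAdd (-a (p t).2)) := by
          refine left_inv_eq_right_inv (a := chi C τ (Multiplicative.ofAdd (a (p t).2))) ?_ ?_
          · rw [← chi_mul, inv_mul_cancel]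
            show InvRing21.ptHom K (C.ch (1 : VecGrp.pt k K ⟶ T) _) = 1
            rw [C.one, map_one]
          · rw [← map_mul, ← ofAdd_add, add_neg_cancel]
            exact map_one _
        rw [hinv, mul_right_comm, ← map_mul, ← ofAdd_add, ← sub_eq_add_neg, hwt]
      · rw [if_neg ht, if_neg ht, MulZeroClass.mul_zero, MulZeroClass.zero_mul]
    rw [← toK_comp, show (toK (τ ≫ iT))⁻¹ = toK ((τ ≫ iT)⁻¹) from inv_eq_of_mul_eq_one_right (by
      rw [← toK_mul, mul_inv_cancel]; exact toK_one K),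
      ← toK_mul, ← toK_mul, h1]
  · rw [hpK, ← val_ent, hyv]

include hdiag in
set_option maxHeartbeats 1600000 in
/-- A root gives a family over the algebraic closure. -/
theorem exists_family [Smooth G.hom] {α : T ⟶ Red.Gm (Spec (CommRingCat.of k))} (hα : LieWt.IsRoot iT α) {e : Fin d → ℤ}
    (he : ∀ (X : Over (Spec (CommRingCat.of k))) (x : X ⟶ T), Red.gmFn (x ≫ α) = C.ch x (Multiplicative.ofAdd e))
    {rK : bcK K G ⟶ GLs K n} (hrK : ∀ (X : Over (Spec (CommRingCat.of K))) (x : X ⟶ bcK K G),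
        mat (x ≫ rK) = mat (fl _ G x ≫ r)) :
    ∃ (x : K → (VecGrp.pt K K ⟶ bcK K G)) (P : Fin n → Fin n → Polynomial K) (i₀ j₀ : Fin n),
      IsWtFam (bcMap K iT) (C.baseChange (DiagGL.ext' (k := k) K) T) rK e x P ∧
        a i₀ - a j₀ = e ∧ pmat rK (x 1) i₀ j₀ ≠ 0 := by
  classical
  have he0 : e ≠ 0 := exp_ne_zero C he hα.2.1
  obtain ⟨b₀, hb₀⟩ := exists_pairing_ne_zero
    (insert e ((Finset.univ.image fun p : Fin n × Fin n => a p.1 - a p.2).filter (· ≠ 0))) fun v hv => by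
      rcases Finset.mem_insert.1 hv with rfl | hv
      exacts [he0, (Finset.mem_filter.1 hv).2]
  obtain ⟨b, heb⟩ : ∃ b, 0 < pairing e b := by
    rcases lt_or_gt_of_ne (hb₀ e (Finset.mem_insert_self _ _)) with h | h
    · exact ⟨-b₀, by rw [show pairing e (-b₀) = -pairing e b₀ by simp [pairing]]; omega⟩
    · exact ⟨b₀, h⟩
  obtain ⟨U, _, iU, hUm, hUc, hUs, hUa, hU⟩ := exists_unip hdiag b (G := G) (r := r)
  haveI := hUm; haveI := hUc; haveI := hUs; haveI := hUa
  have hst := tStab_unip hdiag b iU hU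
  obtain ⟨κ, _, p, -, hp, hbij⟩ := exists_entry_coords hdiag b iU 1 (MonObj.one_comp iU)
    ((hU _ _).1 ⟨𝟙 _, Category.id_comp _⟩) hst
  obtain ⟨t₀, hwt⟩ := exists_coord_of_root C hdiag K hα he heb iU hU p hp hbij
  obtain ⟨x, P, hx, hx1⟩ := coord_family C hdiag K iU hst p hp hbij t₀ hwt hrK
  exact ⟨x, P, _, _, hx, hwt, by rw [hx1, if_pos rfl]; exact one_ne_zero⟩

include hdiag in
set_option maxHeartbeats 1600000 in
/-- The opposite of a root and the roots proportional to it. -/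
theorem proportional_roots [Smooth G.hom] (hG : Red.IsReductiveOver K (bcK K G)) (hT : AGF.IsMaxTorus (bcMap K iT))
    {α : T ⟶ Red.Gm (Spec (CommRingCat.of k))} (hα : LieWt.IsRoot iT α) :
    LieWt.IsRoot iT α⁻¹ ∧ ∀ β : T ⟶ Red.Gm (Spec (CommRingCat.of k)), LieWt.IsRoot iT β →
      ∀ m l : ℤ, l ≠ 0 → α ^ m = β ^ l → β = α ∨ β = α⁻¹ := by
  classical
  haveI := hα.1
  obtain ⟨e, he⟩ := exists_exp C α
  have he0 : e ≠ 0 := exp_ne_zero C he hα.2.1
  haveI : IsAffine (bcK K G).left := hG.1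
  haveI : Smooth (bcK K G).hom := hG.2.1
  haveI : ConnectedSpace (bcK K G).left := hG.2.2.1
  haveI := hT.1
  obtain ⟨rK, hrKm, hrKc, hrK⟩ := exists_bcRep (K := K) r
  haveI := hrKm
  haveI := hrKc
  let CK := C.baseChange (DiagGL.ext' (k := k) K) T
  have hdiagK : ∀ (X : Over (Spec (CommRingCat.of K))) (x : X ⟶ bcK K T),
      mat ((x ≫ bcMap K iT) ≫ rK) = Matrix.diagonal fun j => CK.ch x (Multiplicative.ofAdd (a j)) := fun X x => by
    rw [hrK, DiagGL.fl_comp_map, hdiag]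
    rfl
  obtain ⟨x, P, i₀, j₀, hx, hxe, hx1⟩ := exists_family C hdiag K hα he hrK
  have hpair : ∀ (β : T ⟶ Red.Gm (Spec (CommRingCat.of k))), LieWt.IsRoot iT β → ∀ f : Fin d → ℤ,
      (∀ (X : Over (Spec (CommRingCat.of k))) (y : X ⟶ T), Red.gmFn (y ≫ β) = C.ch y (Multiplicative.ofAdd f)) →
      ∀ c c' : ℤ, c' ≠ 0 → c • e = c' • f → (f = e ∨ f = -e) ∧ ∃ qX' : VecGrp.pt K (Polynomial K) ⟶ bcK K G,
        IsWtCurve (bcMap K iT) CK (-e) qX' ∧ cev qX' 0 = 1 ∧ cev qX' 1 ≠ 1 := fun β hβ f hf c c' hc' hcf => by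
    obtain ⟨y, Q, i₁, j₁, hy, hye, hy1⟩ := exists_family C hdiag K hβ hf hrK
    obtain ⟨h1, h2, -⟩ := pair_weights CK hdiagK hG hT he0 hx hy hxe hx1 hye hy1 (exp_ne_zero C hf hβ.2.1) hc' hcf
    exact ⟨h1, h2⟩
  refine ⟨?_, fun β hβ m l hl h => ?_⟩
  · obtain ⟨-, qX', hq, hq0, hq1⟩ := hpair α hα e he 1 1 one_ne_zero rfl
    obtain ⟨b₀, hb₀⟩ := exists_pairing_ne_zero
      (insert e ((Finset.univ.image fun p : Fin n × Fin n => a p.1 - a p.2).filter (· ≠ 0))) fun v hv => by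
        rcases Finset.mem_insert.1 hv with rfl | hv
        exacts [he0, (Finset.mem_filter.1 hv).2]
    have hsep₀ : ∀ i j, wt a b₀ i = wt a b₀ j → a i = a j := fun i j h => by
      by_contra hne
      refine hb₀ (a i - a j) (Finset.mem_insert_of_mem (Finset.mem_filter.2
        ⟨Finset.mem_image.2 ⟨(i, j), Finset.mem_univ _, rfl⟩, sub_ne_zero.2 hne⟩)) ?_
      rw [pairing_sub']
      exact sub_eq_zero.2 h
    obtain ⟨b, hsep, heb⟩ : ∃ b, (∀ i j, wt a b i = wt a b j → a i = a j) ∧ 0 < pairing (-e) b := by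
      rcases lt_or_gt_of_ne (hb₀ e (Finset.mem_insert_self _ _)) with h | h
      · exact ⟨b₀, hsep₀, by
          rw [show pairing (-e) b₀ = -pairing e b₀ by simp [pairing]]; omega⟩
      · exact ⟨-b₀, fun i j h' => hsep₀ i j (by rw [BigCell21.wt_neg] at h'; exact neg_injective h'), by
          rw [show pairing (-e) (-b₀) = pairing e b₀ by simp [pairing]]; exact h⟩
    have hfam : IsWtFam (bcMap K iT) CK rK (-e) (cev qX') fun i j => pmat rK qX' i j :=
      ⟨fun s i j => cev_entry qX' s i j, hq0, hq⟩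
    have hup := hfam.mem_up₁ CK hdiagK heb hsep 1
    obtain ⟨U, _, iU, hUm, hUc, hUs, hUa, hU⟩ := exists_unip hdiag b (G := G) (r := r)
    haveI := hUm; haveI := hUc; haveI := hUs; haveI := hUa
    obtain ⟨κ, _, p, -, hp, hbij⟩ := exists_entry_coords hdiag b iU 1 (MonObj.one_comp iU)
      ((hU _ _).1 ⟨𝟙 _, Category.id_comp _⟩) (tStab_unip hdiag b iU hU)
    obtain ⟨v, hv⟩ := exists_toK (cev qX' 1)
    rw [← hv] at hup
    have h2 : Unp (wt a b) (mat (toK v ≫ rK)) := unp_mat_of_up₁ (r := rK) (w := wt a b) hup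
    have hmat : mat (toK v ≫ rK) = (mat (v ≫ r)).map (ptIso (k := k) K).hom.left.appTop := by
      rw [hrK, fl_toK, Category.assoc, mat_comp]
    have hinj : Function.Injective (ptIso (k := k) K).hom.left.appTop := by
      intro p' q' h
      simpa [ptIso] using h
    rw [hmat] at h2
    have hvU : Unp (wt a b) (mat (v ≫ r)) := by
      refine ⟨fun i j hij => hinj ?_, Matrix.map_injective hinj ?_⟩
      · rw [map_zero, ← h2.1 i j hij, Matrix.map_apply]
      · beta_reduce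
        rw [← blkDiag_map, h2.2, Matrix.map_one _ (map_zero _) (map_one _)]
    obtain ⟨y, hy⟩ := (hU _ v).2 hvU
    obtain ⟨t, ht⟩ : ∃ t, pmat r v (p t).1 (p t).2 ≠ 0 := by
      by_contra! h
      refine hq1 ?_
      have hy1 : y = 1 := by
        have h1 : (val y).comp (MvPolynomial.aeval fun t => ent r iU (p t)) =
            (val (1 : VecGrp.pt k K ⟶ U)).comp (MvPolynomial.aeval fun t => ent r iU (p t)) :=
          MvPolynomial.algHom_ext fun t => by
            simp only [AlgHom.comp_apply, MvPolynomial.aeval_X, val_ent]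
            rw [hy, h, MonObj.one_comp, pmat_one, Matrix.one_apply_ne fun h0 => (hp t).ne (by rw [h0])]
        refine Over.OverMorphism.ext (ext_of_isAffine (CommRingCat.hom_ext (RingHom.ext fun F => ?_)))
        refine InvRing21.ptHom_injective (k := k) K ?_
        obtain ⟨F, rfl⟩ := hbij.2 F
        exact AlgHom.congr_fun h1 F
      rw [← hv, ← hy, hy1, MonObj.one_comp]
      exact toK_one K
    have hvK : pmat rK (cev qX' 1) = pmat r v := by
      rw [← hv, pmat, pmat, hrK, fl_toK, Category.assoc, mat_comp, Matrix.map_map]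
      rfl
    rw [← hvK] at ht
    obtain ⟨l, hl⟩ := exists_nat_of_entry CK hdiagK hq ht
    have hdiff : a (p t).1 - a (p t).2 ≠ 0 := fun h0 => by
      have := hp t
      simp only [wt, sub_eq_zero.1 h0] at this
      exact lt_irrefl _ this
    obtain ⟨β, hβ, hβe⟩ := exists_isRoot_of_coord C hdiag iU (tStab_unip hdiag b iU hU) p
      (fun t h => (hp t).ne (by rw [h])) hbij t hdiff
    obtain ⟨hcase, -⟩ := hpair β hβ _ hβe (-(l : ℤ)) 1 one_ne_zero (by rw [one_smul, hl, neg_smul, smul_neg])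
    have hf : a (p t).1 - a (p t).2 = -e := by
      rcases hcase with h | h
      · exfalso
        obtain ⟨q, hq'⟩ : ∃ q, e q ≠ 0 := by
          by_contra! h0
          exact he0 (funext h0)
        have h3 := congrFun (hl.symm.trans h) q
        simp only [Pi.smul_apply, Pi.neg_apply, smul_eq_mul, mul_neg] at h3
        have h4 : (-(l : ℤ)) = 1 := mul_right_cancel₀ hq' (by linear_combination h3)
        omega
      · exact h
    rw [hf] at hβe
    rwa [eq_of_exp C (fun X x => exp_inv C he X x) hβe]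
  · haveI := hβ.1
    obtain ⟨f, hf⟩ := exists_exp C β
    have hcf : m • e = l • f := eq_of_forall_chi C K fun τ => by
      let Φ : (T ⟶ Red.Gm (Spec (CommRingCat.of k))) →* K :=
        { toFun := fun ζ => InvRing21.ptHom K (Red.gmFn (τ ≫ ζ))
          map_one' := by
            rw [gmFn_eq_ch, MonObj.comp_one, (charsDS (Spec (CommRingCat.of k)) ℤ).one, map_one]
          map_mul' := fun ζ ζ' => by
            rw [gmFn_eq_ch, gmFn_eq_ch, gmFn_eq_ch, MonObj.comp_mul, (charsDS (Spec (CommRingCat.of k)) ℤ).mul,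
              map_mul] }
      have h1 := congrArg Φ.toHomUnits h
      rw [map_zpow, map_zpow] at h1
      have h2 : ∀ {ζ g}, (∀ (X : Over (Spec (CommRingCat.of k))) (y : X ⟶ T),
          Red.gmFn (y ≫ ζ) = C.ch y (Multiplicative.ofAdd g)) →
          Φ.toHomUnits ζ = (chi C τ).toHomUnits (Multiplicative.ofAdd g) := fun {ζ g} hg => Units.ext (by
        show InvRing21.ptHom K (Red.gmFn (τ ≫ ζ)) = InvRing21.ptHom K (C.ch τ (Multiplicative.ofAdd g))
        rw [hg])
      rw [h2 he, h2 hf, ← MonoidHom.map_zpow, ← MonoidHom.map_zpow, ← ofAdd_zsmul, ← ofAdd_zsmul] at h1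
      exact congrArg Units.val h1
    rcases (hpair β hβ f hf m l hl hcf).1 with h' | h'
    · subst h'; exact Or.inl (eq_of_exp C hf he)
    · subst h'; exact Or.inr (eq_of_exp C hf (exp_inv C he))

include hdiag in
set_option maxHeartbeats 1600000 in
/-- Two tangent vectors of a root are proportional. -/
theorem tangent_unique [Smooth G.hom] (hG : Red.IsReductiveOver K (bcK K G)) (hT : AGF.IsMaxTorus (bcMap K iT))
    {α : T ⟶ Red.Gm (Spec (CommRingCat.of k))} (hα : LieWt.IsRoot iT α) :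
    ∃ i₀ j₀ : Fin n, i₀ ≠ j₀ ∧ ∀ v w : LieS.LieR G k, v ∈ LieWt.weightSpOf iT α k → w ∈ LieWt.weightSpOf iT α k →
      TrivSqZeroExt.snd (pmat r ((dIso₀ (k := k) k).inv ≫ v.1) i₀ j₀) =
        TrivSqZeroExt.snd (pmat r ((dIso₀ (k := k) k).inv ≫ w.1) i₀ j₀) → v = w := by
  classical
  haveI := hα.1
  obtain ⟨e, he⟩ := exists_exp C α
  have he0 : e ≠ 0 := exp_ne_zero C he hα.2.1
  haveI : IsAffine (bcK K G).left := hG.1
  haveI : Smooth (bcK K G).hom := hG.2.1
  haveI : ConnectedSpace (bcK K G).left := hG.2.2.1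
  haveI := hT.1
  obtain ⟨rK, hrKm, hrKc, hrK⟩ := exists_bcRep (K := K) r
  haveI := hrKm
  haveI := hrKc
  let CK := C.baseChange (DiagGL.ext' (k := k) K) T
  have hdiagK : ∀ (X : Over (Spec (CommRingCat.of K))) (x : X ⟶ bcK K T),
      mat ((x ≫ bcMap K iT) ≫ rK) = Matrix.diagonal fun j => CK.ch x (Multiplicative.ofAdd (a j)) := fun X x => by
    rw [hrK, DiagGL.fl_comp_map, hdiag]
    rfl
  obtain ⟨b₀, hb₀⟩ := exists_pairing_ne_zero {e} fun v hv => by rw [Finset.mem_singleton.1 hv]; exact he0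
  obtain ⟨b, heb⟩ : ∃ b, 0 < pairing e b := by
    rcases lt_or_gt_of_ne (hb₀ e (Finset.mem_singleton_self _)) with h | h
    · exact ⟨-b₀, by rw [show pairing e (-b₀) = -pairing e b₀ by simp [pairing]]; omega⟩
    · exact ⟨b₀, h⟩
  obtain ⟨U, _, iU, hUm, hUc, hUs, hUa, hU⟩ := exists_unip hdiag b (G := G) (r := r)
  haveI := hUm; haveI := hUc; haveI := hUs; haveI := hUa
  have hst := tStab_unip hdiag b iU hU
  obtain ⟨κ, _, p, -, hp, hbij⟩ := exists_entry_coords hdiag b iU 1 (MonObj.one_comp iU)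
    ((hU _ _).1 ⟨𝟙 _, Category.id_comp _⟩) hst
  obtain ⟨t₀, ht₀⟩ := exists_coord_of_root C hdiag K hα he heb iU hU p hp hbij
  have huniq : ∀ t, a (p t).1 - a (p t).2 = e → t = t₀ := fun t ht => by
    by_contra hne
    obtain ⟨x, P, hx, hx1⟩ := coord_family C hdiag K iU hst p hp hbij t₀ ht₀ hrK
    obtain ⟨y, Q, hy, hy1⟩ := coord_family C hdiag K iU hst p hp hbij t ht hrK
    obtain ⟨-, -, h⟩ := pair_weights CK hdiagK hG hT he0 hx hy ht₀ (by rw [hx1, if_pos rfl]; exact one_ne_zero)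
      ht (by rw [hy1, if_pos rfl]; exact one_ne_zero) he0 (c := 1) one_ne_zero rfl
    have h1 := h rfl _ _ _ _ ht₀ ht
    rw [hx1, hx1, hy1, hy1, if_pos rfl, if_pos rfl, if_neg hne, if_neg (Ne.symm hne), _root_.one_mul,
      MulZeroClass.zero_mul] at h1
    exact one_ne_zero h1
  have hne' : ∀ t, (p t).1 ≠ (p t).2 := fun t h => (hp t).ne (by rw [h])
  refine ⟨(p t₀).1, (p t₀).2, hne' t₀, fun v w hv hw hvw => ?_⟩
  obtain ⟨hvf, hvs⟩ := tangent_props C hdiag K he v hv
  obtain ⟨hwf, hws⟩ := tangent_props C hdiag K he w hw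
  obtain ⟨y, hy⟩ := tangent_mem heb iU hU _ hvf hvs
  obtain ⟨y', hy'⟩ := tangent_mem heb iU hU _ hwf hws
  refine Subtype.ext ((cancel_epi (dIso₀ (k := k) k).inv).1 ?_)
  rw [← hy, ← hy', hext_ring iU p hbij y y' fun t => TrivSqZeroExt.ext (by rw [hy, hy', hvf, hwf]) ?_]
  rw [hy, hy']
  by_cases ht : t = t₀
  · rw [ht]; exact hvw
  · rw [not_not.1 fun h => ht (huniq t (hvs _ _ h)), not_not.1 fun h => ht (huniq t (hws _ _ h))]

include hdiag in
set_option maxHeartbeats 1600000 in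
/-- A root space is a line. -/
theorem finrank_rootSpace [Smooth G.hom] (hG : Red.IsReductiveOver K (bcK K G)) (hT : AGF.IsMaxTorus (bcMap K iT))
    {L : Type*} [LieRing L] [LieAlgebra k L]
    (m : LieS.Model G k (Spec.map (CommRingCat.ofHom (algebraMap k k))) L)
    {α : T ⟶ Red.Gm (Spec (CommRingCat.of k))} (hα : LieWt.IsRoot iT α) :
    Module.finrank k ↥(LieWt.modelWeightSpOf m iT α) = 1 := by
  classical
  obtain ⟨i₀, j₀, hij, huniq⟩ := tangent_unique C hdiag K hG hT hα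
  obtain ⟨⟨v₀, hv₀⟩, hv₀'⟩ := Subgroup.ne_bot_iff_exists_ne_one.1 hα.2.2
  let σ : LieS.LieR G k → k := fun v => TrivSqZeroExt.snd (pmat r ((dIso₀ (k := k) k).inv ≫ v.1) i₀ j₀)
  have hσ : ∀ (c : k) (v : LieS.LieR G k), σ (c • v) = c * σ v := fun c v => by
    have h1 : (dIso₀ (k := k) k).inv ≫ (c • v).1 = VecGrp.ptMap (scA c) ≫ (dIso₀ (k := k) k).inv ≫ v.1 := by
      rw [LieS.smul_val, ← Category.assoc, ← Category.assoc]
      refine congrArg (· ≫ v.1) ?_
      rw [Iso.inv_comp_eq, ← Category.assoc, Iso.eq_comp_inv]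
      exact scale_dIso₀ c
    show TrivSqZeroExt.snd (pmat r ((dIso₀ (k := k) k).inv ≫ (c • v).1) i₀ j₀) = _
    rw [h1, pmat_comp_ptMap, Matrix.map_apply]
    simp [σ, scA, LieS.scaleHom, TrivSqZeroExt.algebraMap_eq_inl', mul_comm]
  have hσ0 : σ v₀ ≠ 0 := fun h => hv₀' (Subtype.ext (huniq v₀ 1 hv₀ (one_mem _) (by
    show σ v₀ = _
    rw [h]
    have h2 := hσ 0 (1 : LieS.LieR G k)
    rw [LieWt.rescale_one, MulZeroClass.zero_mul] at h2
    exact h2.symm)))
  obtain ⟨x₀, hx₀⟩ : ∃ x₀ : L, m.e (Multiplicative.ofAdd x₀) = v₀ :=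
    ⟨(m.e.symm v₀).toAdd, m.e.apply_symm_apply _⟩
  refine finrank_eq_one (⟨x₀, by rw [LieWt.modelWeightSpOf, LieWt.mem_modelWeightSp_iff, hx₀]; exact hv₀⟩ :
    ↥(LieWt.modelWeightSpOf m iT α)) (fun h => hv₀' (Subtype.ext ?_)) fun w => ?_
  · have h1 : x₀ = 0 := congrArg Subtype.val h
    show v₀ = 1
    rw [← hx₀, h1, ofAdd_zero, map_one]
  · refine ⟨σ (m.e (Multiplicative.ofAdd w.1)) / σ v₀, Subtype.ext ?_⟩
    apply Multiplicative.ofAdd.injective
    apply m.e.injective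
    show m.e (Multiplicative.ofAdd (_ • x₀)) = _
    rw [m.e_smul, hx₀]
    refine huniq _ _ (LieWt.rescale_mem_weightSp _ _ _ hv₀) w.2 ?_
    show σ (_ • v₀) = σ (m.e (Multiplicative.ofAdd w.1))
    rw [hσ, div_mul_cancel₀ _ hσ0]

end Groth.Agent.RankOne21
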