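import Groth.Agent.Lib.RankOne21.Local
import Groth.Agent.Lib.AttrBorel21.BorelGen

/-!
# Openness of reductivity in the presence of a split torus
-/

set_option autoImplicit false
set_option linter.style.haveILetI false
set_option linter.unusedSectionVars false
set_option backward.isDefEq.respectTransparency.types false

universe u

open CategoryTheory Limits MonoidalCategory CartesianMonoidalCategory MonObj AlgebraicGeometry

noncomputable section

namespace Groth.Agent.RankOne21

open DiagGL TorPts21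

variable {d : ℕ}

/-- Homomorphisms factoring through each other have the same centraliser. -/
theorem isCentralizerOf_congr {S : Scheme.{u}} {G H H' Z : Over S} [GrpObj G] [GrpObj H] [GrpObj H'] [GrpObj Z]
    {u : H ⟶ G} {u' : H' ⟶ G} {z : Z ⟶ G} (a : H ⟶ H') (b : H' ⟶ H) (ha : a ≫ u' = u) (hb : b ≫ u = u')
    (h : Red.IsCentralizerOf u z) : Red.IsCentralizerOf u' z := by
  refine ⟨h.1, h.2.1, fun X g => (h.2.2 X g).trans ⟨fun hg X' x s => ?_, fun hg X' x s => ?_⟩⟩
  · have := hg X' x (s ≫ b)
    rwa [Category.assoc, hb] at this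
  · have := hg X' x (s ≫ a)
    rwa [Category.assoc, ha] at this

/-- Kernels with the same characters factor through each other. -/
theorem exists_kerInc_factor {S : Scheme.{u}} {T : Over S} [GrpObj T] (C : Chars (Fin d → ℤ) T) (δ e : Fin d → ℤ)
    (h : ∀ x, proj e x = 0 → proj δ x = 0) :
    ∃ a : Red.DS S (Fin (rk δ) → ℤ) ⟶ Red.DS S (Fin (rk e) → ℤ), a ≫ kerInc C e = kerInc C δ := by
  refine ⟨MTRigid29.mapChS (charsDS S _) (charsDS S _)
    ((proj e).liftOfSurjective (proj_surjective e) ⟨proj δ, fun x hx => h x hx⟩), ?_⟩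
  rw [kerInc, kerInc, MTRigid29.mapChS_comp]
  congr 1
  exact AddMonoidHom.liftOfRightInverse_comp _ _ _ _

/-- Kernels commute with base change. -/
theorem exists_kerInc_bc {S S' : Scheme.{u}} (g : S' ⟶ S) {T : Over S} [GrpObj T] (C : Chars (Fin d → ℤ) T)
    (δ : Fin d → ℤ) :
    ∃ (a : Red.bc g (Red.DS S (Fin (rk δ) → ℤ)) ⟶ Red.DS S' (Fin (rk δ) → ℤ))
      (b : Red.DS S' (Fin (rk δ) → ℤ) ⟶ Red.bc g (Red.DS S (Fin (rk δ) → ℤ))),
      a ≫ kerInc (C.baseChange g T) δ = (Over.pullback g).map (kerInc C δ) ∧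
        b ≫ (Over.pullback g).map (kerInc C δ) = kerInc (C.baseChange g T) δ := by
  refine ⟨MTRigid29.mapChS ((charsDS S _).baseChange g _) (charsDS S' _) (AddMonoidHom.id _),
    MTRigid29.mapChS (charsDS S' _) ((charsDS S _).baseChange g _) (AddMonoidHom.id _), ?_, ?_⟩
  · rw [kerInc, kerInc, MTRigid29.pullback_map_mapChS, MTRigid29.mapChS_comp, AddMonoidHom.id_comp]
  · rw [kerInc, kerInc, MTRigid29.pullback_map_mapChS, MTRigid29.mapChS_comp, AddMonoidHom.id_comp]

variable {R : Type u} [CommRing R] {G T : Over (Spec (CommRingCat.of R))} [GrpObj G] [GrpObj T]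
  [IsAffineHom G.hom] [Smooth G.hom] (hconn : ∀ s : ↥(Spec (CommRingCat.of R)), _root_.IsConnected (G.hom.base ⁻¹' {s}))
  (iT : T ⟶ G) [IsMonHom iT] [IsClosedImmersion iT.left] (C : Chars (Fin d → ℤ) T)
  (s : ↥(Spec (CommRingCat.of R))) (hred : Red.IsReductiveOver (AlgebraicClosure ((Spec (CommRingCat.of R)).residueField s)) (Red.geomFibre s G))
  (hmax : Red.IsMaximalTorus ((Over.pullback (Red.geomPt s)).map iT))

include hconn C hred hmax in
set_option maxHeartbeats 3200000 in
/-- The centraliser of a kernel is reductive near `s`. -/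
theorem exists_nhd_kernel (δ : Fin d → ℤ) (hδ : δ ≠ 0) :
    ∃ U : Set ↥(Spec (CommRingCat.of R)), IsOpen U ∧ s ∈ U ∧ ∀ t ∈ U,
      ∃ (Z : Over (Spec (CommRingCat.of (AlgebraicClosure ((Spec (CommRingCat.of R)).residueField t))))) (_ : GrpObj Z)
        (z : Z ⟶ Red.geomFibre t G), Red.IsCentralizerOf
          (kerInc (C.baseChange (Red.geomPt t) T) δ ≫ (Over.pullback (Red.geomPt t)).map iT) z ∧
            Red.IsReductiveOver (AlgebraicClosure ((Spec (CommRingCat.of R)).residueField t)) Z := by
  haveI : Mono iT := Over.mono_of_mono_left iT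
  haveI : IsSeparated G.hom := inferInstance
  haveI : QuasiCompact G.hom := inferInstance
  have hT : Red.IsTorus T := isTorus_of_chars C
  have hS := isTorus_ker (Spec (CommRingCat.of R)) δ
  have hTft := isMultTypeFT_of_isTorus hT
  haveI : Smooth T.hom := CartanT21.smooth_of_torus hT
  obtain ⟨Z, _, z, hz, hzc, hzs⟩ := TorusCentr19.exists_centralizer'
    (MTRigid29.isMT_of_ft (isMultTypeFT_of_isTorus hS)) ‹Smooth G.hom› (kerInc C δ ≫ iT)
  haveI := hz.1
  haveI := hz.2.1
  haveI := hzc
  haveI := hzs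
  haveI : IsAffineHom Z.hom := by rw [← Over.w z]; infer_instance
  obtain ⟨f, hf⟩ := (hz.2.2 T iT).2 fun X x t => by
    rw [← Category.assoc t, ← MonObj.mul_comp, MTRigid29.commute_of_isMultTypeFT hTft, MonObj.mul_comp]
  haveI : IsMonHom f := MTExt21.isMonHom_of_comp' z f (by rw [hf]; infer_instance)
  haveI : IsClosedImmersion f.left := by
    haveI : IsClosedImmersion (f.left ≫ z.left) := by rw [← Over.comp_left, hf]; infer_instance
    exact IsClosedImmersion.of_comp f.left z.left
  haveI : LocallyOfFinitePresentation f.left := by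
    haveI : LocallyOfFinitePresentation (f.left ≫ Z.hom) := by rw [Over.w f]; infer_instance
    exact SchBasic.locallyOfFinitePresentation_of_comp f.left Z.hom
  have hZconn : ∀ y, _root_.IsConnected (Z.hom.base ⁻¹' {y}) := fun y =>
    CentMT21.isConnected_fibre_centralizer hconn hS hz y
  let P := fun t : ↥(Spec (CommRingCat.of R)) => Over.pullback (Red.geomPt t)
  have hcentr : ∀ t, Red.IsCentralizerOf (kerInc (C.baseChange (Red.geomPt t) T) δ ≫ (P t).map iT) ((P t).map z) :=
    fun t => by
      obtain ⟨a, b, ha, hb⟩ := exists_kerInc_bc (Red.geomPt t) C δ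
      haveI := MTRigid29.isMonHom_map iT (Red.geomPt t)
      refine isCentralizerOf_congr a b ?_ ?_ (CartanRel21.isCentralizerOf_bc hz (Red.geomPt t))
      · rw [← Category.assoc, ha, ← Functor.map_comp]
      · rw [Functor.map_comp, ← Category.assoc, hb]
  obtain ⟨hGa, hGs, hGc, -⟩ := id hred
  haveI := hGa; haveI := hGs; haveI := hGc
  haveI := MTRigid29.isMonHom_map iT (Red.geomPt s)
  haveI : Mono ((P s).map iT) := Functor.map_mono _ _
  haveI := MTRigid29.isMonHom_map f (Red.geomPt s)
  haveI := MTRigid29.isMonHom_map z (Red.geomPt s)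
  haveI : Mono ((P s).map z) := Functor.map_mono _ _
  have hS' := isTorus_ker (Spec (CommRingCat.of (AlgebraicClosure ((Spec (CommRingCat.of R)).residueField s)))) δ
  have hZred := isReductiveOver_centralizer hred hS' (hcentr s)
  obtain ⟨hZa, hZsm, hZn, -⟩ := id hZred
  haveI := hZa; haveI := hZsm; haveI := hZn
  have hfz : (P s).map f ≫ (P s).map z = (P s).map iT := by rw [← Functor.map_comp, hf]
  have hfmax := isMaxTorus_of_comp (isMaxTorus_of_isMaximalTorus hmax) ((P s).map z) ((P s).map f) hfz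
  haveI := hfmax.2.1
  haveI : IsClosedImmersion ((P s).map f).left :=
    MorphismProperty.of_isPullback (MTRigid29.isPullback_map_left (Red.geomPt s) f) ‹IsClosedImmersion f.left›
  let Cs := C.baseChange (Red.geomPt s) T
  have hdT : topologicalKrullDim ↥(Red.geomFibre s T).left = (d : WithBot ℕ∞) := TorusLift21.dim_of_chars (C := Cs)
  by_cases heq : topologicalKrullDim ↥(Red.geomFibre s Z).left = topologicalKrullDim ↥(Red.geomFibre s T).left
  · -- the centraliser is the torus
    have huniv : Set.range ((P s).map f).left = Set.univ := by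
      by_contra hne
      have hfin : topologicalKrullDim ↥(Red.geomFibre s Z).left ≠ ⊤ := by
        rw [heq, hdT]; exact fun h => ENat.natCast_ne_top d (WithBot.coe_inj.1 h)
      haveI : IrreducibleSpace ↥(Red.geomFibre s Z).left := AbRigid.irreducibleSpace_of_isAlgClosed _
      refine (TopDimLib.dim_lt_of_closed_ssubset hfin _
        ((P s).map f).left.isClosedEmbedding.isClosed_range hne).ne ?_
      rw [heq]
      exact ((P s).map f).left.isClosedEmbedding.isEmbedding.toHomeomorph.isHomeomorph.topologicalKrullDim_eq.symm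
    obtain ⟨l, hl⟩ := exists_lift_of_range ((P s).map f) (𝟙 (Red.geomFibre s Z)) (by rw [huniv]; exact Set.subset_univ _)
    refine ⟨CartanNhd21.unitFlatLocus f, CartanNhd21.isOpen_unitFlatLocus f,
      CartanNhd21.mem_unitFlatLocus f ⟨l, ?_, hl⟩, fun t ht => ?_⟩
    · rw [← cancel_mono ((P s).map f), Category.assoc, hl, Category.comp_id, Category.id_comp]
    · haveI := CartanNhd21.isIso_of_mem_unitFlatLocus f (CentMT21.connectedSpace_geomFibre Z hZconn t) ht
      haveI := MTRigid29.isMonHom_map iT (Red.geomPt t)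
      refine ⟨Red.geomFibre t T, inferInstance, (P t).map iT,
        ⟨inferInstance, Functor.map_mono _ _, fun X q => ?_⟩,
        UInvFG21.isReductiveOver_torus (TorusHom19.isTorus_bc hT _)⟩
      rw [← (hcentr t).2.2 X q, show (P t).map iT = (P t).map f ≫ (P t).map z by rw [← Functor.map_comp, hf]]
      exact ⟨fun ⟨w, hw⟩ => ⟨w ≫ (P t).map f, by rw [Category.assoc]; exact hw⟩,
        fun ⟨w, hw⟩ => ⟨w ≫ inv ((P t).map f), by rw [Category.assoc, IsIso.inv_hom_id_assoc]; exact hw⟩⟩
  · -- semisimple rank one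
    have hle : topologicalKrullDim ↥(Red.geomFibre s Z).left ≤ topologicalKrullDim ↥(Red.geomFibre s T).left + 2 := by
      rw [hdT, show ((d : WithBot ℕ∞) + 2) = ((d + 2 : ℕ) : WithBot ℕ∞) by norm_num]
      refine dim_le_of_central Cs hZred hfmax δ hδ fun τ p q c hτ x => ?_
      let bs := Module.finBasis ℤ (LinearMap.range (prLin δ))
      let ℓ : (Fin (rk δ) → ℤ) →+ ℤ := ((LinearMap.proj (p, q)).comp
        ((LinearMap.range (prLin δ)).subtype.comp bs.equivFun.symm.toLinearMap)).toAddMonoidHom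
      obtain ⟨σ, hσ⟩ := exists_ptChr (charsDS (Spec (CommRingCat.of
          (AlgebraicClosure ((Spec (CommRingCat.of R)).residueField s)))) (Fin (rk δ) → ℤ))
        ((Units.coeHom _).comp ((zpowersHom _ c).comp ℓ.toMultiplicative))
      have hτσ : σ ≫ kerInc Cs δ = τ := Cs.inj fun m => InvRing21.ptHom_injective _ (by
        show ptChr Cs (σ ≫ kerInc Cs δ) (Multiplicative.ofAdd m.toAdd) = ptChr Cs τ (Multiplicative.ofAdd m.toAdd)
        rw [ptChr_kerInc, hσ, hτ]
        show ((c ^ ((bs.equivFun.symm (proj δ m.toAdd) : LinearMap.range (prLin δ)) : Fin d × Fin d → ℤ) (p, q) : _ˣ) :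
          AlgebraicClosure ((Spec (CommRingCat.of R)).residueField s)) = _
        rw [show bs.equivFun.symm (proj δ m.toAdd) = (prLin δ).rangeRestrict m.toAdd from bs.equivFun.symm_apply_apply _]
        rfl)
      refine (cancel_mono ((P s).map z)).1 ?_
      rw [MonObj.mul_comp, MonObj.mul_comp, Category.assoc τ, hfz, ← hτσ, Category.assoc σ]
      exact centralizer_comm (hcentr s) x σ
    obtain ⟨U, hUo, hsU, hU⟩ := exists_nhd_rankOne Z T hZconn f inferInstance hT s hZred
      (AttrBorel21.isMaximalTorus_of_isMaxTorus hfmax) heq hle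
    exact ⟨U, hUo, hsU, fun t ht => ⟨Red.geomFibre t Z, inferInstance, (P t).map z, hcentr t, hU t ht⟩⟩

include hconn C hred hmax in
set_option maxHeartbeats 3200000 in
/-- **Openness of reductivity** along a split torus maximal at `s`. -/
theorem exists_nhd_reductive :
    ∃ U : Set ↥(Spec (CommRingCat.of R)), IsOpen U ∧ s ∈ U ∧ ∀ t ∈ U,
      Red.IsReductiveOver (AlgebraicClosure ((Spec (CommRingCat.of R)).residueField t)) (Red.geomFibre t G) ∧
        Red.IsMaximalTorus ((Over.pullback (Red.geomPt t)).map iT) := by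
  classical
  haveI : Mono iT := Over.mono_of_mono_left iT
  haveI : IsAffine G.left := isAffine_of_isAffineHom G.hom
  haveI : IsSeparated G.hom := inferInstance
  haveI : QuasiCompact G.hom := inferInstance
  have hT : Red.IsTorus T := isTorus_of_chars C
  have hTft := isMultTypeFT_of_isTorus hT
  haveI : Smooth T.hom := CartanT21.smooth_of_torus hT
  obtain ⟨Δ, hΔ⟩ := exists_weights_kernel iT C
  -- the torus is its own centraliser near `s`
  obtain ⟨Z, _, z, hz, hzc, hzs⟩ := TorusCentr19.exists_centralizer' (MTRigid29.isMT_of_ft hTft) ‹Smooth G.hom› iT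
  haveI := hz.1
  haveI := hz.2.1
  haveI := hzc
  haveI := hzs
  obtain ⟨f, hf⟩ := (hz.2.2 T iT).2 fun X x t => by
    rw [← MonObj.mul_comp, MTRigid29.commute_of_isMultTypeFT hTft, MonObj.mul_comp]
  haveI : IsMonHom f := MTExt21.isMonHom_of_comp' z f (by rw [hf]; infer_instance)
  haveI : IsClosedImmersion f.left := by
    haveI : IsClosedImmersion (f.left ≫ z.left) := by rw [← Over.comp_left, hf]; infer_instance
    exact IsClosedImmersion.of_comp f.left z.left
  haveI : IsSeparated Z.hom := by rw [← Over.w z]; infer_instance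
  haveI : LocallyOfFinitePresentation f.left := by
    haveI : LocallyOfFinitePresentation (f.left ≫ Z.hom) := by rw [Over.w f]; infer_instance
    exact SchBasic.locallyOfFinitePresentation_of_comp f.left Z.hom
  let P := fun t : ↥(Spec (CommRingCat.of R)) => Over.pullback (Red.geomPt t)
  have hfz : ∀ t, (P t).map f ≫ (P t).map z = (P t).map iT := fun t => by rw [← Functor.map_comp, hf]
  have hs₀ : s ∈ CartanNhd21.unitFlatLocus f := by
    haveI := MTRigid29.isMonHom_map iT (Red.geomPt s)
    obtain ⟨l, hl⟩ := exists_lift_cartan_reductive hred (isMaxTorus_of_isMaximalTorus hmax)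
      (CartanRel21.isCentralizerOf_bc hz (Red.geomPt s))
    refine CartanNhd21.mem_unitFlatLocus f ⟨l, ?_, ?_⟩
    · haveI : Mono ((P s).map iT) := Functor.map_mono _ _
      rw [← cancel_mono ((P s).map iT), Category.assoc, hl, hfz, Category.id_comp]
    · haveI : Mono ((P s).map z) := Functor.map_mono _ _
      rw [← cancel_mono ((P s).map z), Category.assoc, hfz, hl, Category.id_comp]
  choose U hUo hsU hU using fun e : {e // e ∈ Δ.filter (· ≠ 0)} =>
    exists_nhd_kernel hconn iT C s hred hmax e.1 (Finset.mem_filter.1 e.2).2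
  refine ⟨CartanNhd21.unitFlatLocus f ∩ ⋂ e, U e, (CartanNhd21.isOpen_unitFlatLocus f).inter (isOpen_iInter_of_finite hUo),
    ⟨hs₀, Set.mem_iInter.2 hsU⟩, fun t ⟨htf, htU⟩ => ?_⟩
  haveI := MTRigid29.isMonHom_map iT (Red.geomPt t)
  haveI : Smooth (Red.geomFibre t G).hom := inferInstanceAs (Smooth (pullback.snd G.hom (Red.geomPt t)))
  haveI : IsAffineHom (Red.geomFibre t G).hom := inferInstanceAs (IsAffineHom (pullback.snd G.hom (Red.geomPt t)))
  haveI : IsAffine (Red.geomFibre t G).left := isAffine_of_isAffineHom (Red.geomFibre t G).hom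
  haveI : ConnectedSpace ↥(Red.geomFibre t G).left := CentMT21.connectedSpace_geomFibre G hconn t
  haveI := CartanNhd21.isIso_of_mem_unitFlatLocus f (CentMT21.connectedSpace_geomFibre Z
    (fun y => CentMT21.isConnected_fibre_centralizer hconn hT hz y) t) htf
  have hzt := CartanRel21.isCentralizerOf_bc hz (Red.geomPt t)
  have hct : Red.IsCentralizerOf ((P t).map iT) ((P t).map iT) := by
    refine ⟨inferInstance, Functor.map_mono _ _, fun X q => ⟨fun ⟨w, hw⟩ => ?_, fun h => ?_⟩⟩
    · exact (hzt.2.2 X q).1 ⟨w ≫ (P t).map f, by rw [Category.assoc, hfz, hw]⟩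
    · obtain ⟨w, hw⟩ := (hzt.2.2 X q).2 h
      exact ⟨w ≫ inv ((P t).map f), by rw [← hfz, Category.assoc, IsIso.inv_hom_id_assoc, hw]⟩
  have hTt := TorusHom19.isTorus_bc hT (Red.geomPt t)
  refine ⟨isReductiveOver_of_kernels hTt hct (C.baseChange (Red.geomPt t) T) fun δ hδ => ?_,
    AttrBorel21.isMaximalTorus_of_isMaxTorus (isMaxTorus_of_selfCentralizing hTt hct)⟩
  by_cases hex : ∃ e ∈ Δ, e ≠ 0 ∧ proj δ e = 0
  · -- a kernel of one of the weights
    obtain ⟨e, he, he0, hδe⟩ := hex
    obtain ⟨Z', _, z', hz', hr'⟩ := hU ⟨e, Finset.mem_filter.2 ⟨he, he0⟩⟩ t (Set.mem_iInter.1 htU _)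
    refine ⟨Z', inferInstance, z', ?_, hr'⟩
    have h1 := (proj_eq_zero_iff δ e).1 hδe
    obtain ⟨p₀, hp₀⟩ : ∃ p, δ p ≠ 0 := Function.ne_iff.1 hδ
    obtain ⟨q₀, hq₀⟩ : ∃ q, e q ≠ 0 := Function.ne_iff.1 he0
    have heq : ∀ x, proj δ x = 0 ↔ proj e x = 0 := fun x => by
      rw [proj_eq_zero_iff, proj_eq_zero_iff]
      refine ⟨fun h p q => mul_left_cancel₀ hp₀ ?_, fun h p q => mul_left_cancel₀ hq₀ ?_⟩
      · linear_combination (x q) * (h1 p₀ p) + (e p₀) * (h p q) - (x p) * (h1 p₀ q)
      · linear_combination (x q) * (h1 p q₀) + (δ q₀) * (h p q) - (x p) * (h1 q q₀)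
    obtain ⟨a, ha⟩ := exists_kerInc_factor (C.baseChange (Red.geomPt t) T) δ e fun x h => (heq x).2 h
    obtain ⟨b, hb⟩ := exists_kerInc_factor (C.baseChange (Red.geomPt t) T) e δ fun x h => (heq x).1 h
    exact isCentralizerOf_congr b a (by rw [← Category.assoc, hb]) (by rw [← Category.assoc, ha]) hz'
  · -- the kernel sees all weights
    push Not at hex
    refine ⟨Red.geomFibre t T, inferInstance, (P t).map iT, ⟨inferInstance, Functor.map_mono _ _, fun X q => ?_⟩,
      UInvFG21.isReductiveOver_torus hTt⟩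
    constructor
    · rintro ⟨w, rfl⟩ X' x σ
      rw [← Category.assoc σ, ← Category.assoc x, ← MonObj.mul_comp, AttrBorel21.mul_comm_of_isTorus hTt,
        MonObj.mul_comp]
    · intro hq
      have hS := isTorus_ker (Spec (CommRingCat.of (AlgebraicClosure ((Spec (CommRingCat.of R)).residueField t)))) δ
      obtain ⟨Zc, _, zc, hzc', hzcc, hzcs⟩ := TorusCentr19.exists_centralizer'
        (MTRigid29.isMT_of_ft (isMultTypeFT_of_isTorus hS)) ‹Smooth (Red.geomFibre t G).hom›
        (kerInc (C.baseChange (Red.geomPt t) T) δ ≫ (P t).map iT)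
      haveI := hzcc
      haveI := hzcs
      haveI : IsReduced Zc.left := OrbitTop19.isReduced_of_smooth Zc.hom
      haveI := isClosedImmersion_of_torus hTt ((P t).map iT)
      obtain ⟨l, hl⟩ := AttrBorel21.exists_lift_closed_of_pts ((P t).map iT) zc fun y => by
        obtain ⟨g, hg⟩ := exists_gpt (y ≫ zc)
        obtain ⟨w, hw⟩ := exists_lift_centralizer_pt hTt hct g (hΔ δ hex _ (Red.geomPt t) (gpt g) fun σ => by
          rw [hg]; exact centralizer_comm hzc' y σ)
        exact ⟨gpt w, by rw [gpt, Category.assoc, hw]; exact hg⟩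
      obtain ⟨w, hw⟩ := (hzc'.2.2 X q).2 hq
      exact ⟨w ≫ l, by rw [Category.assoc, hl, hw]⟩

end Groth.Agent.RankOne21
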