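import Groth.Agent.Lib.RankOne21.CritRoot
import Groth.Agent.Lib.TorPts21.GeomIso
import Groth.Agent.Lib.TorPts21.FieldDescent
import Groth.Agent.Lib.RedLR15.Converse

/-!
# The connected kernel of a root
-/

set_option autoImplicit false
set_option linter.style.haveILetI false
set_option linter.unusedSectionVars false
set_option backward.isDefEq.respectTransparency.types false

universe u

open CategoryTheory Limits MonoidalCategory CartesianMonoidalCategory MonObj AlgebraicGeometry

noncomputable section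

namespace Groth.Agent.RankOne21

open InvRing21 DiagGL TorPts21 BigCell21 BorelLam21 AttrBorel21

attribute [local instance] InvRing21.gamAlg BorelFix21.ptsTop

variable {k : Type u} [Field k] [IsAlgClosed k]

/-- Reductivity over an algebraically closed field. -/
theorem isReductiveOver_self {G : Over (Spec (CommRingCat.of k))} [GrpObj G] (hG : Red.IsReductive G) :
    Red.IsReductiveOver k G := by
  obtain ⟨hGa, hGs, hGc⟩ := props_of_isReductive hG
  haveI := hGa; haveI := hGs; haveI := hGc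
  let s : ↥(Spec (CommRingCat.of k)) := IsLocalRing.closedPoint k
  refine ⟨hGa, hGs, hGc, fun U _ j _ hjc hjs hjn hjN hU => ?_⟩
  haveI := hjc
  haveI := hjs
  haveI hi : IsIso (Red.geomPt s) := isIso_geomPt s
  exact trivial_of_bc (Red.geomPt s) ((hG.2.2 s).2.2.2 (Red.bc (Red.geomPt s) U)
    ((Over.pullback (Red.geomPt s)).map j) (BorelFix21.isClosedImmersion_bc _ j) (BorelFix21.smooth_bc _ U)
    ((connectedSpace_pullback_iff (Red.geomPt s)).2 hjn) (isNormalHom_bc _ hjN) (hasNoSubtorus_geomFibre s hU))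

variable {d : ℕ} {T : Over (Spec (CommRingCat.of k))} [GrpObj T] (C : Chars (Fin d → ℤ) T)

theorem gm_ext {X : Over (Spec (CommRingCat.of k))} {z z' : X ⟶ Red.Gm (Spec (CommRingCat.of k))}
    (h : Red.gmFn z = Red.gmFn z') : z = z' := by
  have hchi : Red.chi (Spec (CommRingCat.of k)) (1 : ℤ) = 𝟙 _ := (charsDS _ ℤ).inj fun w => by
    obtain ⟨w, rfl⟩ := Multiplicative.ofAdd.surjective w
    rw [Red.chi]
    have := AttrBorel21.gmFn_DSmap (𝟙 (Red.DS (Spec (CommRingCat.of k)) ℤ)) (zmultiplesHom ℤ (1 : ℤ)) w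
    rw [Category.id_comp] at this
    rw [this]
    simp
  have hgm : ∀ w : X ⟶ Red.Gm (Spec (CommRingCat.of k)),
      Red.gmFn w = (charsDS (Spec (CommRingCat.of k)) ℤ).ch w (Multiplicative.ofAdd 1) := fun w => by
    rw [← AttrBorel21.gmFn_chi, hchi]
    exact congrArg Red.gmFn (Category.comp_id w).symm
  refine (charsDS (Spec (CommRingCat.of k)) ℤ).inj fun w => ?_
  exact DFunLike.congr_fun (MonoidHom.ext_mint (f := (charsDS (Spec (CommRingCat.of k)) ℤ).ch z)
    (g := (charsDS (Spec (CommRingCat.of k)) ℤ).ch z') (by rw [← hgm, ← hgm, h])) w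

/-- A root is trivial on its connected kernel. -/
theorem kerInc_comp {α : T ⟶ Red.Gm (Spec (CommRingCat.of k))} (e : Fin d → ℤ)
    (hα : ∀ (X : Over (Spec (CommRingCat.of k))) (x : X ⟶ T), Red.gmFn (x ≫ α) = C.ch x (Multiplicative.ofAdd e)) :
    kerInc C e ≫ α = 1 := by
  refine gm_ext ?_
  obtain ⟨w, hw⟩ := exists_char C 0
  haveI := hw.1
  rw [show (1 : Red.DS (Spec (CommRingCat.of k)) (Fin (rk e) → ℤ) ⟶ Red.Gm (Spec (CommRingCat.of k))) =
    (1 : Red.DS (Spec (CommRingCat.of k)) (Fin (rk e) → ℤ) ⟶ T) ≫ w from (MonObj.one_comp w).symm, hw.2, C.one, hα,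
    ← Category.id_comp (kerInc C e), kerInc, MTRigid29.ch_mapChS]
  show (charsDS _ _).ch _ (Multiplicative.ofAdd (proj e e)) = 1
  rw [(proj_eq_zero_iff e e).2 fun p q => mul_comm _ _]
  exact map_one _

/-- Roots of points of a torus. -/
theorem exists_root_pt {r : ℕ} {σ : Over (Spec (CommRingCat.of k))} [GrpObj σ] (C' : Chars (Fin r → ℤ) σ)
    (x : VecGrp.pt k k ⟶ σ) {m : ℤ} (hm : m ≠ 0) : ∃ y : VecGrp.pt k k ⟶ σ, y ^ m = x := by
  have hr : ∀ u : kˣ, ∃ v : kˣ, v ^ m = u := fun u => by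
    obtain ⟨v, hv⟩ := IsAlgClosed.exists_pow_nat_eq (u : k) (Int.natAbs_pos.2 hm)
    have hv0 : v ≠ 0 := fun h => u.ne_zero (by rw [← hv, h, zero_pow (Int.natAbs_ne_zero.2 hm)])
    rcases Int.natAbs_eq m with h | h
    · exact ⟨Units.mk0 v hv0, by rw [h, zpow_natCast]; exact Units.ext (by simpa using hv)⟩
    · exact ⟨(Units.mk0 v hv0)⁻¹, by
        rw [h, zpow_neg, zpow_natCast, inv_pow, inv_inv]; exact Units.ext (by simpa using hv)⟩
  choose v hv using fun l : Fin r => hr ((ptChr C' x).toHomUnits (Multiplicative.ofAdd (Pi.single l 1)))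
  obtain ⟨y, hy⟩ := AttrBorel21.exists_chi C' (monom v)
  refine ⟨y, AttrBorel21.chi_ext C' fun l => ?_⟩
  let f : (VecGrp.pt k k ⟶ σ) →* kˣ := MonoidHom.mk'
    (fun z => (ptChr C' z).toHomUnits (Multiplicative.ofAdd (Pi.single l 1))) fun z z' => Units.ext (by
      show InvRing21.ptHom k (C'.ch (z * z') _) = InvRing21.ptHom k (C'.ch z _) * InvRing21.ptHom k (C'.ch z' _)
      rw [C'.mul, map_mul])
  have h1 : f y = v l := Units.ext ((hy _).trans (monom_single v l))
  have h2 : f (y ^ m) = f x := by rw [map_zpow, h1, hv]; rfl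
  exact congrArg Units.val h2

/-- The connected kernel is the largest subtorus killed by the root. -/
theorem exists_lift_kerInc {α : T ⟶ Red.Gm (Spec (CommRingCat.of k))} (e : Fin d → ℤ) (he : e ≠ 0)
    (hα : ∀ (X : Over (Spec (CommRingCat.of k))) (x : X ⟶ T), Red.gmFn (x ≫ α) = C.ch x (Multiplicative.ofAdd e))
    {T' : Over (Spec (CommRingCat.of k))} [GrpObj T'] (j' : T' ⟶ T) [IsMonHom j'] (hT' : Red.IsTorus T')
    (hj : j' ≫ α = 1) :
    ∃ f : T' ⟶ Red.DS (Spec (CommRingCat.of k)) (Fin (rk e) → ℤ), f ≫ kerInc C e = j' := by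
  obtain ⟨hTa, hTs, hTn, -⟩ := props_of_isTorus hT'
  haveI := hTa; haveI := hTs
  obtain ⟨r, ⟨C'⟩⟩ := exists_chars hT'
  obtain ⟨p, hp⟩ : ∃ p, e p ≠ 0 := by
    by_contra! h
    exact he (funext h)
  have hkill : C.ch j' (Multiplicative.ofAdd e) = 1 := by
    rw [← hα, hj]
    obtain ⟨w, hw⟩ := exists_char C 0
    haveI := hw.1
    rw [show (1 : T' ⟶ Red.Gm (Spec (CommRingCat.of k))) = (1 : T' ⟶ T) ≫ w from (MonObj.one_comp w).symm, hw.2, C.one]
  have hker : ∀ m, proj e m = 0 → C.ch j' (Multiplicative.ofAdd m) = 1 := fun m hm => by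
    refine InvRing21.ext_val fun x => ?_
    rw [map_one]
    obtain ⟨y, hy⟩ := exists_root_pt C' x hp
    let f : (VecGrp.pt k k ⟶ T') → kˣ := fun z => (ptChr C (z ≫ j')).toHomUnits (Multiplicative.ofAdd m)
    have hmem : e p • m = m p • e := funext fun q => by
      have := (proj_eq_zero_iff e m).1 hm p q
      simp only [Pi.smul_apply, smul_eq_mul]
      linarith
    have hval : ∀ (z : VecGrp.pt k k ⟶ T') g, val z (C.ch j' g) = ptChr C (z ≫ j') g := fun z g => by
      show _ = InvRing21.ptHom k (C.ch (z ≫ j') g)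
      rw [C.nat]
      rfl
    have h1 : ∀ z : VecGrp.pt k k ⟶ T', f z ^ e p = 1 := fun z => by
      have h2 : ((ptChr C (z ≫ j')).toHomUnits (Multiplicative.ofAdd e)) = 1 := Units.ext (by
        show ptChr C (z ≫ j') (Multiplicative.ofAdd e) = 1
        rw [← hval, hkill, map_one])
      show ((ptChr C (z ≫ j')).toHomUnits (Multiplicative.ofAdd m)) ^ e p = 1
      rw [← map_zpow, ← ofAdd_zsmul, hmem, ofAdd_zsmul, map_zpow, h2, one_zpow]
    let F : (VecGrp.pt k k ⟶ T') →* kˣ := MonoidHom.mk' f fun z z' => Units.ext (by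
      show InvRing21.ptHom k (C.ch ((z * z') ≫ j') _) = InvRing21.ptHom k (C.ch (z ≫ j') _) * InvRing21.ptHom k (C.ch (z' ≫ j') _)
      rw [MonObj.mul_comp, C.mul, map_mul])
    have h3 : f x = 1 := by
      show F x = 1
      rw [← hy, map_zpow]
      exact h1 y
    rw [hval]
    exact congrArg Units.val h3
  choose pre hpre using fun l : Fin (rk e) => proj_surjective e (Pi.single l 1)
  let sec : (Fin (rk e) → ℤ) →+ (Fin d → ℤ) := (Fintype.linearCombination ℤ pre).toAddMonoidHom
  have hsec : ∀ n, proj e (sec n) = n := fun n => by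
    show proj e (Fintype.linearCombination ℤ pre n) = n
    rw [Fintype.linearCombination_apply, map_sum]
    simp only [map_zsmul, hpre]
    funext l
    simp [Pi.single_apply]
  obtain ⟨f, hf⟩ := (charsDS (Spec (CommRingCat.of k)) (Fin (rk e) → ℤ)).surj (T := T')
    ((C.ch j').comp sec.toMultiplicative)
  refine ⟨f, C.inj fun m => ?_⟩
  rw [kerInc, MTRigid29.ch_mapChS, hf]
  obtain ⟨m, rfl⟩ := Multiplicative.ofAdd.surjective m
  show C.ch j' (Multiplicative.ofAdd (sec (proj e m))) = C.ch j' (Multiplicative.ofAdd m)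
  have h1 := hker (m - sec (proj e m)) (by rw [map_sub, hsec, sub_self])
  conv_rhs => rw [← sub_add_cancel m (sec (proj e m)), ofAdd_add, map_mul, h1, _root_.one_mul]

end Groth.Agent.RankOne21
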