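import Groth.Agent.Lib.RankOne21.Transfer
import Groth.Agent.Lib.TorusHom19.Basic
import Groth.Agent.Lib.TorPts21.FieldDescent
import Groth.Agent.Lib.MTExt21.BaseChange

/-!
# Semisimplicity of geometric fibres along unramified morphisms
-/

set_option autoImplicit false
set_option linter.style.haveILetI false
set_option linter.unusedSectionVars false
set_option backward.isDefEq.respectTransparency.types false

universe u

open CategoryTheory Limits MonoidalCategory CartesianMonoidalCategory MonObj AlgebraicGeometry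

noncomputable section

namespace Groth.Agent.RankOne21

open DiagGL

/-- Semisimplicity only depends on the group up to isomorphism. -/
theorem isSemisimpleOver_of_iso {k : Type u} [Field k] [IsAlgClosed k] {G H : Over (Spec (CommRingCat.of k))}
    [GrpObj G] [GrpObj H] (e : G ≅ H) [IsMonHom e.hom] (h : Red.IsSemisimpleOver k G) :
    Red.IsSemisimpleOver k H := by
  refine ⟨isReductiveOver_of_iso e h.1, fun T _ i _ hi hn hT => ?_⟩
  haveI := hi
  haveI : IsIso e.inv.left := inferInstanceAs (IsIso ((Over.forget _).map e.inv))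
  refine h.2 T (i ≫ e.inv) (by rw [Over.comp_left]; infer_instance) (fun X g n => ?_) hT
  obtain ⟨n', hn'⟩ := hn X (g ≫ e.hom) n
  refine ⟨n', ?_⟩
  have := congrArg (· ≫ e.inv) hn'
  simpa [MonObj.mul_comp, GrpObj.inv_comp, Category.assoc] using this

/-- Semisimplicity is insensitive to isomorphisms of the base field. -/
theorem isSemisimpleOver_bc_of_isIso {k K : Type u} [Field k] [IsAlgClosed k] [Field K] [IsAlgClosed K]
    (φ : Spec (CommRingCat.of K) ⟶ Spec (CommRingCat.of k)) [IsIso φ]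
    {G : Over (Spec (CommRingCat.of k))} [GrpObj G] (hG : Red.IsSemisimpleOver k G) :
    Red.IsSemisimpleOver K (Red.bc φ G) := by
  refine ⟨RedLR15.isReductiveOver_bc_of_isIso φ hG.1, fun U _ i _ hic hin hU => ?_⟩
  haveI := hic
  haveI := hG.1.1
  haveI := hG.1.2.1
  obtain ⟨hUa, hUs, -, -⟩ := TorPts21.props_of_isTorus hU
  haveI := hUa
  haveI := hUs
  let ψ := inv φ
  let ι₀ : ∀ X : Over (Spec (CommRingCat.of k)), (Over.map φ).obj ((Over.map ψ).obj X) ≅ X := fun X =>
    Over.isoMk (Iso.refl _) (by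
      show 𝟙 _ ≫ X.hom = (X.hom ≫ ψ) ≫ φ
      rw [Category.id_comp, Category.assoc, IsIso.inv_hom_id, Category.comp_id])
  let c : ∀ {X : Over (Spec (CommRingCat.of k))}, (X ⟶ Red.bc ψ U) → (X ⟶ G) := fun {X} x =>
    (ι₀ X).inv ≫ fl φ G (fl ψ U x ≫ i)
  have hcmul : ∀ {X : Over (Spec (CommRingCat.of k))} (x y : X ⟶ Red.bc ψ U), c (x * y) = c x * c y := fun x y => by
    simp only [c, fl_mul, MonObj.mul_comp, MonObj.comp_mul]
  have hcn : ∀ {X Y : Over (Spec (CommRingCat.of k))} (t : X ⟶ Y) (y : Y ⟶ Red.bc ψ U), c (t ≫ y) = t ≫ c y :=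
    fun {X Y} t y => by
      simp only [c]
      rw [show fl ψ U (t ≫ y) ≫ i = (Over.map ψ).map t ≫ (fl ψ U y ≫ i) by rw [fl_comp, Category.assoc],
        fl_comp, ← Category.assoc, ← Category.assoc]
      congr 1
  let i' : Red.bc ψ U ⟶ G := c (𝟙 _)
  have hi' : ∀ {X : Over (Spec (CommRingCat.of k))} (x : X ⟶ Red.bc ψ U), x ≫ i' = c x := fun x => by
    rw [← hcn, Category.comp_id]
  haveI : IsMonHom i' := TorsorSch25.isMonHom_of_points i' fun X x y => by rw [hi', hi', hi', hcmul]
  haveI : IsAffine (Red.bc ψ U).left := BorelFix21.isAffine_bc ψ U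
  haveI : Smooth (Red.bc ψ U).hom := BorelFix21.smooth_bc ψ U
  haveI : IsClosedImmersion i'.left := by
    have e : i'.left = pullback.fst U.hom ψ ≫ i.left ≫ pullback.fst G.hom φ := by
      simp [i', c, ι₀, fl, Adjunction.homEquiv_counit, Category.assoc]
    rw [e]
    infer_instance
  have hnorm : AlgGrp.IsNormalHom i' := fun X g x => by
    obtain ⟨g', hg'⟩ := fl_surjective φ G ((ι₀ X).hom ≫ g)
    obtain ⟨n', hn'⟩ := hin _ g' (fl ψ U x)
    obtain ⟨n, rfl⟩ := fl_surjective ψ U n'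
    refine ⟨n, ?_⟩
    rw [hi', hi']
    show g * ((ι₀ X).inv ≫ fl φ G (fl ψ U x ≫ i)) * g⁻¹ = (ι₀ X).inv ≫ fl φ G (fl ψ U n ≫ i)
    rw [← hn', fl_mul, fl_mul,
      show fl φ G g'⁻¹ = (fl φ G g')⁻¹ from map_inv (MonoidHom.mk' (fl φ G) (fl_mul φ G)) g', hg',
      MonObj.comp_mul, MonObj.comp_mul, GrpObj.comp_inv, Iso.inv_hom_id_assoc]
  exact TorPts21.trivial_of_bc ψ (hG.2 _ i' inferInstance hnorm (TorusHom19.isTorus_bc hU ψ))

variable {S X : Scheme.{u}} (f : X ⟶ S) [FormallyUnramified f] [LocallyOfFiniteType f]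

/-- Semisimplicity of a fibre of a base change. -/
theorem isSemisimpleOver_geomFibre_iff (G : Over S) [GrpObj G] (b : X) :
    Red.IsSemisimpleOver (AlgebraicClosure (X.residueField b)) (Red.geomFibre b (Red.bc f G)) ↔
      Red.IsSemisimpleOver (AlgebraicClosure (S.residueField (f b))) (Red.geomFibre (f b) G) := by
  obtain ⟨φ, hφi, hφ⟩ := exists_iso_geomPt f b
  haveI := hφi
  let e₁ := SpreadSub19.bcComp f (Red.geomPt b) (c := Red.geomPt b ≫ f) rfl G
  haveI : IsMonHom e₁.hom := SpreadSub19.bcComp_isMonHom f (Red.geomPt b) rfl G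
  constructor
  · intro h
    have h1 := isSemisimpleOver_of_iso e₁ h
    have h2 := isSemisimpleOver_bc_of_isIso (inv φ) h1
    have hc : inv φ ≫ Red.geomPt b ≫ f = Red.geomPt (f b) := by rw [← hφ, IsIso.inv_hom_id_assoc]
    haveI := SpreadSub19.bcComp_isMonHom (Red.geomPt b ≫ f) (inv φ) hc G
    exact isSemisimpleOver_of_iso (SpreadSub19.bcComp (Red.geomPt b ≫ f) (inv φ) hc G) h2
  · intro h
    have h2 := isSemisimpleOver_bc_of_isIso φ h
    haveI := SpreadSub19.bcComp_isMonHom (Red.geomPt (f b)) φ hφ G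
    have h3 := isSemisimpleOver_of_iso (SpreadSub19.bcComp (Red.geomPt (f b)) φ hφ G) h2
    haveI : IsMonHom e₁.symm.hom := inferInstanceAs (IsMonHom e₁.inv)
    exact isSemisimpleOver_of_iso e₁.symm h3

end Groth.Agent.RankOne21
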