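import Groth.Agent.Lib.RankOne21.Grade
import Groth.Agent.Lib.AttrBorel21.SplitSS
import Groth.Agent.Lib.TorPts21.UnipRadical

/-!
# The weights present on the fibres detect semisimplicity
-/

set_option autoImplicit false
set_option linter.style.haveILetI false
set_option linter.unusedSectionVars false
set_option backward.isDefEq.respectTransparency.types false

universe u

open CategoryTheory Limits MonoidalCategory CartesianMonoidalCategory MonObj AlgebraicGeometry

noncomputable section

namespace Groth.Agent.RankOne21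

open InvRing21 DiagGL TorPts21

attribute [local instance] InvRing21.gamAlg

variable {d : ℕ} {R : Type u} [CommRing R] {G T : Over (Spec (CommRingCat.of R))} [GrpObj G] [GrpObj T]
  [IsAffine G.left] [Smooth G.hom]

/-- The weights present on a fibre. -/
def active (ρ : Γ(G.left, ⊤) → AddMonoidAlgebra Γ(G.left, ⊤) (Fin d → ℤ))
    (t : ↥(Spec (CommRingCat.of R))) : Set (Fin d → ℤ) :=
  {e | ∃ F, t ∈ G.hom '' (G.left.basicOpen ((ρ F).coeff e) : Set G.left)}

theorem isOpen_setOf_mem_active (ρ : Γ(G.left, ⊤) → AddMonoidAlgebra Γ(G.left, ⊤) (Fin d → ℤ)) (e : Fin d → ℤ) :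
    IsOpen {t | e ∈ active ρ t} := by
  rw [show {t | e ∈ active ρ t} = ⋃ F, G.hom '' (G.left.basicOpen ((ρ F).coeff e) : Set G.left) from
    Set.ext fun t => Set.mem_iUnion.symm]
  exact isOpen_iUnion fun F => G.hom.isOpenMap _ (G.left.basicOpen _).2

/-- The value of a function at a point of a geometric fibre. -/
def fibVal (t : ↥(Spec (CommRingCat.of R)))
    (g : VecGrp.pt (AlgebraicClosure ((Spec (CommRingCat.of R)).residueField t))
      (AlgebraicClosure ((Spec (CommRingCat.of R)).residueField t)) ⟶ Red.geomFibre t G) :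
    Γ(G.left, ⊤) →+* AlgebraicClosure ((Spec (CommRingCat.of R)).residueField t) :=
  (InvRing21.ptHom (k := AlgebraicClosure ((Spec (CommRingCat.of R)).residueField t))
    (AlgebraicClosure ((Spec (CommRingCat.of R)).residueField t))).toRingHom.comp
      (fl (Red.geomPt t) G g).left.appTop.hom

/-- A function nonzero somewhere on the fibre is nonzero at a rational point of the geometric fibre. -/
theorem exists_fibVal_ne_zero (t : ↥(Spec (CommRingCat.of R))) (c : Γ(G.left, ⊤))
    (h : t ∈ G.hom '' (G.left.basicOpen c : Set G.left)) : ∃ g, fibVal t g c ≠ 0 := by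
  obtain ⟨x, hx, hxt⟩ := h
  haveI : IsAffineHom G.hom := inferInstance
  haveI : IsAffineHom (Red.geomFibre t G).hom := inferInstanceAs (IsAffineHom (pullback.snd G.hom (Red.geomPt t)))
  haveI : IsAffine (Red.geomFibre t G).left := isAffine_of_isAffineHom (Red.geomFibre t G).hom
  haveI : Smooth (Red.geomFibre t G).hom := inferInstanceAs (Smooth (pullback.snd G.hom (Red.geomPt t)))
  obtain ⟨p, hp⟩ : ∃ p : ↥(Spec (CommRingCat.of (AlgebraicClosure ((Spec (CommRingCat.of R)).residueField t)))),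
      Red.geomPt t p = t := ⟨IsLocalRing.closedPoint _, by
    rw [Red.geomPt, Scheme.Hom.comp_apply, Scheme.fromSpecResidueField_apply]⟩
  obtain ⟨y, hy, -⟩ := Scheme.Pullback.exists_preimage_pullback (f := G.hom) (g := Red.geomPt t) x p
    (by rw [hxt, hp])
  let c' := (pullback.fst G.hom (Red.geomPt t)).appTop c
  have hy' : y ∈ (Red.geomFibre t G).left.basicOpen c' := by
    show y ∈ (pullback G.hom (Red.geomPt t)).basicOpen c'
    rw [← Scheme.preimage_basicOpen_top]
    show pullback.fst G.hom (Red.geomPt t) y ∈ G.left.basicOpen c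
    rw [hy]
    exact hx
  have hne : c' ≠ 0 := fun h0 => by
    rw [h0, Scheme.basicOpen_zero] at hy'
    exact hy'
  obtain ⟨g, hg⟩ := exists_val_ne_zero (G := Red.geomFibre t G) hne
  refine ⟨g, fun h0 => hg ?_⟩
  rw [← h0]
  show _ = InvRing21.ptHom _ ((fl (Red.geomPt t) G g).left.appTop c)
  rw [show (fl (Red.geomPt t) G g).left = g.left ≫ pullback.fst G.hom (Red.geomPt t) by
    simp [fl, Adjunction.homEquiv_counit], Scheme.Hom.comp_appTop]
  rfl

/-- A function nonzero at a point of the geometric fibre is nonzero on the fibre. -/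
theorem mem_image_of_fibVal_ne_zero (t : ↥(Spec (CommRingCat.of R))) (c : Γ(G.left, ⊤)) (g)
    (h : fibVal t g c ≠ 0) : t ∈ G.hom '' (G.left.basicOpen c : Set G.left) := by
  let k := AlgebraicClosure ((Spec (CommRingCat.of R)).residueField t)
  let g' := fl (Red.geomPt t) G g
  let P := (Over.map (Red.geomPt t)).obj (VecGrp.pt k k)
  let e := RingEquiv.ofBijective _ (BorelFix21.ptHom_bijective (k := k))
  have hu : IsUnit (g'.left.appTop c) := by
    have h1 : IsUnit (e.symm (fibVal t g c)) := (IsUnit.mk0 _ h).map e.symm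
    rwa [show fibVal t g c = e (g'.left.appTop c) from rfl, RingEquiv.symm_apply_apply] at h1
  let p : ↥P.left := IsLocalRing.closedPoint k
  have hp : g'.left p ∈ G.left.basicOpen c := by
    show p ∈ g'.left ⁻¹ᵁ G.left.basicOpen c
    rw [Scheme.preimage_basicOpen_top, Scheme.basicOpen_of_isUnit _ hu]
    trivial
  refine ⟨g'.left p, hp, ?_⟩
  rw [← Scheme.Hom.comp_apply, Over.w g']
  show (Red.geomPt t) ((VecGrp.pt k k).hom p) = t
  rw [Red.geomPt, Scheme.Hom.comp_apply, Scheme.fromSpecResidueField_apply]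

variable (iT : T ⟶ G) [IsMonHom iT] (C : Chars (Fin d → ℤ) T)
  {ρ : Γ(G.left, ⊤) → AddMonoidAlgebra Γ(G.left, ⊤) (Fin d → ℤ)}
  (hρ : ∀ (P : Over (Spec (CommRingCat.of R))) (g : P ⟶ G) (τ : P ⟶ T) (F : Γ(G.left, ⊤)),
    ((τ ≫ iT) * g * (τ ≫ iT)⁻¹).left.appTop F =
      ∑ e ∈ (ρ F).coeff.support, g.left.appTop ((ρ F).coeff e) * C.ch τ (Multiplicative.ofAdd e))
  (t : ↥(Spec (CommRingCat.of R)))

set_option quotPrecheck false
local notation "kk" => AlgebraicClosure ((Spec (CommRingCat.of R)).residueField t)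
local notation "χ" => ptChr (Chars.baseChange (Red.geomPt t) T C)
local notation "it" => (Over.pullback (Red.geomPt t)).map iT

include hρ in
theorem fibVal_conj (g : VecGrp.pt kk kk ⟶ Red.geomFibre t G) (τ : VecGrp.pt kk kk ⟶ Red.bc (Red.geomPt t) T)
    (F : Γ(G.left, ⊤)) : fibVal t ((τ ≫ it) * g * (τ ≫ it)⁻¹) F =
      ∑ e ∈ (ρ F).coeff.support, fibVal t g ((ρ F).coeff e) * χ τ (Multiplicative.ofAdd e) := by
  show InvRing21.ptHom kk ((fl (Red.geomPt t) G ((τ ≫ it) * g * (τ ≫ it)⁻¹)).left.appTop F) = _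
  rw [fl_mul, fl_mul, show fl (Red.geomPt t) G (τ ≫ it)⁻¹ = (fl (Red.geomPt t) G (τ ≫ it))⁻¹ from
    map_inv (MonoidHom.mk' (fl (Red.geomPt t) G) (fl_mul (Red.geomPt t) G)) _, DiagGL.fl_comp_map, hρ, map_sum]
  exact Finset.sum_congr rfl fun e _ => map_mul _ _ _

include hρ in
/-- A torus point trivial on the present weights commutes with the points of the fibre. -/
theorem commute_of_active (τ : VecGrp.pt kk kk ⟶ Red.bc (Red.geomPt t) T)
    (hτ : ∀ e ∈ active ρ t, χ τ (Multiplicative.ofAdd e) = 1) (g : VecGrp.pt kk kk ⟶ Red.geomFibre t G) :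
    (τ ≫ it) * g = g * (τ ≫ it) := by
  refine mul_inv_eq_iff_eq_mul.1 (fl_injective (Red.geomPt t) G
    (Over.OverMorphism.ext (ext_of_isAffine (CommRingCat.hom_ext (RingHom.ext fun F => ?_)))))
  refine InvRing21.ptHom_injective (k := kk) kk ?_
  show fibVal t ((τ ≫ it) * g * (τ ≫ it)⁻¹) F = fibVal t g F
  rw [fibVal_conj iT C hρ t]
  have h1 := fibVal_conj iT C hρ t g 1 F
  rw [MonObj.one_comp, inv_one, _root_.mul_one, _root_.one_mul] at h1
  rw [h1]
  refine Finset.sum_congr rfl fun e he => ?_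
  by_cases h0 : fibVal t g ((ρ F).coeff e) = 0
  · rw [h0, MulZeroClass.zero_mul, MulZeroClass.zero_mul]
  · rw [hτ e ⟨F, mem_image_of_fibVal_ne_zero t _ g h0⟩]
    refine congrArg (_ * ·) ?_
    show (1 : kk) = InvRing21.ptHom kk _
    rw [(C.baseChange (Red.geomPt t) T).one, map_one]

include hρ in
/-- A torus point commuting with the points of the fibre is trivial on the present weights. -/
theorem active_of_commute (τ₀ : VecGrp.pt kk kk ⟶ Red.bc (Red.geomPt t) T)
    (hc : ∀ g : VecGrp.pt kk kk ⟶ Red.geomFibre t G, (τ₀ ≫ it) * g = g * (τ₀ ≫ it))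
    (e : Fin d → ℤ) (he : e ∈ active ρ t) : χ τ₀ (Multiplicative.ofAdd e) = 1 := by
  classical
  obtain ⟨F, hF⟩ := he
  obtain ⟨g, hg⟩ := exists_fibVal_ne_zero t _ hF
  have he' : e ∈ (ρ F).coeff.support := Finsupp.mem_support_iff.2 fun h0 => hg (by rw [h0, map_zero])
  let D := C.baseChange (Red.geomPt t) T
  let ξ : (Fin d → ℤ) → ((VecGrp.pt kk kk ⟶ Red.bc (Red.geomPt t) T) →* kk) := fun c =>
    { toFun := fun σ => ptChr D σ (Multiplicative.ofAdd c)
      map_one' := by show InvRing21.ptHom kk _ = 1; rw [D.one, map_one]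
      map_mul' := fun σ σ' => by show InvRing21.ptHom kk _ = _; rw [D.mul, map_mul]; rfl }
  have hξ : Function.Injective ξ := fun c c' h => eq_of_forall_ptChr D fun σ => DFunLike.congr_fun h σ
  have hli := (linearIndependent_monoidHom (VecGrp.pt kk kk ⟶ Red.bc (Red.geomPt t) T) kk).comp ξ hξ
  have hz := linearIndependent_iff'.1 hli (ρ F).coeff.support
    (fun c => fibVal t g ((ρ F).coeff c) * (ptChr D τ₀ (Multiplicative.ofAdd c) - 1)) (by
      funext τ
      rw [Finset.sum_apply, Pi.zero_apply]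
      simp only [Pi.smul_apply, smul_eq_mul, Function.comp_apply, mul_sub, _root_.mul_one, sub_mul,
        Finset.sum_sub_distrib, sub_eq_zero]
      have hconj : ((τ * τ₀) ≫ it) * g * ((τ * τ₀) ≫ it)⁻¹ = (τ ≫ it) * g * (τ ≫ it)⁻¹ := by
        rw [MonObj.mul_comp, _root_.mul_assoc (τ ≫ it), hc g]
        group
      have h2 := fibVal_conj iT C hρ t g (τ * τ₀) F
      rw [hconj, fibVal_conj iT C hρ t g τ F] at h2
      refine Eq.trans (Finset.sum_congr rfl fun c _ => ?_) h2.symm
      rw [_root_.mul_assoc, mul_comm (ptChr D τ₀ _)]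
      exact congrArg (_ * ·) ((ξ c).map_mul τ τ₀).symm) e he'
  exact sub_eq_zero.1 ((mul_eq_zero.1 hz).resolve_left hg)

include hρ in
set_option maxHeartbeats 800000 in
/-- On a semisimple fibre the present weights span a sublattice of finite index. -/
theorem exists_active_span [IsClosedImmersion iT.left]
    (hss : Red.IsSemisimpleOver kk (Red.geomFibre t G)) :
    ∃ (E : Finset (Fin d → ℤ)) (N : ℕ), (∀ e ∈ E, e ∈ active ρ t) ∧ N ≠ 0 ∧
      ∀ m, N • m ∈ Submodule.span ℤ (E : Set (Fin d → ℤ)) := by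
  classical
  rcases AttrBorel21.exists_functional_or_exponent (Submodule.span ℤ (active ρ t)) with ⟨φ, hφ, hφ0⟩ | ⟨N, hN0, hN⟩
  · exfalso
    haveI : Mono iT := Over.mono_of_mono_left iT
    haveI : IsAffine (Red.geomFibre t G).left := hss.1.1
    haveI : Smooth (Red.geomFibre t G).hom := hss.1.2.1
    haveI := MTRigid29.isMonHom_map iT (Red.geomPt t)
    haveI : Mono it := Functor.map_mono _ _
    let n := Module.finrank ℤ (LinearMap.range φ)
    let π : (Fin d → ℤ) →+ (Fin n → ℤ) :=
      ((Module.finBasis ℤ (LinearMap.range φ)).equivFun.toLinearMap ∘ₗ φ.rangeRestrict).toAddMonoidHom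
    have hπs : Function.Surjective π :=
      (Module.finBasis ℤ (LinearMap.range φ)).equivFun.surjective.comp φ.surjective_rangeRestrict
    have hπ0 : ∀ e, φ e = 0 → π e = 0 := fun e he => by
      show (Module.finBasis ℤ (LinearMap.range φ)).equivFun (φ.rangeRestrict e) = 0
      rw [show φ.rangeRestrict e = 0 from Subtype.ext he, map_zero]
    obtain ⟨e₀, he₀⟩ : ∃ e, π e ≠ 0 := by
      by_contra! h
      refine hφ (LinearMap.ext fun e => ?_)
      have h1 : (Module.finBasis ℤ (LinearMap.range φ)).equivFun (φ.rangeRestrict e) = 0 := h e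
      rw [LinearEquiv.map_eq_zero_iff] at h1
      exact congrArg Subtype.val h1
    let D := Red.DS (Spec (CommRingCat.of kk)) (Fin n → ℤ)
    let lam : D ⟶ Red.bc (Red.geomPt t) T :=
      MTRigid29.mapChS (charsDS _ _) (C.baseChange (Red.geomPt t) T) π
    haveI : IsMonHom lam := MTRigid29.isMonHom_mapChS _ _ _
    haveI : Mono lam := MTRigid29.mono_mapChS _ _ hπs
    have hDt : Red.IsTorus D := isTorus_of_chars (charsDS _ _)
    obtain ⟨hDa, hDs, -, -⟩ := props_of_isTorus hDt
    haveI := hDa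
    haveI := hDs
    haveI : IsMonHom (lam ≫ it) := inferInstance
    haveI : IsClosedImmersion (lam ≫ it).left := isClosedImmersion_of_torus hDt (lam ≫ it)
    have hn : AlgGrp.IsNormalHom (lam ≫ it) := isNormalHom_of_pts (lam ≫ it) fun g x => ⟨x, by
      rw [← Category.assoc, ← commute_of_active iT C hρ t (x ≫ lam) (fun e he => ?_) g, mul_inv_cancel_right]
      show InvRing21.ptHom kk ((C.baseChange (Red.geomPt t) T).ch (x ≫ lam) _) = 1
      rw [MTRigid29.ch_mapChS]
      show InvRing21.ptHom kk ((charsDS _ _).ch x (Multiplicative.ofAdd (π e))) = 1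
      rw [hπ0 e (hφ0 e (Submodule.subset_span he)), ofAdd_zero, map_one, map_one]⟩
    have htriv := hss.2 D (lam ≫ it) inferInstance hn hDt
    refine he₀ (eq_of_forall_ptChr (k := kk) (σ := D) (charsDS (Spec (CommRingCat.of kk)) (Fin n → ℤ))
      fun x => ?_)
    rw [eq_one_of_isTrivialGrp htriv x]
    show InvRing21.ptHom kk ((charsDS (Spec (CommRingCat.of kk)) (Fin n → ℤ)).ch 1 _) =
      InvRing21.ptHom kk ((charsDS (Spec (CommRingCat.of kk)) (Fin n → ℤ)).ch 1 _)
    rw [(charsDS (Spec (CommRingCat.of kk)) (Fin n → ℤ)).one, (charsDS (Spec (CommRingCat.of kk)) (Fin n → ℤ)).one]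
  · choose Ep hEp hmem using fun p : Fin d => Submodule.mem_span_finite_of_mem_span (hN (Pi.single p 1))
    refine ⟨Finset.univ.biUnion Ep, N, fun e he => ?_, hN0, fun m => ?_⟩
    · obtain ⟨p, -, hp⟩ := Finset.mem_biUnion.1 he
      exact hEp p hp
    · rw [← (Pi.basisFun ℤ (Fin d)).sum_repr m, Finset.smul_sum]
      refine Submodule.sum_mem _ fun p _ => ?_
      rw [smul_comm, Pi.basisFun_apply]
      refine Submodule.smul_mem _ _ (Submodule.span_mono ?_ (hmem p))
      exact Finset.coe_subset.2 (Finset.subset_biUnion_of_mem Ep (Finset.mem_univ p))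

include hρ in
set_option maxHeartbeats 800000 in
/-- A reductive fibre whose present weights span a sublattice of finite index is semisimple. -/
theorem isSemisimpleOver_of_active_span
    (hred : Red.IsReductiveOver kk (Red.geomFibre t G)) (hmax : Red.IsMaximalTorus it)
    {E : Finset (Fin d → ℤ)} {N : ℕ} (hE : ∀ e ∈ E, e ∈ active ρ t) (hN0 : N ≠ 0)
    (hN : ∀ m, N • m ∈ Submodule.span ℤ (E : Set (Fin d → ℤ))) :
    Red.IsSemisimpleOver kk (Red.geomFibre t G) := by
  refine ⟨hred, fun U _ i _ hic hin hU => ?_⟩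
  haveI := hic
  haveI := hmax.1
  haveI := hmax.2.1
  haveI : IsAffine (Red.geomFibre t G).left := hred.1
  haveI : Smooth (Red.geomFibre t G).hom := hred.2.1
  haveI := hred.2.2.1
  haveI : Mono i := Over.mono_of_mono_left i
  obtain ⟨hUa, hUs, -, -⟩ := props_of_isTorus hU
  haveI := hUa
  haveI := hUs
  obtain ⟨m, ⟨CU⟩⟩ := TorPts21.exists_chars hU
  obtain ⟨Cz, _, cz, hcz, -, -⟩ := TorusCentr19.exists_centralizer'
    (MTRigid29.isMT_of_ft (isMultTypeFT_of_isTorus hmax.2.2.1)) ‹Smooth (Red.geomFibre t G).hom› it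
  obtain ⟨l, hl⟩ := exists_lift_cartan_reductive hred (isMaxTorus_of_isMaximalTorus hmax) hcz
  have hcen := MTRigid29.central_of_normal connectedSpace_fibre i (isMultTypeFT_of_isTorus hU) hin
  have hord : ∀ x : VecGrp.pt kk kk ⟶ U, x ^ N = 1 := fun x => by
    obtain ⟨g₀, hg₀⟩ := exists_gpt (x ≫ i)
    obtain ⟨w, hw⟩ := exists_lift_centralizer_pt hmax.2.2.1 hcz g₀ fun τ => by
      rw [hg₀]; exact (hcen _ _ _).symm
    obtain ⟨τ, hτ⟩ : ∃ τ : VecGrp.pt kk kk ⟶ Red.bc (Red.geomPt t) T, τ ≫ it = x ≫ i :=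
      ⟨gpt (w ≫ l), by rw [← hg₀, gpt, gpt, Category.assoc, Category.assoc, hl, hw]⟩
    let D := C.baseChange (Red.geomPt t) T
    let φ := (ptChr D τ).toHomUnits
    have hspan : ∀ e ∈ Submodule.span ℤ (E : Set (Fin d → ℤ)), φ (Multiplicative.ofAdd e) = 1 := by
      intro e he
      induction he using Submodule.span_induction with
      | mem y hy =>
        refine Units.ext (active_of_commute iT C hρ t τ (fun g => ?_) y (hE y hy))
        rw [hτ]
        exact (hcen _ g x).symm
      | zero => rw [ofAdd_zero, map_one]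
      | add y z _ _ hy hz => rw [ofAdd_add, map_mul, hy, hz, _root_.one_mul]
      | smul z y _ hy => rw [ofAdd_zsmul, map_zpow, hy, one_zpow]
    have hτN : τ ^ N = 1 := D.inj fun a => by
      have hpow : ∀ j : ℕ, ptChr D (τ ^ j) a = ptChr D τ a ^ j := fun j => by
        induction j with
        | zero =>
          rw [pow_zero, pow_zero]
          show InvRing21.ptHom kk _ = 1
          rw [D.one, map_one]
        | succ j ih =>
          rw [pow_succ, pow_succ, ← ih]
          show InvRing21.ptHom kk _ = _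
          rw [D.mul, map_mul]
          rfl
      refine InvRing21.ptHom_injective kk ?_
      show ptChr D (τ ^ N) a = InvRing21.ptHom kk _
      rw [hpow, ← map_pow, D.one, map_one]
      exact (congrArg Units.val (hspan _ (hN a.toAdd)))
    let ιU : (VecGrp.pt kk kk ⟶ U) →* (VecGrp.pt kk kk ⟶ Red.geomFibre t G) :=
      MonoidHom.mk' (· ≫ i) fun y z => MonObj.mul_comp y z i
    let ιT : (VecGrp.pt kk kk ⟶ Red.bc (Red.geomPt t) T) →* (VecGrp.pt kk kk ⟶ Red.geomFibre t G) :=
      MonoidHom.mk' (· ≫ it) fun y z => MonObj.mul_comp y z it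
    refine (cancel_mono i).1 ?_
    rw [MonObj.one_comp]
    show ιU (x ^ N) = 1
    rw [map_pow, show ιU x = ιT τ from hτ.symm, ← map_pow, hτN, map_one]
  refine isTrivialGrp_of_pts fun x => CU.inj fun a => ?_
  obtain rfl : m = 0 := by
    by_contra hm
    obtain ⟨q⟩ : Nonempty (Fin m) := ⟨⟨0, Nat.pos_of_ne_zero hm⟩⟩
    have hpow : ∀ (j : ℕ) (y : VecGrp.pt kk kk ⟶ U) a, ptChr CU (y ^ j) a = ptChr CU y a ^ j := fun j y a => by
      induction j with
      | zero =>
        rw [pow_zero, pow_zero]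
        show InvRing21.ptHom kk _ = 1
        rw [CU.one, map_one]
      | succ j ih =>
        rw [pow_succ, pow_succ, ← ih]
        show InvRing21.ptHom kk _ = _
        rw [CU.mul, map_mul]
        rfl
    have h1 : (N • Pi.single q 1 : Fin m → ℤ) = 0 := eq_of_forall_ptChr CU fun y => by
      rw [ofAdd_nsmul, map_pow, ← hpow, hord, ofAdd_zero, map_one]
      show InvRing21.ptHom kk _ = 1
      rw [CU.one, map_one]
    have h2 := congrFun h1 q
    simp at h2
    exact hN0 (by exact_mod_cast h2)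
  rw [Subsingleton.elim a 1, map_one, map_one]

end Groth.Agent.RankOne21
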