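import Groth.Agent.S16049
import Groth.Agent.Lib.CentMT21.Preimage
import Groth.Agent.Lib.GrpAtPt20.Props
import Groth.Prelude.Def_Red
import Mathlib.AlgebraicGeometry.Morphisms.Smooth

/-!
# A flat group is smooth near a point with smooth fibre
-/

set_option autoImplicit false
set_option linter.style.haveILetI false
set_option linter.unusedSectionVars false
set_option backward.isDefEq.respectTransparency.types false

universe u

open CategoryTheory Limits MonoidalCategory CartesianMonoidalCategory MonObj AlgebraicGeometry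

noncomputable section

namespace Groth.Agent.RankOne21

variable {S : Scheme.{u}} (G : Over S) [GrpObj G] [Flat G.hom] [LocallyOfFinitePresentation G.hom]

/-- Smoothness of a flat group of finite presentation holds near a point with smooth geometric fibre. -/
theorem exists_nhd_smooth (s₀ : S) (h₀ : Smooth (Red.geomFibre s₀ G).hom) :
    ∃ U : S.Opens, s₀ ∈ U ∧ ∀ t ∈ U, Smooth (Red.geomFibre t G).hom := by
  let e : S ⟶ G.left := η[G].left
  let W : G.left.Opens := G.hom.smoothLocus
  haveI hW : Smooth (W.ι ≫ G.hom) := Scheme.Hom.smoothLocus_eq_top_iff.1 (by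
    rw [← Scheme.Hom.preimage_smoothLocus_eq]
    exact Scheme.Opens.ι_preimage_self W)
  refine ⟨e ⁻¹ᵁ W, ?_, fun t ht => ?_⟩
  · -- the fibre at `s₀` is smooth
    let g := S.fromSpecResidueField s₀
    let a : Spec (CommRingCat.of (AlgebraicClosure (S.residueField s₀))) ⟶ Spec (S.residueField s₀) :=
      Spec.map (CommRingCat.ofHom (algebraMap (S.residueField s₀) (AlgebraicClosure (S.residueField s₀))))
    haveI : Flat a := (HasRingHomProperty.Spec_iff (P := @Flat)).2
      (RingHom.Flat.of_isField (Field.toIsField _) _)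
    haveI : Surjective a := ⟨fun q => ⟨IsLocalRing.closedPoint _, Subsingleton.elim _ _⟩⟩
    haveI : Smooth (pullback.snd (pullback.snd G.hom g) a) := by
      haveI : Smooth (pullback.snd G.hom (a ≫ g)) := h₀
      rw [show pullback.snd (pullback.snd G.hom g) a = (pullbackLeftPullbackSndIso G.hom g a).hom ≫
        pullback.snd G.hom (a ≫ g) by simp]
      infer_instance
    haveI hg : Smooth (pullback.snd G.hom g) :=
      MorphismProperty.of_pullback_snd_of_descendsAlong (Q := @Surjective ⊓ @Flat ⊓ @QuasiCompact)
        (g := a) ⟨⟨inferInstance, inferInstance⟩, inferInstance⟩ ‹_›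
    let iF := (𝟙 S : S ⟶ S).fiberι s₀
    let c : (𝟙 S : S ⟶ S).fiber s₀ ⟶ Spec (S.residueField s₀) := pullback.snd (𝟙 S) (S.fromSpecResidueField s₀)
    haveI : IsIso c := inferInstanceAs (IsIso (pullback.snd (𝟙 S) (S.fromSpecResidueField s₀)))
    haveI : Smooth (pullback.snd G.hom iF) := by
      have hι : iF = c ≫ g := by
        show pullback.fst (𝟙 S) (S.fromSpecResidueField s₀) = pullback.snd (𝟙 S) (S.fromSpecResidueField s₀) ≫ S.fromSpecResidueField s₀
        rw [← pullback.condition, Category.comp_id]
      rw [hι, show pullback.snd G.hom (c ≫ g) = (pullbackLeftPullbackSndIso G.hom g c).inv ≫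
        pullback.snd (pullback.snd G.hom g) c by simp]
      infer_instance
    obtain ⟨V, hV, hVs⟩ := S16049.result (𝟙 S) G.hom G.hom (Category.comp_id _) s₀ ‹_›
    have he : G.hom (e s₀) = s₀ := by
      rw [← Scheme.Hom.comp_apply, show e ≫ G.hom = 𝟙 S from Over.w η[G]]
      rfl
    have hx := hV (e s₀) he
    have h1 : V.ι ⁻¹ᵁ W = ⊤ := by
      haveI := hVs
      rw [Scheme.Hom.preimage_smoothLocus_eq, Scheme.Hom.smoothLocus_eq_top]
    have h2 : (⟨e s₀, hx⟩ : V.toScheme) ∈ V.ι ⁻¹ᵁ W := by rw [h1]; trivial
    exact h2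
  · let p := pullback.fst G.hom (Red.geomPt t)
    obtain ⟨x, hx, -⟩ := Scheme.Pullback.exists_preimage_pullback (f := G.hom) (g := Red.geomPt t) (e t)
      (IsLocalRing.closedPoint _) (by
        rw [CentMT21.geomPt_apply, ← Scheme.Hom.comp_apply, show e ≫ G.hom = 𝟙 S from Over.w η[G]]
        rfl)
    let W' : (Red.geomFibre t G).left.Opens := p ⁻¹ᵁ W
    have hW' : (W' : Set (Red.geomFibre t G).left).Nonempty := ⟨x, show p x ∈ W from hx ▸ ht⟩
    haveI : Subsingleton (Spec (CommRingCat.of (AlgebraicClosure (S.residueField t)))) :=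
      inferInstanceAs (Subsingleton (PrimeSpectrum _))
    haveI : Flat (Red.geomFibre t G).hom := inferInstanceAs (Flat (pullback.snd G.hom (Red.geomPt t)))
    haveI : LocallyOfFinitePresentation (Red.geomFibre t G).hom :=
      inferInstanceAs (LocallyOfFinitePresentation (pullback.snd G.hom (Red.geomPt t)))
    have h1 : Smooth (W'.ι ≫ (toUnit (Red.geomFibre t G)).left) :=
      MorphismProperty.of_isPullback ((isPullback_morphismRestrict p W).paste_vert
        (IsPullback.of_hasPullback G.hom (Red.geomPt t))) hW
    have h2 := GrpAtPt20.smooth_of_open (toUnit (Red.geomFibre t G)) W' hW' h1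
    rw [show (Red.geomFibre t G).hom = (toUnit (Red.geomFibre t G)).left from
      ((Over.w (toUnit (Red.geomFibre t G))).symm.trans (Category.comp_id _))]
    exact h2

end Groth.Agent.RankOne21
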