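import Groth.Agent.Lib.RedLR15.Converse
import Groth.Agent.Lib.TorPts21.RadicalImage
import Groth.Agent.Lib.SpreadSub19.Basic
import Groth.Agent.Lib.BorelFix21.BaseChange
import Mathlib.AlgebraicGeometry.Morphisms.Etale
import Mathlib.FieldTheory.IsAlgClosed.Basic

/-!
# Geometric fibres along unramified morphisms
-/

set_option autoImplicit false
set_option linter.style.haveILetI false
set_option linter.unusedSectionVars false
set_option backward.isDefEq.respectTransparency.types false

universe u

open CategoryTheory Limits MonoidalCategory CartesianMonoidalCategory MonObj AlgebraicGeometry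

noncomputable section

namespace Groth.Agent.RankOne21

/-- Reductivity only depends on the group up to isomorphism. -/
theorem isReductiveOver_of_iso {k : Type u} [Field k] [IsAlgClosed k] {G H : Over (Spec (CommRingCat.of k))}
    [GrpObj G] [GrpObj H] (e : G ≅ H) [IsMonHom e.hom] (h : Red.IsReductiveOver k G) :
    Red.IsReductiveOver k H := by
  obtain ⟨ha, hs, hc, -⟩ := id h
  haveI := ha; haveI := hs; haveI := hc
  haveI : IsIso e.hom.left := inferInstanceAs (IsIso ((Over.forget _).map e.hom))
  haveI : IsIso e.inv.left := inferInstanceAs (IsIso ((Over.forget _).map e.inv))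
  haveI : LocallyOfFiniteType H.hom := by rw [← Over.w e.inv]; infer_instance
  haveI : QuasiCompact H.hom := by rw [← Over.w e.inv]; infer_instance
  exact TorPts21.isReductiveOver_quotient e.hom h

variable {S X : Scheme.{u}} (f : X ⟶ S) [FormallyUnramified f] [LocallyOfFiniteType f]

/-- The geometric points along an unramified morphism agree up to an isomorphism of fields. -/
theorem exists_iso_geomPt (b : X) :
    ∃ φ : Spec (CommRingCat.of (AlgebraicClosure (X.residueField b))) ⟶
        Spec (CommRingCat.of (AlgebraicClosure (S.residueField (f b)))),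
      IsIso φ ∧ φ ≫ Red.geomPt (f b) = Red.geomPt b ≫ f := by
  letI := (f.residueFieldMap b).hom.toAlgebra
  haveI : Algebra.IsSeparable (S.residueField (f b)) (X.residueField b) := inferInstance
  haveI : Algebra.IsAlgebraic (S.residueField (f b)) (X.residueField b) := inferInstance
  haveI : Algebra.IsAlgebraic (S.residueField (f b)) (AlgebraicClosure (X.residueField b)) :=
    Algebra.IsAlgebraic.trans (S.residueField (f b)) (X.residueField b) _
  haveI : IsAlgClosure (S.residueField (f b)) (AlgebraicClosure (X.residueField b)) := ⟨inferInstance, inferInstance⟩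
  let e := IsAlgClosure.equiv (S.residueField (f b)) (AlgebraicClosure (S.residueField (f b)))
    (AlgebraicClosure (X.residueField b))
  refine ⟨Spec.map (CommRingCat.ofHom e.toAlgHom.toRingHom), ?_, ?_⟩
  · haveI : IsIso (CommRingCat.ofHom e.toAlgHom.toRingHom) := e.toRingEquiv.toCommRingCatIso.isIso_hom
    infer_instance
  · show Spec.map _ ≫ Spec.map _ ≫ S.fromSpecResidueField (f b) =
      (Spec.map _ ≫ X.fromSpecResidueField b) ≫ f
    rw [Category.assoc, ← Scheme.Hom.SpecMap_residueFieldMap_fromSpecResidueField, ← Category.assoc, ← Spec.map_comp,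
      ← Category.assoc, ← Spec.map_comp]
    congr 2
    exact CommRingCat.hom_ext e.toAlgHom.comp_algebraMap

/-- Reductivity of a fibre of a base change. -/
theorem isReductiveOver_geomFibre_iff (G : Over S) [GrpObj G] (b : X) :
    Red.IsReductiveOver (AlgebraicClosure (X.residueField b)) (Red.geomFibre b (Red.bc f G)) ↔
      Red.IsReductiveOver (AlgebraicClosure (S.residueField (f b))) (Red.geomFibre (f b) G) := by
  obtain ⟨φ, hφi, hφ⟩ := exists_iso_geomPt f b
  haveI := hφi
  haveI := SpreadSub19.bcComp_isMonHom f (Red.geomPt b) (c := Red.geomPt b ≫ f) rfl G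
  let e₁ := SpreadSub19.bcComp f (Red.geomPt b) (c := Red.geomPt b ≫ f) rfl G
  haveI : IsMonHom e₁.hom := SpreadSub19.bcComp_isMonHom f (Red.geomPt b) rfl G
  constructor
  · intro h
    have h1 := isReductiveOver_of_iso e₁ h
    have h2 := RedLR15.isReductiveOver_bc_of_isIso (inv φ) h1
    have hc : inv φ ≫ Red.geomPt b ≫ f = Red.geomPt (f b) := by rw [← hφ, IsIso.inv_hom_id_assoc]
    haveI := SpreadSub19.bcComp_isMonHom (Red.geomPt b ≫ f) (inv φ) hc G
    exact isReductiveOver_of_iso (SpreadSub19.bcComp (Red.geomPt b ≫ f) (inv φ) hc G) h2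
  · intro h
    have h2 := RedLR15.isReductiveOver_bc_of_isIso φ h
    haveI := SpreadSub19.bcComp_isMonHom (Red.geomPt (f b)) φ hφ G
    have h3 := isReductiveOver_of_iso (SpreadSub19.bcComp (Red.geomPt (f b)) φ hφ G) h2
    haveI : IsMonHom e₁.symm.hom := inferInstanceAs (IsMonHom e₁.inv)
    exact isReductiveOver_of_iso e₁.symm h3

/-- Smoothness of a fibre of a base change. -/
theorem smooth_geomFibre_bc (G : Over S) (b : X) (h : Smooth (Red.geomFibre (f b) G).hom) :
    Smooth (Red.geomFibre b (Red.bc f G)).hom := by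
  obtain ⟨φ, -, hφ⟩ := exists_iso_geomPt f b
  haveI : Smooth (Red.bc φ (Red.geomFibre (f b) G)).hom := BorelFix21.smooth_bc φ (Red.geomFibre (f b) G)
  let e := SpreadSub19.bcComp (Red.geomPt (f b)) φ hφ G
  let e₁ := SpreadSub19.bcComp f (Red.geomPt b) (c := Red.geomPt b ≫ f) rfl G
  haveI : IsIso (e₁ ≪≫ e.symm).hom.left := inferInstanceAs (IsIso ((Over.forget _).map (e₁ ≪≫ e.symm).hom))
  rw [← Over.w (e₁ ≪≫ e.symm).hom]
  infer_instance

end Groth.Agent.RankOne21
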