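import Groth.Agent.Lib.RankOne21.Line
import Groth.Agent.Lib.RankOne21.LieRoots
import Groth.Agent.Lib.AttrBorel21.Contr
import Groth.Agent.Lib.UMod21.Frame

/-!
# Two Borel subgroups around a maximal torus with proportional roots
-/

set_option autoImplicit false
set_option linter.style.haveILetI false
set_option linter.unusedSectionVars false
set_option backward.isDefEq.respectTransparency.types false

universe u

open CategoryTheory Limits MonoidalCategory CartesianMonoidalCategory MonObj AlgebraicGeometry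

noncomputable section

namespace Groth.Agent.RankOne21

open InvRing21 DiagGL TorPts21 BigCell21 BorelLam21 AttrBorel21

attribute [local instance] InvRing21.gamAlg BorelFix21.ptsTop

variable {k : Type u} [Field k] [IsAlgClosed k] {n d : ℕ} {G T : Over (Spec (CommRingCat.of k))}
  [GrpObj G] [GrpObj T] [IsAffine G.left] [Smooth G.hom] [ConnectedSpace G.left]
  {iT : T ⟶ G} [IsMonHom iT] (C : Chars (Fin d → ℤ) T) {r : G ⟶ GLs k n} [IsMonHom r]
  [IsClosedImmersion r.left] {a : Fin n → Fin d → ℤ}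
  (hdiag : ∀ (X : Over (Spec (CommRingCat.of k))) (x : X ⟶ T),
    mat ((x ≫ iT) ≫ r) = Matrix.diagonal fun j => C.ch x (Multiplicative.ofAdd (a j)))
  (hG : Red.IsReductiveOver k G) (hT : AGF.IsMaxTorus iT)

theorem unp_mat_of_up₁ {w : Fin n → ℤ} {x : VecGrp.pt k k ⟶ G} (hx : x ∈ upPts₁ r w) : Unp w (mat (x ≫ r)) := by
  let χ : k →+* Γ((VecGrp.pt k k).left, ⊤) := (Scheme.ΓSpecIso (CommRingCat.of k)).inv.hom
  have hx' : IsUp₁ w (pmat r x) := by rw [← coe_mtxFn_eq_pmat]; exact hx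
  have e : mat (x ≫ r) = (pmat r x).map χ := by
    ext i j
    exact (RingHom.congr_fun (congrArg CommRingCat.Hom.hom (Scheme.ΓSpecIso (CommRingCat.of k)).hom_inv_id)
      (mat (x ≫ r) i j)).symm
  rw [e]
  refine ⟨fun i j h => by rw [Matrix.map_apply, hx'.1 i j h, map_zero], ?_⟩
  rw [blkDiag_map]
  ext i j
  rw [Matrix.map_apply, blkDiag, Matrix.of_apply]
  split_ifs with h
  · rw [hx'.2 i j h]; simp [Matrix.one_apply, apply_ite]
  · rw [map_zero, Matrix.one_apply_ne fun e => h (congrArg w e)]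

include hdiag in
/-- A function killed on the points with nonzero minors vanishes. -/
theorem eq_zero_of_cell (b : Fin d → ℤ) (F : Γ(G.left, ⊤))
    (h : ∀ p q : VecGrp.pt k k ⟶ G, p ∈ upPts r (wt a (-b)) → q ∈ upPts r (wt a b) → val (p * q) F = 0) : F = 0 := by
  classical
  haveI : IsIntegral G.left := UnitsRos.isIntegral_of_group G
  have hm : minorsFn r (wt a b) ≠ 0 := fun e => val_one_minorsFn r (wt a b) (by rw [e, map_zero])
  refine (mul_eq_zero.1 (?_ : minorsFn r (wt a b) * F = 0)).resolve_left hm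
  refine ext_val fun x => ?_
  rw [map_mul, map_zero]
  by_cases hx : val x (minorsFn r (wt a b)) = 0
  · rw [hx, MulZeroClass.zero_mul]
  · rw [val_minorsFn] at hx
    have hx' := Finset.prod_ne_zero_iff.1 hx
    obtain ⟨p, q, rfl, hp, hq⟩ := BigCell21.exists_factor C r a b (diag_pt C hdiag) x fun i => hx' i (Finset.mem_univ i)
    rw [h p q hp hq, MulZeroClass.mul_zero]

include hdiag in
/-- A closed subgroup with all contracted points of both signs is the whole group. -/
theorem isIso_of_upPts_le (b : Fin d → ℤ) {H : Over (Spec (CommRingCat.of k))} [GrpObj H] (c : H ⟶ G) [IsMonHom c]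
    [IsClosedImmersion c.left] (h₁ : ∀ x ∈ upPts r (wt a b), ∃ y, y ≫ c = x)
    (h₂ : ∀ x ∈ upPts r (wt a (-b)), ∃ y, y ≫ c = x) : IsIso c := by
  have hinj : Function.Injective c.left.appTop := by
    refine (injective_iff_map_eq_zero c.left.appTop.hom).2 fun F hF => eq_zero_of_cell C hdiag b F fun p q hp hq => ?_
    obtain ⟨y, rfl⟩ := h₂ p hp
    obtain ⟨y', rfl⟩ := h₁ q hq
    rw [← MonObj.mul_comp, ← appTop_val]
    exact (congrArg (val (y * y')) hF).trans (map_zero _)
  haveI : IsIso c.left := IsClosedImmersion.isIso_of_injective_of_isAffine hinj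
  haveI : IsIso ((Over.forget _).map c) := ‹IsIso c.left›
  exact isIso_of_reflects_iso c (Over.forget _)

theorem isSolvableGrp_of_isIso {B : Over (Spec (CommRingCat.of k))} [GrpObj B] (c : B ⟶ G) [IsMonHom c] [IsIso c]
    (h : Red.IsSolvableGrp B) : Red.IsSolvableGrp G := by
  obtain ⟨N, hN⟩ := h
  refine ⟨N, fun X => ?_⟩
  let f : (X ⟶ B) →* (X ⟶ G) := IsMonHom.monoidHom c X
  have hf : Function.Surjective f := fun z => ⟨z ≫ inv c, by simp [f]⟩
  rw [← map_derivedSeries_eq hf, hN, Subgroup.map_bot]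

include hdiag hG hT in
/-- The contracted points of one sign do not lie in those of the other sign. -/
theorem not_le_upPts (hns : ¬ Red.IsSolvableGrp G) (b : Fin d → ℤ) (hsep : ∀ i j, wt a b i = wt a b j → a i = a j) :
    ¬ upPts r (wt a b) ≤ upPts r (wt a (-b)) := fun hle => by
  have hsep' : ∀ i j, wt a (-b) i = wt a (-b) j → a i = a j := fun i j h =>
    hsep i j (by rw [BigCell21.wt_neg] at h; exact neg_injective h)
  obtain ⟨B, _, iB, hB, hBp⟩ := exists_upBorel C hG hT (diag_pt C hdiag) hsep'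
  haveI := hB.1
  haveI := hB.2.1
  haveI := isIso_of_upPts_le C hdiag b iB (fun x hx => (hBp x).2 (hle hx)) (fun x hx => (hBp x).2 hx)
  exact hns (isSolvableGrp_of_isIso iB hB.2.2.2.2.1)

/-- The frame of a regular cocharacter. -/
def frameOf (b : Fin d → ℤ) (hsep : ∀ i j, wt a b i = wt a b j → a i = a j) : UMod21.Frame G :=
  { n := n, d := d, T := T, iT := iT, C := C, r := r, a := a, b := b, red := hG, maxT := hT,
    diag := diag_pt C hdiag, sep := hsep }

include hdiag hG hT in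
/-- A stable coordinate system on a unipotent contracted group gives weights of roots. -/
theorem exists_root_coords (hns : ¬ Red.IsSolvableGrp G) (b : Fin d → ℤ)
    (hsep : ∀ i j, wt a b i = wt a b j → a i = a j) :
    ∃ (W : Set (Fin d → ℤ)), W.Nonempty ∧
      (∀ e ∈ W, 0 < pairing e b ∧ ∃ α : T ⟶ Red.Gm (Spec (CommRingCat.of k)), LieWt.IsRoot iT α ∧
        ∀ (X : Over (Spec (CommRingCat.of k))) (x : X ⟶ T), Red.gmFn (x ≫ α) = C.ch x (Multiplicative.ofAdd e)) ∧
      ∀ (τ : VecGrp.pt k k ⟶ T), (∀ e ∈ W, ptChr C τ (Multiplicative.ofAdd e) = 1) →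
        ∀ q ∈ upPts r (wt a b), (τ ≫ iT) * q = q * (τ ≫ iT) := by
  classical
  obtain ⟨U, _, iU, hUm, hUc, hUs, hUa, hU⟩ := exists_unip hdiag b (G := G) (r := r)
  haveI := hUm; haveI := hUc; haveI := hUs; haveI := hUa
  obtain ⟨κ, _, p, -, hp, hbij⟩ := exists_entry_coords hdiag b iU 1 (MonObj.one_comp iU)
    ((hU _ _).1 ⟨𝟙 _, Category.id_comp _⟩) (tStab_unip hdiag b iU hU)
  have hext : ∀ x y : VecGrp.pt k k ⟶ U, (∀ t, pmat r (x ≫ iU) (p t).1 (p t).2 = pmat r (y ≫ iU) (p t).1 (p t).2) →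
      x = y := fun x y h => by
    have h1 : (val x).comp (MvPolynomial.aeval fun t => ent r iU (p t)) =
        (val y).comp (MvPolynomial.aeval fun t => ent r iU (p t)) := MvPolynomial.algHom_ext fun t => by
      simp only [AlgHom.comp_apply, MvPolynomial.aeval_X, val_ent]
      exact h t
    refine Over.OverMorphism.ext (ext_of_isAffine (CommRingCat.hom_ext (RingHom.ext fun F => ?_)))
    refine InvRing21.ptHom_injective (k := k) k ?_
    obtain ⟨P, rfl⟩ := hbij.2 F
    exact AlgHom.congr_fun h1 P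
  let Fr := frameOf C hdiag hG hT b hsep
  have hdec : ∀ q ∈ upPts r (wt a b), ∃ (σ : VecGrp.pt k k ⟶ T) (y : VecGrp.pt k k ⟶ U),
      q = (σ ≫ iT) * (y ≫ iU) := fun q hq => by
    obtain ⟨σ, x₁, hx₁, e⟩ := Fr.exists_torus_mul (x := q) hq
    obtain ⟨y, hy⟩ := (hU _ x₁).2 (unp_mat_of_up₁ hx₁)
    exact ⟨σ, y, by rw [hy]; exact e⟩
  let W : Set (Fin d → ℤ) := Set.range fun t => a (p t).1 - a (p t).2
  have hpos : ∀ e ∈ W, 0 < pairing e b := by
    rintro _ ⟨t, rfl⟩
    rw [pairing_sub']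
    exact sub_pos.2 (hp t)
  refine ⟨W, ?_, fun e he => ⟨hpos e he, ?_⟩, fun τ hτ q hq => ?_⟩
  · by_contra hW
    refine not_le_upPts C hdiag hG hT hns b hsep fun q hq => ?_
    obtain ⟨σ, y, rfl⟩ := hdec q hq
    haveI : IsEmpty κ := ⟨fun t => hW ⟨_, t, rfl⟩⟩
    rw [hext y 1 fun t => isEmptyElim t, MonObj.one_comp, _root_.mul_one]
    exact torus_mem_upPts C (diag_pt C hdiag) (-b) σ _ rfl
  · obtain ⟨t, rfl⟩ := he
    exact exists_isRoot_of_coord C hdiag iU (tStab_unip hdiag b iU hU) p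
      (fun t h => (hp t).ne (by rw [h])) hbij t fun h0 => by
        have := hpos _ ⟨t, rfl⟩
        simp only at this
        rw [h0] at this
        simp [pairing] at this
  · obtain ⟨σ, y, rfl⟩ := hdec q hq
    obtain ⟨y', hy'⟩ := tStab_unip hdiag b iU hU _ τ y
    have hyy : y' = y := hext y' y fun t => by
      have h1 := entry_conj C hdiag τ (y ≫ iU) (y' ≫ iU) (by rw [hy', inv_mul_cancel_right]) (p t).1 (p t).2
      have h2 := hτ _ ⟨t, rfl⟩
      have h3 : ptChr C τ (Multiplicative.ofAdd (a (p t).1)) = ptChr C τ (Multiplicative.ofAdd (a (p t).2)) := by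
        rw [show a (p t).1 = (a (p t).1 - a (p t).2) + a (p t).2 from (sub_add_cancel _ _).symm, ofAdd_add, map_mul, h2,
          _root_.one_mul]
      have h4 : ptChr C τ (Multiplicative.ofAdd (a (p t).2)) ≠ 0 :=
        ((Group.isUnit (Multiplicative.ofAdd (a (p t).2))).map (ptChr C τ)).ne_zero
      rw [h3, mul_comm] at h1
      exact mul_left_cancel₀ h4 h1
    rw [hyy] at hy'
    have hστ : (τ ≫ iT) * (σ ≫ iT) = (σ ≫ iT) * (τ ≫ iT) := by
      rw [← MonObj.mul_comp, ← MonObj.mul_comp, commute_of_chars C τ σ]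
    rw [← _root_.mul_assoc, hστ, _root_.mul_assoc, _root_.mul_assoc, eq_mul_inv_iff_mul_eq.1 hy']

/-- Exponents of proportional characters are proportional. -/
theorem smul_eq_of_zpow_eq {α β : T ⟶ Red.Gm (Spec (CommRingCat.of k))} {eα eβ : Fin d → ℤ}
    (hα : ∀ (X : Over (Spec (CommRingCat.of k))) (x : X ⟶ T), Red.gmFn (x ≫ α) = C.ch x (Multiplicative.ofAdd eα))
    (hβ : ∀ (X : Over (Spec (CommRingCat.of k))) (x : X ⟶ T), Red.gmFn (x ≫ β) = C.ch x (Multiplicative.ofAdd eβ))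
    {m l : ℤ} (h : α ^ m = β ^ l) : m • eα = l • eβ := by
  have hchi : Red.chi (Spec (CommRingCat.of k)) (1 : ℤ) = 𝟙 _ := (charsDS _ ℤ).inj fun z => by
    obtain ⟨z, rfl⟩ := Multiplicative.ofAdd.surjective z
    rw [Red.chi]
    have := AttrBorel21.gmFn_DSmap (𝟙 (Red.DS (Spec (CommRingCat.of k)) ℤ)) (zmultiplesHom ℤ (1 : ℤ)) z
    rw [Category.id_comp] at this
    rw [this]
    simp
  have hgm : ∀ (X : Over (Spec (CommRingCat.of k))) (z : X ⟶ Red.Gm (Spec (CommRingCat.of k))),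
      Red.gmFn z = (charsDS (Spec (CommRingCat.of k)) ℤ).ch z (Multiplicative.ofAdd 1) := fun X z => by
    rw [← AttrBorel21.gmFn_chi, hchi]
    exact congrArg Red.gmFn (Category.comp_id z).symm
  funext q
  let b' : Fin d → ℤ := Pi.single q 1
  have key : ∀ s : kˣ, s ^ (m * pairing eα b') = s ^ (l * pairing eβ b') := fun s => by
    obtain ⟨τ, hτ⟩ := exists_cochar_pt C b' s
    let f : (T ⟶ Red.Gm (Spec (CommRingCat.of k))) → kˣ := fun ζ => MonoidHom.toHomUnits
      (ptChr (charsDS (Spec (CommRingCat.of k)) ℤ) (τ ≫ ζ)) (Multiplicative.ofAdd 1)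
    have hf : ∀ ζ ζ', f (ζ * ζ') = f ζ * f ζ' := fun ζ ζ' => Units.ext (by
      show InvRing21.ptHom k ((charsDS (Spec (CommRingCat.of k)) ℤ).ch (τ ≫ (ζ * ζ')) (Multiplicative.ofAdd 1)) =
        InvRing21.ptHom k ((charsDS (Spec (CommRingCat.of k)) ℤ).ch (τ ≫ ζ) (Multiplicative.ofAdd 1)) *
          InvRing21.ptHom k ((charsDS (Spec (CommRingCat.of k)) ℤ).ch (τ ≫ ζ') (Multiplicative.ofAdd 1))
      rw [MonObj.comp_mul, (charsDS (Spec (CommRingCat.of k)) ℤ).mul, map_mul])
    let Φ : (T ⟶ Red.Gm (Spec (CommRingCat.of k))) →* kˣ := MonoidHom.mk' f hf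
    have hΦ : ∀ {ζ e}, (∀ (X : Over (Spec (CommRingCat.of k))) (x : X ⟶ T),
        Red.gmFn (x ≫ ζ) = C.ch x (Multiplicative.ofAdd e)) → Φ ζ = s ^ pairing e b' := fun {ζ e} hζ => Units.ext (by
      show InvRing21.ptHom k ((charsDS (Spec (CommRingCat.of k)) ℤ).ch (τ ≫ ζ) (Multiplicative.ofAdd 1)) = _
      rw [← hgm, hζ]
      exact hτ e)
    have h1 := congrArg Φ h
    rw [map_zpow, map_zpow, hΦ hα, hΦ hβ, ← zpow_mul, ← zpow_mul, mul_comm _ m, mul_comm _ l] at h1
    exact h1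
  have h2 := BorelLam21.zpow_inj key
  simpa [b', pairing, Pi.single_apply] using h2

include hdiag hG hT in
/-- With proportional roots the entries have weights on one line. -/
theorem exists_line (hns : ¬ Red.IsSolvableGrp G) (b : Fin d → ℤ) (hsep : ∀ i j, wt a b i = wt a b j → a i = a j)
    (hprop : ∀ α β : T ⟶ Red.Gm (Spec (CommRingCat.of k)), LieWt.IsRoot iT α → LieWt.IsRoot iT β →
      ∃ m n : ℤ, m ≠ 0 ∧ n ≠ 0 ∧ α ^ m = β ^ n) :
    ∃ δ : Fin d → ℤ, 0 < pairing δ b ∧ ∀ i j, mat r i j ≠ 0 → ∀ p q, δ p * (a i - a j) q = δ q * (a i - a j) p := by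
  have hsep' : ∀ i j, wt a (-b) i = wt a (-b) j → a i = a j := fun i j h =>
    hsep i j (by rw [BigCell21.wt_neg] at h; exact neg_injective h)
  obtain ⟨W, ⟨δ, hδW⟩, hW, hWc⟩ := exists_root_coords C hdiag hG hT hns b hsep
  obtain ⟨W', -, hW', hWc'⟩ := exists_root_coords C hdiag hG hT hns (-b) hsep'
  obtain ⟨hδ0, α, hα, hαe⟩ := hW δ hδW
  have hline : ∀ e, (∃ β : T ⟶ Red.Gm (Spec (CommRingCat.of k)), LieWt.IsRoot iT β ∧
      ∀ (X : Over (Spec (CommRingCat.of k))) (x : X ⟶ T), Red.gmFn (x ≫ β) = C.ch x (Multiplicative.ofAdd e)) →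
      ∀ p q, δ p * e q = δ q * e p := by
    rintro e ⟨β, hβ, hβe⟩ p q
    obtain ⟨m, l, hm, hl, h⟩ := hprop α β hα hβ
    have h2 := smul_eq_of_zpow_eq C hαe hβe h
    have hp' : m * δ p = l * e p := congrFun h2 p
    have hq' : m * δ q = l * e q := congrFun h2 q
    refine mul_left_cancel₀ hl ?_
    calc l * (δ p * e q) = δ p * (l * e q) := by ring
      _ = δ q * (m * δ p) := by rw [← hq']; ring
      _ = l * (δ q * e p) := by rw [hp']; ring
  refine ⟨δ, hδ0, fun i j hij p q => ?_⟩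
  have h : ∀ s : kˣ, s ^ (δ p * a i q - δ q * a i p) = s ^ (δ p * a j q - δ q * a j p) := fun s => by
    by_contra hne
    obtain ⟨τ, hτ⟩ := exists_cochar_pt C (δ p • Pi.single q 1 - δ q • Pi.single p 1) s
    have hp : ∀ m : Fin d → ℤ, pairing m (δ p • Pi.single q 1 - δ q • Pi.single p 1) = δ p * m q - δ q * m p := by
      intro m
      simp [pairing, mul_sub, Finset.sum_sub_distrib, Pi.single_apply, mul_comm]
    have hτ' : ∀ m : Fin d → ℤ, ptChr C τ (Multiplicative.ofAdd m) = ((s ^ (δ p * m q - δ q * m p) : kˣ) : k) :=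
      fun m => by rw [hτ, hp]
    have hkill : ∀ e, (∀ p q, δ p * e q = δ q * e p) → ptChr C τ (Multiplicative.ofAdd e) = 1 := fun e he => by
      rw [hτ', he p q, sub_self, zpow_zero, Units.val_one]
    have hcomm : ∀ p' q' : VecGrp.pt k k ⟶ G, p' ∈ upPts r (wt a (-b)) → q' ∈ upPts r (wt a b) →
        (τ ≫ iT) * (p' * q') = (p' * q') * (τ ≫ iT) := fun p' q' hp' hq' => by
      rw [← _root_.mul_assoc, hWc' τ (fun e he => hkill e (hline e (hW' e he).2)) p' hp', _root_.mul_assoc,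
        hWc τ (fun e he => hkill e (hline e (hW e he).2)) q' hq', ← _root_.mul_assoc]
    refine hij (eq_zero_of_cell C hdiag b _ fun p' q' hp' hq' => ?_)
    have h1 := entry_conj C hdiag τ (p' * q') (p' * q') (hcomm p' q' hp' hq').symm i j
    rw [hτ', hτ', pmat_apply] at h1
    by_contra h0
    exact hne (Units.ext (mul_left_cancel₀ h0 (h1.trans (mul_comm _ _))).symm)
  have h2 := BorelLam21.zpow_inj h
  simp only [Pi.sub_apply]
  linarith

theorem pairing_line {δ e b b' : Fin d → ℤ} (h : ∀ p q, δ p * e q = δ q * e p) :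
    pairing e b' * pairing δ b = pairing δ b' * pairing e b := by
  simp only [pairing, Finset.sum_mul_sum]
  refine Finset.sum_congr rfl fun p _ => Finset.sum_congr rfl fun q _ => ?_
  calc e p * b' p * (δ q * b q) = (δ q * e p) * (b' p * b q) := by ring
    _ = _ := by rw [← h p q]; ring

/-- Contracted points of a cocharacter of the same sign. -/
theorem upPts_le_of_line {δ b b' : Fin d → ℤ} (hδ : 0 < pairing δ b) (hb' : 0 ≤ pairing δ b')
    (hline : ∀ i j, mat r i j ≠ 0 → ∀ p q, δ p * (a i - a j) q = δ q * (a i - a j) p) :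
    upPts r (wt a b) ≤ upPts r (wt a b') := fun x hx i j hij => by
  by_contra hne
  have hmat : mat r i j ≠ 0 := fun h0 => hne (by
    show (mtxFn r x : Matrix (Fin n) (Fin n) k) i j = 0
    rw [coe_mtxFn_eq_pmat, pmat_apply, h0, map_zero])
  have h := pairing_line (b := b) (b' := b') (hline i j hmat)
  rw [pairing_sub', pairing_sub'] at h
  refine hne (hx i j ?_)
  by_contra hle
  have h1 : (pairing (a i) b' - pairing (a j) b') * pairing δ b < 0 :=
    mul_neg_of_neg_of_pos (sub_neg.2 hij) hδ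
  have h2 : 0 ≤ pairing δ b' * (pairing (a i) b - pairing (a j) b) :=
    mul_nonneg hb' (sub_nonneg.2 (not_lt.1 hle))
  omega

include hdiag hG hT in
/-- The points of a Borel subgroup through the torus are contracted by some cocharacter. -/
theorem exists_upPts_eq {B : Over (Spec (CommRingCat.of k))} [GrpObj B] {iB : B ⟶ G}
    (hB : Red.IsBorelOver k iB) (t : T ⟶ B) (ht : t ≫ iB = iT) :
    ∃ b' : Fin d → ℤ, ∀ x, (∃ y, y ≫ iB = x) ↔ x ∈ upPts r (wt a b') := by
  obtain ⟨F, hF, hFT⟩ := UMod21.exists_frame hG hB t (by rw [ht]; exact hT)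
  haveI := F.maxT.1
  haveI := F.maxT.2.1
  obtain ⟨hTa, hTs, -, -⟩ := props_of_isTorus hT.2.2.1
  haveI := hTa
  haveI := hTs
  obtain ⟨hFa, hFs, -, -⟩ := props_of_isTorus F.maxT.2.2.1
  haveI := hFa
  haveI := hFs
  haveI := hT.2.1
  haveI := isClosedImmersion_of_torus hT.2.2.1 iT
  haveI := isClosedImmersion_of_torus F.maxT.2.2.1 F.iT
  obtain ⟨g, hg⟩ := exists_lift_of_pts F.iT iT fun τ => by
    obtain ⟨τ', hτ'⟩ := hFT τ
    exact ⟨τ', hτ'.trans (by rw [ht])⟩
  haveI : IsIso g := hT.2.2.2 F.T F.iT g F.maxT.2.2.1 hg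
  let φ : F.T ⟶ T := inv g
  have hφ : φ ≫ iT = F.iT := (IsIso.inv_comp_eq _).2 hg.symm
  haveI : IsMonHom φ := BorelFix21.isMonHom_of_comp iT φ (hφ.symm ▸ F.maxT.1)
  obtain ⟨b', hb⟩ := exists_cochar_transport C F.C φ F.b
  refine ⟨b', fun x => (hF x).trans ?_⟩
  choose τ hτ using fun s : kˣ => exists_cochar_pt F.C F.b s
  show x ∈ upPts F.r (wt F.a F.b) ↔ _
  rw [mem_upPts_iff (lam := fun s => τ s ≫ F.iT), mem_upPts_iff (lam := fun s => τ s ≫ F.iT)]
  · intro s
    show (mtxFn r (τ s ≫ F.iT) : Matrix (Fin n) (Fin n) k) = _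
    rw [← hφ, ← Category.assoc, diag_pt C hdiag, dg]
    congr 1
    funext j
    exact hb s (τ s) (hτ s) (a j)
  · intro s
    show (mtxFn F.r (τ s ≫ F.iT) : Matrix (Fin F.n) (Fin F.n) k) = _
    rw [F.diag, dg]
    congr 1
    funext j
    exact hτ s (F.a j)

end Groth.Agent.RankOne21
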